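import Cfsg.Agent.Lib.Chars.Completeness
import Cfsg.Agent.Lib.Chars.Ops
import Cfsg.Agent.Lib.Chars.Integral
import Cfsg.Agent.Lib.BrauerSuzuki.Involutions

/-!
General tools for the character argument: column orthogonality as a count of conjugators, the
class algebra count, the parity of a character along an involution, character sums of abelian
groups.
-/

set_option autoImplicit false

namespace Cfsg.Agent.Lib.ReeThree91

open Cfsg Cfsg.Agent.Lib.Chars
open scoped ComplexConjugate Classical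

universe u

variable {G : Type u} [Group G]

theorem sum_irr_mul_conj [Fintype G] (g h : G) :
    ∑ χ : IrrCharacter G, (χ : G → ℂ) g * conj ((χ : G → ℂ) h)
      = ((Finset.univ.filter fun x : G => x * g * x⁻¹ = h).card : ℂ) := by
  rw [column_orthogonality_eq, classIndicator]
  split_ifs with hc
  · obtain ⟨c, hc'⟩ := isConj_iff.mp hc.symm
    rw [mul_one, Nat.cast_inj, ← Fintype.card_subtype, ← Nat.card_eq_fintype_card]
    refine Nat.card_congr
      { toFun := fun z => ⟨(z : G) * c, ?_⟩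
        invFun := fun x => ⟨(x : G) * c⁻¹, ?_⟩
        left_inv := fun z => Subtype.ext (by simp)
        right_inv := fun x => Subtype.ext (by simp) }
    · have hz : (z : G) * h = h * z := Subgroup.mem_centralizer_singleton_iff.mp z.2
      calc (z : G) * c * g * ((z : G) * c)⁻¹ = (z : G) * (c * g * c⁻¹) * (z : G)⁻¹ := by group
        _ = h := by rw [hc', hz, mul_inv_cancel_right]
    · refine Subgroup.mem_centralizer_singleton_iff.mpr ?_
      calc (x : G) * c⁻¹ * h = (x : G) * c⁻¹ * (c * g * c⁻¹) := by rw [hc']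
        _ = (x : G) * g * (x : G)⁻¹ * ((x : G) * c⁻¹) := by group
        _ = h * ((x : G) * c⁻¹) := by rw [x.2]
  · rw [mul_zero, Finset.filter_false_of_mem, Finset.card_empty, Nat.cast_zero]
    exact fun x _ hx => hc (isConj_iff.mpr ⟨x, hx⟩).symm

/-- The number of ways of writing `g` as a product of two conjugates of `t`. -/
noncomputable def pairCount (t g : G) : ℕ :=
  Nat.card {p : G × G // IsConj t p.1 ∧ IsConj t p.2 ∧ p.1 * p.2 = g}

theorem class_pair_sum [Fintype G] (t g : G) :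
    ∑ χ : IrrCharacter G, ((((Finset.univ.filter (IsConj t)).card : ℂ) * (χ : G → ℂ) t) ^ 2
        / (χ : G → ℂ) 1) * conj ((χ : G → ℂ) g)
      = (Nat.card G : ℂ) * (pairCount t g : ℂ) := by
  set C := Finset.univ.filter (IsConj t) with hC
  have h1 : ∀ χ : IrrCharacter G, ((C.card : ℂ) * (χ : G → ℂ) t) ^ 2 / (χ : G → ℂ) 1
      = ∑ x ∈ C, ∑ y ∈ C, (χ : G → ℂ) (x * y) := fun χ => by
    rw [div_eq_iff (irr_apply_one_ne_zero χ), mul_comm]
    conv_rhs => rw [mul_comm]
    rw [hC, BrauerSuzuki.sum_sum_class χ t, mul_comm]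
  simp only [h1, Finset.sum_mul]
  rw [Finset.sum_comm, Finset.sum_congr rfl fun x _ => Finset.sum_comm]
  simp only [sum_irr_mul_conj, Finset.card_filter, Nat.cast_sum]
  rw [Finset.sum_congr rfl fun x _ => Finset.sum_comm, Finset.sum_comm,
    Finset.sum_congr rfl (g := fun _ => (pairCount t g : ℂ))]
  · simp [Nat.card_eq_fintype_card]
  intro z _
  rw [← Finset.sum_product', ← Nat.cast_sum, ← Finset.card_filter, Nat.cast_inj, pairCount,
    Nat.card_eq_fintype_card, Fintype.card_subtype]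
  have hmem : ∀ w : G, ∀ {x : G}, IsConj t x → IsConj t (w * x * w⁻¹) := fun w x hx =>
    hx.trans (isConj_iff.mpr ⟨w, rfl⟩)
  refine Finset.card_nbij' (fun p => (z * p.1 * z⁻¹, z * p.2 * z⁻¹))
    (fun p => (z⁻¹ * p.1 * z, z⁻¹ * p.2 * z)) ?_ ?_ ?_ ?_
  · intro p hp
    simp only [Finset.mem_coe, Finset.mem_filter, Finset.mem_product, hC, Finset.mem_univ,
      true_and] at hp ⊢
    refine ⟨hmem z hp.1.1, hmem z hp.1.2, ?_⟩
    rw [← hp.2]; group
  · intro p hp
    simp only [Finset.mem_coe, Finset.mem_filter, Finset.mem_product, hC, Finset.mem_univ,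
      true_and] at hp ⊢
    refine ⟨⟨by simpa using hmem z⁻¹ hp.1, by simpa using hmem z⁻¹ hp.2.1⟩, ?_⟩
    rw [← hp.2.2]; group
  · intro p _; simp [mul_assoc]
  · intro p _; simp [mul_assoc]

/-- Along an involution `z` centralizing `A`, `χ (a z) + χ a` is twice a character of `A`. -/
theorem exists_half_character [Finite G] {χ : G → ℂ} (hχ : IsCharacter G χ) (A : Subgroup G)
    {z : G} (hz : z * z = 1) (hA : ∀ a ∈ A, Commute a z) :
    ∃ σ : A → ℂ, IsCharacter A σ ∧ ∀ a : A, χ ((a : G) * z) + χ a = 2 * σ a := by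
  obtain ⟨n, ρ, rfl⟩ := hχ
  let P : Module.End ℂ (Fin n → ℂ) := (2 : ℂ)⁻¹ • (1 + ρ z)
  have hzz : ρ z * ρ z = 1 := by rw [← map_mul, hz, map_one]
  have hPP : P * P = P := by
    simp only [P, mul_add, add_mul, smul_mul_assoc, mul_smul_comm, one_mul, mul_one, hzz]
    module
  have hcomm : ∀ k : A, ρ (k : G) * P = P * ρ (k : G) := by
    intro k
    simp only [P, mul_smul_comm, smul_mul_assoc, mul_add, add_mul, one_mul, mul_one, ← map_mul,
      (hA k k.2).eq]
  let S : Subrepresentation (ρ.comp A.subtype) :=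
    { toSubmodule := LinearMap.range P
      apply_mem_toSubmodule := fun k v hv => by
        obtain ⟨w, rfl⟩ := hv
        exact ⟨ρ (k : G) w, (LinearMap.congr_fun (hcomm k) w).symm⟩ }
  refine ⟨_, isCharacter_of_rep S.toRepresentation, fun k => ?_⟩
  set F : Module.End ℂ (Fin n → ℂ) := ρ (k : G) * P with hF
  have hmem : ∀ v, F v ∈ LinearMap.range P := fun v => ⟨ρ (k : G) v, by
    rw [hF, hcomm k]; rfl⟩
  have h1 : S.toRepresentation.character k = LinearMap.trace ℂ _ F := by
    rw [← LinearMap.trace_restrict_eq_of_forall_mem (LinearMap.range P) F hmem]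
    simp only [Representation.character]
    congr 1
    refine LinearMap.ext fun v => Subtype.ext ?_
    obtain ⟨w, hw⟩ := v.2
    show ρ (k : G) v.1 = ρ (k : G) (P v.1)
    rw [← hw]
    show _ = ρ (k : G) ((P * P) w)
    rw [hPP]
  rw [h1, hF]
  simp only [P, mul_smul_comm, mul_add, mul_one, ← map_mul, map_smul, map_add, smul_eq_mul]
  simp only [Representation.character]
  ring

theorem exists_int_sum_hom [Fintype G] (α : G →* ℂˣ) {θ : G → ℂ}
    (hθ : IsGeneralizedCharacter G θ) :
    ∃ k : ℤ, ∑ a : G, (α a : ℂ) * conj (θ a) = (Nat.card G : ℂ) * k := by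
  obtain ⟨k, hk⟩ := isGeneralizedCharacter_classInner_int
    (isGeneralizedCharacter_of_isCharacter (isCharacter_hom α)) hθ
  exact ⟨k, by rw [← hk, classInner, ← mul_assoc, mul_inv_cancel₀ natCard_ne_zero, one_mul]⟩

/-- An inversion invariant sum over a group of odd order is the value at `1` plus twice an
algebraic integer. -/
theorem exists_half_sum [Fintype G] (hodd : Odd (Nat.card G)) (f : G → ℂ)
    (hf : ∀ a, IsIntegral ℤ (f a)) (hs : ∀ a, f a⁻¹ = f a) :
    ∃ w : ℂ, IsIntegral ℤ w ∧ ∑ a, f a = f 1 + 2 * w := by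
  let e := Fintype.equivFin G
  have hne : ∀ a : G, a ≠ 1 → a⁻¹ ≠ a := by
    intro a ha h
    have h2 : orderOf a ∣ 2 := orderOf_dvd_of_pow_eq_one (by
      rw [pow_two]; nth_rewrite 1 [← h]; exact inv_mul_cancel a)
    rcases (Nat.dvd_prime Nat.prime_two).mp h2 with h1 | h1
    · exact ha (orderOf_eq_one_iff.mp h1)
    · exact (Nat.not_even_iff_odd.mpr hodd) (even_iff_two_dvd.mpr
        (h1 ▸ orderOf_dvd_natCard a))
  refine ⟨∑ a ∈ Finset.univ.filter (fun a => e a < e a⁻¹), f a,
    IsIntegral.sum _ fun a _ => hf a, ?_⟩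
  rw [← Finset.add_sum_erase _ f (Finset.mem_univ 1),
    ← Finset.sum_filter_add_sum_filter_not (Finset.univ.erase 1) (fun a => e a < e a⁻¹) f]
  have e1 : (Finset.univ.erase (1 : G)).filter (fun a => e a < e a⁻¹)
      = Finset.univ.filter (fun a => e a < e a⁻¹) := by
    ext a
    simp only [Finset.mem_filter, Finset.mem_erase, Finset.mem_univ, and_true, true_and]
    exact ⟨fun h => h.2, fun h => ⟨by rintro rfl; simp at h, h⟩⟩
  rw [e1, two_mul]
  congr 2
  refine Finset.sum_nbij' (fun a => a⁻¹) (fun a => a⁻¹) ?_ ?_ (fun a _ => inv_inv a)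
    (fun a _ => inv_inv a) (fun a _ => (hs a).symm)
  · intro a ha
    simp only [Finset.mem_coe, Finset.mem_filter, Finset.mem_erase, Finset.mem_univ, and_true,
      true_and, inv_inv, not_lt] at ha ⊢
    exact lt_of_le_of_ne ha.2 fun h => hne a ha.1 (e.injective h)
  · intro a ha
    simp only [Finset.mem_coe, Finset.mem_filter, Finset.mem_erase, Finset.mem_univ, and_true,
      true_and, inv_inv, not_lt] at ha ⊢
    exact ⟨by rintro h; rw [inv_eq_one] at h; subst h; simp at ha, ha.le⟩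

theorem sum_hom_eq [Fintype G] (j : G →* ℂˣ) :
    ∑ a : G, (j a : ℂ) = if j = 1 then (Nat.card G : ℂ) else 0 := by
  split_ifs with h
  · subst h; simp [Nat.card_eq_fintype_card]
  · obtain ⟨b, hb⟩ := not_forall.mp fun h' => h (MonoidHom.ext h')
    have hb' : (j b : ℂ) ≠ 1 := fun h' => hb (Units.ext h')
    have e : (j b : ℂ) * ∑ a : G, (j a : ℂ) = ∑ a : G, (j a : ℂ) := by
      rw [Finset.mul_sum, ← Equiv.sum_comp (Equiv.mulLeft b) (fun a => (j a : ℂ))]
      simp
    have : ((j b : ℂ) - 1) * ∑ a : G, (j a : ℂ) = 0 := by rw [sub_mul, e, one_mul, sub_self]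
    exact (mul_eq_zero.mp this).resolve_left (sub_ne_zero.mpr hb')

theorem conj_hom_apply [Finite G] (j : G →* ℂˣ) (a : G) :
    conj (j a : ℂ) = (j a⁻¹ : ℂ) := (isCharacter_inv_apply (isCharacter_hom j) a).symm

end Cfsg.Agent.Lib.ReeThree91

namespace Cfsg.Agent.Lib.ReeThree91

open scoped Classical

variable {A : Type*} [CommGroup A] [Finite A]

theorem finite_dual : Finite (A →* ℂˣ) := by
  obtain ⟨e⟩ := CommGroup.monoidHom_mulEquiv_of_hasEnoughRootsOfUnity A ℂ
  exact Finite.of_equiv A e.symm.toEquiv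

theorem sum_dual_apply [Fintype (A →* ℂˣ)] (a : A) :
    ∑ j : A →* ℂˣ, (j a : ℂ) = if a = 1 then (Nat.card A : ℂ) else 0 := by
  split_ifs with h
  · subst h
    simp [← Nat.card_eq_fintype_card,
      CommGroup.card_monoidHom_of_hasEnoughRootsOfUnity A ℂ]
  · obtain ⟨φ, hφ⟩ := CommGroup.exists_apply_ne_one_of_hasEnoughRootsOfUnity A ℂ h
    have hφ' : (φ a : ℂ) ≠ 1 := fun h' => hφ (Units.ext h')
    have e : (φ a : ℂ) * ∑ j : A →* ℂˣ, (j a : ℂ) = ∑ j : A →* ℂˣ, (j a : ℂ) := by
      rw [Finset.mul_sum, ← Equiv.sum_comp (Equiv.mulLeft φ) (fun j => (j a : ℂ))]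
      simp
    have : ((φ a : ℂ) - 1) * ∑ j : A →* ℂˣ, (j a : ℂ) = 0 := by rw [sub_mul, e, one_mul, sub_self]
    exact (mul_eq_zero.mp this).resolve_left (sub_ne_zero.mpr hφ')

end Cfsg.Agent.Lib.ReeThree91
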