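import Cfsg.Agent.Lib.ReeThree91.Spec
import Cfsg.Agent.Lib.ReeThree91.Tools

/-!
The inner products of the vectors `χ ↦ ∑ α a * conj (χ (a t))`, `a` in a subgroup of odd order of
`K`.
-/

set_option autoImplicit false

namespace Cfsg.Agent.Lib.ReeThree91

open Cfsg Cfsg.Agent.Lib.Chars
open scoped ComplexConjugate Classical

universe u

variable {G : Type u} [Group G]

/-- A function on a subgroup, extended by zero. -/
noncomputable def ext (H : Subgroup G) (f : H → ℂ) (g : G) : ℂ :=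
  if h : g ∈ H then f ⟨g, h⟩ else 0

theorem ext_of_mem {H : Subgroup G} (f : H → ℂ) {g : G} (h : g ∈ H) : ext H f g = f ⟨g, h⟩ :=
  dif_pos h

theorem ext_of_notMem {H : Subgroup G} (f : H → ℂ) {g : G} (h : g ∉ H) : ext H f g = 0 :=
  dif_neg h

variable [Fintype G]

theorem card_two_cosets (H : Subgroup G) {z : G} (hz : z * z = 1) (hzH : z ∉ H) :
    (Finset.univ.filter fun x : G => x ∈ H ∨ z * x ∈ H).card = 2 * Nat.card H := by
  rw [Finset.filter_or, Finset.card_union_of_disjoint, two_mul]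
  · congr 1
    · rw [Nat.card_eq_fintype_card, Fintype.card_subtype]
    · rw [Nat.card_eq_fintype_card, Fintype.card_subtype]
      refine Finset.card_nbij' (z * ·) (z * ·) ?_ ?_ ?_ ?_ <;>
        intro x <;> simp [← mul_assoc, hz]
  · rw [Finset.disjoint_filter]
    intro x _ h1 h2
    exact hzH (by simpa using H.mul_mem h2 (H.inv_mem h1))

theorem sum_subgroup_eq_of_le {A B : Subgroup G} (h : A ≤ B) (f : G → ℂ)
    (h0 : ∀ k ∈ B, k ∉ A → f k = 0) : ∑ k : B, f k = ∑ k : A, f k := by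
  rw [← Finset.sum_subtype (Finset.univ.filter (· ∈ B)) (fun x => by simp) f,
    ← Finset.sum_subtype (Finset.univ.filter (· ∈ A)) (fun x => by simp) f]
  exact (Finset.sum_subset (fun x hx => by simp at hx ⊢; exact h hx)
    fun x hx hx' => h0 x (by simpa using hx) (by simpa using hx')).symm

variable (d : Data G)

namespace Data

theorem q_pos : 0 < d.q := by rw [d.hq]; positivity

theorem q_three : 3 ∣ d.q := by rw [d.hq]; exact dvd_pow_self 3 (by omega)

theorem odd_q : Odd d.q := ⟨d.c, d.hc⟩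

theorem c_mod : d.c % 3 = 1 := by
  have h1 := d.q_three
  have h2 := d.hc
  omega

theorem odd_c : Odd d.c := by
  have h1 := d.hc
  have h2 := d.hτ
  rw [Nat.odd_iff]; omega

theorem τ_ne : ¬ 3 ∣ d.τ := by
  have h1 := d.q_three
  have h2 := d.hτ
  omega

theorem cτ_coprime : Nat.Coprime d.c d.τ := by
  refine Nat.coprime_of_dvd' fun k hk h1 h2 => ?_
  have h3 : k ∣ 2 * d.τ := dvd_mul_of_dvd_right h2 2
  have h4 : 2 * d.τ = d.c + 1 := by have := d.hc; have := d.hτ; omega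
  rw [h4] at h3
  exact (Nat.dvd_add_right h1).mp h3

theorem two_tau_sub : 2 * (d.τ : ℂ) - (d.c : ℂ) = 1 := by
  have h : 2 * d.τ = d.c + 1 := by have := d.hc; have := d.hτ; omega
  have h' : 2 * (d.τ : ℂ) = (d.c : ℂ) + 1 := by exact_mod_cast h
  rw [h']; ring

theorem tt : d.t * d.t = 1 := by rw [← pow_two, ← d.ht]; exact pow_orderOf_eq_one _

theorem vv : d.v * d.v = 1 := by rw [← pow_two, ← d.hv]; exact pow_orderOf_eq_one _

theorem ii : d.i * d.i = 1 := by rw [← pow_two, ← d.hi]; exact pow_orderOf_eq_one _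

theorem odd_E : Odd (Nat.card d.E) := by rw [d.cardE]; exact d.odd_q

theorem odd_B : Odd (Nat.card d.B) := by rw [d.cardB]; exact d.odd_q.mul d.odd_c

theorem odd_T : Odd (Nat.card d.T) := by rw [d.cardT]; exact d.hτodd

theorem v_notMem_T : d.v ∉ d.T := fun h => by
  have h1 : orderOf d.v ∣ Nat.card d.T := d.T.orderOf_dvd_natCard h
  rw [d.hv] at h1
  exact Nat.not_even_iff_odd.mpr d.odd_T (even_iff_two_dvd.mpr h1)

/-- An element of `C(t)` acts on `K` as an element of `K`. -/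
theorem cent_cases {x : G} (hx : x * d.t = d.t * x) :
    ∃ k ∈ d.K, (x = k ∨ x = d.t * k) ∧ ∀ a ∈ d.K, x * a * x⁻¹ = k * a * k⁻¹ := by
  rcases d.K_cent x hx with h | h
  · exact ⟨x, h, Or.inl rfl, fun a _ => rfl⟩
  · refine ⟨d.t * x, h, Or.inr (by rw [← mul_assoc, d.tt, one_mul]), fun a ha => ?_⟩
    have hk : d.t * x * a * (d.t * x)⁻¹ ∈ d.K := d.K.mul_mem (d.K.mul_mem h ha) (d.K.inv_mem h)
    have hc := d.K_comm _ hk
    calc x * a * x⁻¹ = d.t⁻¹ * (d.t * x * a * (d.t * x)⁻¹ * d.t) := by group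
      _ = d.t * x * a * (d.t * x)⁻¹ := by rw [hc, inv_mul_cancel_left]

/-- Powers recovering `t`. -/
theorem conj_mul_t {a b x : G} (ha : a ∈ d.K) (hb : b ∈ d.K) {m : ℕ} (hm : Odd m) (hma : a ^ m = 1)
    (hmb : b ^ m = 1) (h : x * (a * d.t) * x⁻¹ = b * d.t) :
    x * d.t = d.t * x ∧ x * a * x⁻¹ = b := by
  have htm : d.t ^ m = d.t := by
    obtain ⟨l, rfl⟩ := hm
    rw [pow_succ, pow_mul, pow_two, d.tt, one_pow, one_mul]
  have h1 := congrArg (· ^ m) h
  simp only [conj_pow, Commute.mul_pow (d.K_comm a ha), Commute.mul_pow (d.K_comm b hb), hma, hmb,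
    htm, one_mul] at h1
  refine ⟨mul_inv_eq_iff_eq_mul.mp h1, ?_⟩
  calc x * a * x⁻¹ = x * (a * d.t) * x⁻¹ * (x * d.t * x⁻¹)⁻¹ := by group
    _ = b := by rw [h, h1]; group

theorem card_conjugators {a b : G} (ha : a ∈ d.K) (hb : b ∈ d.K) {m : ℕ} (hm : Odd m)
    (hma : a ^ m = 1) (hmb : b ^ m = 1) :
    (Finset.univ.filter fun x : G => x * (a * d.t) * x⁻¹ = b * d.t).card
      = 2 * (Finset.univ.filter fun k : d.K => (k : G) * a * (k : G)⁻¹ = b).card := by
  let f : d.K × Bool → G := fun p => cond p.2 (d.t * p.1) p.1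
  have hf : Function.Injective f := by
    rintro ⟨k, _ | _⟩ ⟨l, _ | _⟩ h <;> simp only [f, cond_true, cond_false] at h
    · rw [Subtype.ext h]
    · exact absurd (by rw [h, mul_inv_cancel_right]) (fun e : (k : G) * (l : G)⁻¹ = d.t =>
        d.htK (e ▸ d.K.mul_mem k.2 (d.K.inv_mem l.2)))
    · exact absurd (by rw [← h, mul_inv_cancel_right]) (fun e : (l : G) * (k : G)⁻¹ = d.t =>
        d.htK (e ▸ d.K.mul_mem l.2 (d.K.inv_mem k.2)))
    · rw [Subtype.ext (mul_left_cancel h)]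
  rw [show (Finset.univ.filter fun x : G => x * (a * d.t) * x⁻¹ = b * d.t)
      = ((Finset.univ.filter fun k : d.K => (k : G) * a * (k : G)⁻¹ = b) ×ˢ
          (Finset.univ : Finset Bool)).image f from ?_, Finset.card_image_of_injective _ hf,
    Finset.card_product, Finset.card_univ, Fintype.card_bool, mul_comm]
  ext x
  simp only [Finset.mem_filter, Finset.mem_univ, true_and, Finset.mem_image, Finset.mem_product,
    and_true]
  constructor
  · intro hx
    obtain ⟨hxt, hxa⟩ := d.conj_mul_t ha hb hm hma hmb hx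
    obtain ⟨k, hk, hor, hact⟩ := d.cent_cases hxt
    rw [hact a ha] at hxa
    rcases hor with h | h
    · exact ⟨(⟨k, hk⟩, false), hxa, h.symm⟩
    · exact ⟨(⟨k, hk⟩, true), hxa, h.symm⟩
  · rintro ⟨⟨k, _ | _⟩, hk, rfl⟩ <;> simp only [f, cond_true, cond_false] at hk ⊢
    · calc (k : G) * (a * d.t) * (k : G)⁻¹
            = (k : G) * a * (k : G)⁻¹ * ((k : G) * d.t * (k : G)⁻¹) := by group
        _ = b * d.t := by rw [hk, d.K_comm k k.2, mul_inv_cancel_right]
    · calc d.t * (k : G) * (a * d.t) * (d.t * (k : G))⁻¹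
            = d.t * ((k : G) * a * (k : G)⁻¹ * ((k : G) * d.t * (k : G)⁻¹)) * d.t⁻¹ := by group
        _ = d.t * b := by rw [hk, d.K_comm k k.2, mul_inv_cancel_right, ← mul_assoc,
          mul_inv_cancel_right]
        _ = b * d.t := (d.K_comm b hb).symm

/-- The vector attached to a function on a subgroup of `K`. -/
noncomputable def col (A : Subgroup G) (α : A → ℂ) (χ : IrrCharacter G) : ℂ :=
  ∑ a : A, α a * conj ((χ : G → ℂ) ((a : G) * d.t))

theorem col_inner {A B : Subgroup G} (hA : A ≤ d.K) (hB : B ≤ d.K) (hAodd : Odd (Nat.card A))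
    (hBodd : Odd (Nat.card B)) (α : A → ℂ) (β : B → ℂ) :
    ∑ χ : IrrCharacter G, d.col A α χ * conj (d.col B β χ)
      = 2 * ∑ a : A, α a * ∑ k : d.K, ext B (fun b => conj (β b)) ((k : G) * a * (k : G)⁻¹) := by
  simp only [col, map_sum, map_mul, Complex.conj_conj, Finset.sum_mul_sum]
  rw [Finset.sum_comm, Finset.mul_sum]
  refine Finset.sum_congr rfl fun a _ => ?_
  rw [Finset.sum_comm]
  have hcount : ∀ b : B, ∑ χ : IrrCharacter G,
      α a * conj ((χ : G → ℂ) ((a : G) * d.t)) * (conj (β b) * (χ : G → ℂ) ((b : G) * d.t))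
      = α a * (conj (β b) *
        (2 * ((Finset.univ.filter fun k : d.K => (k : G) * a * (k : G)⁻¹ = b).card : ℂ))) := by
    intro b
    have hm : Odd (Nat.card A * Nat.card B) := hAodd.mul hBodd
    have ha1 : (a : G) ^ (Nat.card A * Nat.card B) = 1 := by
      rw [pow_mul, show (a : G) ^ Nat.card A = 1 from congrArg Subtype.val (pow_card_eq_one' (x := a)),
        one_pow]
    have hb1 : (b : G) ^ (Nat.card A * Nat.card B) = 1 := by
      rw [mul_comm (Nat.card A), pow_mul,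
        show (b : G) ^ Nat.card B = 1 from congrArg Subtype.val (pow_card_eq_one' (x := b)), one_pow]
    have e := congrArg conj (sum_irr_mul_conj ((a : G) * d.t) ((b : G) * d.t))
    rw [d.card_conjugators (hA a.2) (hB b.2) hm ha1 hb1] at e
    simp only [map_sum, map_mul, Complex.conj_conj, Complex.conj_natCast, Nat.cast_mul,
      Nat.cast_ofNat, map_ofNat] at e
    rw [← e, Finset.mul_sum, Finset.mul_sum]
    exact Finset.sum_congr rfl fun χ _ => by ring
  simp only [hcount, Finset.card_filter, Nat.cast_sum, Finset.mul_sum]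
  rw [Finset.sum_comm]
  refine Finset.sum_congr rfl fun k _ => ?_
  by_cases h : (k : G) * a * (k : G)⁻¹ ∈ B
  · rw [ext_of_mem _ h, Finset.sum_eq_single ⟨_, h⟩]
    · simp; ring
    · intro b _ hb
      rw [if_neg fun e => hb (Subtype.ext e.symm)]; simp
    · simp
  · rw [ext_of_notMem _ h, mul_zero, mul_zero]
    refine Finset.sum_eq_zero fun b _ => ?_
    rw [if_neg fun e => h (by rw [e]; exact b.2)]; simp

theorem col_degree {A : Subgroup G} (hA : A ≤ d.K) (α : A → ℂ) :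
    ∑ χ : IrrCharacter G, d.col A α χ * (χ : G → ℂ) 1 = 0 := by
  simp only [col, Finset.sum_mul]
  rw [Finset.sum_comm]
  refine Finset.sum_eq_zero fun a _ => ?_
  have hne : ¬ IsConj (1 : G) ((a : G) * d.t) := fun h => by
    have h1 : (a : G) * d.t = 1 := by obtain ⟨c, hc⟩ := isConj_iff.mp h; rw [← hc]; simp
    exact d.htK (by rw [← inv_eq_of_mul_eq_one_right h1]; exact d.K.inv_mem (hA a.2))
  simp only [mul_assoc, ← Finset.mul_sum]
  rw [Finset.sum_congr rfl fun (χ : IrrCharacter G) _ =>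
      mul_comm (conj ((χ : G → ℂ) ((a : G) * d.t))) _,
    column_orthogonality_of_not_isConj hne, mul_zero]

/-- `ψ + conj ψ` on `E`. -/
noncomputable def wgt (ψ : d.E →* ℂˣ) (e : d.E) : ℂ := (ψ e : ℂ) + (ψ e⁻¹ : ℂ)

theorem wgt_one (ψ : d.E →* ℂˣ) : d.wgt ψ 1 = 2 := by simp [wgt]; norm_num

theorem wgt_conj (ψ : d.E →* ℂˣ) (e : d.E) : conj (d.wgt ψ e) = d.wgt ψ e := by
  rw [wgt, map_add, conj_hom_apply, conj_hom_apply, inv_inv, add_comm]

theorem wgt_inv (ψ : d.E →* ℂˣ) (e : d.E) : d.wgt ψ e⁻¹ = d.wgt ψ e := by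
  rw [wgt, wgt, inv_inv, add_comm]

theorem sum_wgt {ψ : d.E →* ℂˣ} (hψ : ψ ≠ 1) : ∑ e : d.E, d.wgt ψ e = 0 := by
  simp only [wgt, Finset.sum_add_distrib]
  rw [Fintype.sum_equiv (Equiv.inv d.E) (fun e : d.E => (ψ e⁻¹ : ℂ)) (fun e : d.E => (ψ e : ℂ))
    (fun e => rfl), sum_hom_eq, if_neg hψ, add_zero]

theorem B_fibre {e : G} (he : e ∈ d.E) (he1 : e ≠ 1) (x : G) :
    (Finset.univ.filter fun k : d.B => (k : G) * e * (k : G)⁻¹ = x).card
      + (Finset.univ.filter fun k : d.B => (k : G) * e * (k : G)⁻¹ = x⁻¹).card ≤ d.q := by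
  have hle : ∀ y : G, (Finset.univ.filter fun k : d.B => (k : G) * e * (k : G)⁻¹ = y).card ≤ d.q := by
    intro y
    rcases (Finset.univ.filter fun k : d.B => (k : G) * e * (k : G)⁻¹ = y).eq_empty_or_nonempty
      with h | ⟨l, hl⟩
    · simp [h]
    have hl' := (Finset.mem_filter.mp hl).2
    calc _ ≤ (Finset.univ.filter fun z : G => z ∈ d.E).card := by
          refine Finset.card_le_card_of_injOn (fun k => (l : G)⁻¹ * k) ?_ ?_
          · intro k hk
            simp only [Finset.coe_filter, Finset.mem_univ, true_and, Set.mem_ofPred_eq] at hk ⊢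
            refine d.E_cent e he he1 _
              (d.K.mul_mem (d.K.inv_mem (d.B_le l.2)) (d.B_le k.2)) ?_
            calc (l : G)⁻¹ * k * e = (l : G)⁻¹ * ((k : G) * e * (k : G)⁻¹) * k := by group
              _ = (l : G)⁻¹ * ((l : G) * e * (l : G)⁻¹) * k := by rw [hk, hl']
              _ = e * ((l : G)⁻¹ * k) := by group
          · intro a _ b _ h; exact Subtype.ext (mul_left_cancel h)
      _ = d.q := by rw [← d.cardE, Nat.card_eq_fintype_card, Fintype.card_subtype]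
  rcases (Finset.univ.filter fun k : d.B => (k : G) * e * (k : G)⁻¹ = x).eq_empty_or_nonempty
    with h | ⟨k, hk⟩
  · rw [h, Finset.card_empty, zero_add]; exact hle _
  rcases (Finset.univ.filter fun k : d.B => (k : G) * e * (k : G)⁻¹ = x⁻¹).eq_empty_or_nonempty
    with h | ⟨l, hl⟩
  · rw [h, Finset.card_empty, add_zero]; exact hle _
  exfalso
  have hk' := (Finset.mem_filter.mp hk).2
  have hl' := (Finset.mem_filter.mp hl).2
  refine d.E_notReal e he he1 _ (d.K.mul_mem (d.K.inv_mem (d.B_le k.2)) (d.B_le l.2)) ?_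
  calc (k : G)⁻¹ * l * e * ((k : G)⁻¹ * l)⁻¹
        = (k : G)⁻¹ * ((l : G) * e * (l : G)⁻¹) * k := by group
    _ = e⁻¹ := by rw [hl', ← hk']; group

theorem sum_B_wgt {ψ : d.E →* ℂˣ} (hψ : ψ ≠ 1) {e : d.E} (he : e ≠ 1) :
    ∑ k : d.B, ext d.E (d.wgt ψ) ((k : G) * e * (k : G)⁻¹) = -(d.q : ℂ) := by
  have he1 : (e : G) ≠ 1 := fun h => he (Subtype.ext h)
  let φ : d.B → d.E := fun k => ⟨(k : G) * e * (k : G)⁻¹, d.B_norm k k.2 e e.2⟩
  have hφ : ∀ (k : d.B) (x : d.E), φ k = x ↔ (k : G) * e * (k : G)⁻¹ = x := fun k x =>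
    Subtype.ext_iff
  let N : d.E → ℕ := fun x => (Finset.univ.filter fun k => φ k = x).card
  have hext : ∀ k : d.B, ext d.E (d.wgt ψ) ((k : G) * e * (k : G)⁻¹) = d.wgt ψ (φ k) := fun k =>
    ext_of_mem _ (φ k).2
  have hs : ∑ k : d.B, d.wgt ψ (φ k) = ∑ x : d.E, (N x : ℂ) * d.wgt ψ x := by
    rw [← Finset.sum_fiberwise Finset.univ φ]
    refine Finset.sum_congr rfl fun x _ => ?_
    rw [Finset.sum_congr rfl fun k hk => by rw [(Finset.mem_filter.mp hk).2], Finset.sum_const,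
      nsmul_eq_mul]
  have hN0 : N 1 = 0 := Finset.card_eq_zero.mpr (Finset.filter_eq_empty_iff.mpr fun k _ h => by
    have h' := (hφ k 1).mp h
    exact he1 (conj_eq_one_iff.mp h'))
  have hNsum : ∑ x : d.E, N x = d.q * d.c := by
    rw [← d.cardB, Nat.card_eq_fintype_card, ← Finset.card_univ,
      Finset.card_eq_sum_card_fiberwise (f := φ) (t := Finset.univ) (fun k _ => Finset.mem_univ _)]
  have hNle : ∀ x ∈ Finset.univ.erase (1 : d.E), N x + N x⁻¹ ≤ d.q := fun x _ => by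
    refine le_of_eq_of_le ?_ (d.B_fibre e.2 he1 x)
    simp only [N, hφ, InvMemClass.coe_inv]
  have hNeq : ∀ x ∈ Finset.univ.erase (1 : d.E), N x + N x⁻¹ = d.q := by
    refine (Finset.sum_eq_sum_iff_of_le hNle).mp ?_
    have e1 : ∑ x : d.E, (N x + N x⁻¹) = 2 * (d.q * d.c) := by
      rw [Finset.sum_add_distrib, Fintype.sum_equiv (Equiv.inv d.E) (fun x => N x⁻¹) N
        (fun x => rfl), hNsum, two_mul]
    rw [← Finset.add_sum_erase _ _ (Finset.mem_univ (1 : d.E)), inv_one, hN0, zero_add,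
      zero_add] at e1
    rw [e1, Finset.sum_const, Finset.card_erase_of_mem (Finset.mem_univ _), Finset.card_univ,
      ← Nat.card_eq_fintype_card, d.cardE, smul_eq_mul, d.hc]
    simp only [add_tsub_cancel_right]
    ring
  rw [Finset.sum_congr rfl fun k _ => hext k, hs]
  have e2 : 2 * ∑ x : d.E, (N x : ℂ) * d.wgt ψ x = ∑ x : d.E, ((N x + N x⁻¹ : ℕ) : ℂ) * d.wgt ψ x := by
    rw [two_mul]
    nth_rewrite 2 [← Fintype.sum_equiv (Equiv.inv d.E) (fun x => (N x⁻¹ : ℂ) * d.wgt ψ x⁻¹)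
      (fun x => (N x : ℂ) * d.wgt ψ x) (fun x => rfl)]
    rw [← Finset.sum_add_distrib]
    exact Finset.sum_congr rfl fun x _ => by rw [d.wgt_inv ψ x]; push_cast; ring
  have e3 : ∑ x : d.E, ((N x + N x⁻¹ : ℕ) : ℂ) * d.wgt ψ x = -2 * (d.q : ℂ) := by
    rw [← Finset.add_sum_erase _ _ (Finset.mem_univ (1 : d.E)), inv_one, hN0,
      Finset.sum_congr rfl (g := fun x => (d.q : ℂ) * d.wgt ψ x) fun x hx => by rw [hNeq x hx],
      ← Finset.mul_sum, Finset.sum_erase_eq_sub (Finset.mem_univ _), d.sum_wgt hψ, d.wgt_one]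
    push_cast
    ring
  rw [e3] at e2
  linear_combination e2 / 2

theorem sum_K_wgt {ψ : d.E →* ℂˣ} (hψ : ψ ≠ 1) {e : d.E} (he : e ≠ 1) :
    ∑ k : d.K, ext d.E (d.wgt ψ) ((k : G) * e * (k : G)⁻¹) = -(d.q : ℂ) := by
  rw [sum_subgroup_eq_of_le d.B_le (fun k => ext d.E (d.wgt ψ) (k * (e : G) * k⁻¹))]
  · exact d.sum_B_wgt hψ he
  intro k hk hkB
  exact ext_of_notMem _ fun h => hkB (d.B_of_conj e e.2 (fun h' => he (Subtype.ext h')) k hk h)

theorem T_comm {a b : G} (ha : a ∈ d.T) (hb : b ∈ d.T) : a * b = b * a := by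
  haveI := d.T_cyclic
  obtain ⟨z, hz⟩ := IsCyclic.exists_generator (α := d.T)
  obtain ⟨m, hm⟩ := hz ⟨a, ha⟩
  obtain ⟨l, hl⟩ := hz ⟨b, hb⟩
  have : (⟨a, ha⟩ : d.T) * ⟨b, hb⟩ = ⟨b, hb⟩ * ⟨a, ha⟩ := by
    rw [← hm, ← hl]; exact zpow_mul_comm z m l
  exact congrArg Subtype.val this

theorem card_K_fix_T {y : G} (hy : y ∈ d.T) (hy1 : y ≠ 1) :
    (Finset.univ.filter fun k : d.K => (k : G) * y * (k : G)⁻¹ = y).card = 2 * d.τ := by
  rw [← d.cardT, ← card_two_cosets d.T d.vv d.v_notMem_T]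
  refine Finset.card_bij (fun k _ => (k : G)) ?_ (fun a _ b _ h => Subtype.ext h) ?_
  · intro k hk
    simp only [Finset.mem_filter, Finset.mem_univ, true_and] at hk ⊢
    exact d.T_cent y hy hy1 k k.2 (mul_inv_eq_iff_eq_mul.mp hk)
  · intro x hx
    simp only [Finset.mem_filter, Finset.mem_univ, true_and] at hx
    have hxK : x ∈ d.K := by
      rcases hx with h | h
      · exact d.T_le h
      · exact (Subgroup.mul_mem_cancel_left _ d.v_mem).mp (d.T_le h)
    refine ⟨⟨x, hxK⟩, ?_, rfl⟩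
    simp only [Finset.mem_filter, Finset.mem_univ, true_and]
    rcases hx with h | h
    · rw [d.T_comm h hy, mul_inv_cancel_right]
    · have e : x = d.v * (d.v * x) := by rw [← mul_assoc, d.vv, one_mul]
      rw [mul_inv_eq_iff_eq_mul, e, mul_assoc, d.T_comm h hy, ← mul_assoc, d.v_cent y hy, mul_assoc]

theorem inv_ne_self_of_T {y : G} (hy : y ∈ d.T) (hy1 : y ≠ 1) : y⁻¹ ≠ y := fun h => by
  have h2 : orderOf y = 2 := orderOf_eq_prime
    (by rw [pow_two]; nth_rewrite 1 [← h]; exact inv_mul_cancel y) hy1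
  have h1 : orderOf y ∣ Nat.card d.T := d.T.orderOf_dvd_natCard hy
  rw [h2] at h1
  exact Nat.not_even_iff_odd.mpr d.odd_T (even_iff_two_dvd.mpr h1)

theorem sum_K_T (f : d.T → ℂ) {y : d.T} (hy : y ≠ 1) :
    ∑ k : d.K, ext d.T f ((k : G) * y * (k : G)⁻¹) = 2 * (d.τ : ℂ) * (f y + f y⁻¹) := by
  have hy1 : (y : G) ≠ 1 := fun h => hy (Subtype.ext h)
  have hne := d.inv_ne_self_of_T y.2 hy1
  have e : ∀ k : d.K, ext d.T f ((k : G) * y * (k : G)⁻¹)
      = (if (k : G) * y * (k : G)⁻¹ = y then f y else 0)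
        + if (k : G) * y * (k : G)⁻¹ = (y : G)⁻¹ then f y⁻¹ else 0 := by
    intro k
    by_cases h : (k : G) * y * (k : G)⁻¹ ∈ d.T
    · rw [ext_of_mem _ h]
      rcases d.T_conj y y.2 hy1 k k.2 h with h' | h'
      · rw [if_pos h', if_neg (fun h'' => hne (h''.symm.trans h')), add_zero]
        exact congrArg f (Subtype.ext h')
      · rw [if_neg (fun h'' => hne (h'.symm.trans h'')), if_pos h', zero_add]
        exact congrArg f (Subtype.ext h')
    · rw [ext_of_notMem _ h, if_neg (fun h' => h (by rw [h']; exact y.2)),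
        if_neg (fun h' => h (by rw [h']; exact d.T.inv_mem y.2)), add_zero]
  rw [Finset.sum_congr rfl fun k _ => e k, Finset.sum_add_distrib, ← Finset.sum_filter,
    ← Finset.sum_filter, Finset.sum_const, Finset.sum_const, d.card_K_fix_T y.2 hy1]
  have h2 : (Finset.univ.filter fun k : d.K => (k : G) * y * (k : G)⁻¹ = (y : G)⁻¹).card
      = 2 * d.τ := by
    rw [← d.card_K_fix_T y.2 hy1]
    refine Finset.card_nbij' ((⟨d.i, d.i_mem⟩ : d.K) * ·) ((⟨d.i, d.i_mem⟩ : d.K) * ·) ?_ ?_ ?_ ?_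
    · intro k hk
      simp only [Finset.mem_coe, Finset.mem_filter, Finset.mem_univ, true_and,
        Subgroup.coe_mul] at hk ⊢
      calc d.i * (k : G) * y * (d.i * (k : G))⁻¹
            = d.i * ((k : G) * y * (k : G)⁻¹) * d.i⁻¹ := by group
        _ = y := by rw [hk, d.i_inv _ (d.T.inv_mem y.2), inv_inv]
    · intro k hk
      simp only [Finset.mem_coe, Finset.mem_filter, Finset.mem_univ, true_and,
        Subgroup.coe_mul] at hk ⊢
      calc d.i * (k : G) * y * (d.i * (k : G))⁻¹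
            = d.i * ((k : G) * y * (k : G)⁻¹) * d.i⁻¹ := by group
        _ = (y : G)⁻¹ := by rw [hk, d.i_inv _ y.2]
    all_goals intro k _; exact Subtype.ext (by simp [← mul_assoc, d.ii])
  rw [h2, nsmul_eq_mul, nsmul_eq_mul]
  push_cast
  ring

end Data

end Cfsg.Agent.Lib.ReeThree91
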