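import Mathlib

/-!
Three mutually orthogonal integral vectors of norm four, congruent modulo `2` and orthogonal to a
positive vector, live on four common points where the positive vector is constant.
-/

set_option autoImplicit false

namespace Cfsg.Agent.Lib.ReeThree91

open scoped Classical

/-- The four rows `1, h 0, h 1, h 2` on four points. -/
theorem four_orth (s : Fin 3 → Fin 4 → ℤ) (d : Fin 4 → ℤ) (hd : ∀ i, 0 < d i)
    (hs : ∀ k i, s k i = 1 ∨ s k i = -1)
    (horth : ∀ k l, ∑ i, s k i * s l i = if k = l then 4 else 0)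
    (hdeg : ∀ k, ∑ i, s k i * d i = 0) :
    (∀ i j, d i = d j) ∧ (∃ ε : ℤ, (ε = 1 ∨ ε = -1) ∧ ∀ i, s 0 i * s 1 i * s 2 i = ε) ∧
      (∀ k, ∑ i, s k i = 0) ∧
      ∀ i j, (∑ k, s k i * s k j) + 1 = if i = j then 4 else 0 := by
  have hsq : ∀ k i, s k i * s k i = 1 := fun k i => by rcases hs k i with h | h <;> rw [h] <;> rfl
  set p : Fin 4 → ℤ := fun i => s 0 i * s 1 i * s 2 i with hp
  have hpp : ∀ i, p i * p i = 1 := fun i => by
    show (s 0 i * s 1 i * s 2 i) * (s 0 i * s 1 i * s 2 i) = 1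
    linear_combination (s 1 i * s 1 i * (s 2 i * s 2 i)) * hsq 0 i + (s 2 i * s 2 i) * hsq 1 i
      + hsq 2 i
  have hps : ∀ k, ∑ i, p i * s k i = 0 := by
    intro k
    fin_cases k
    · rw [← (horth 1 2).trans (if_neg (by decide))]
      refine Finset.sum_congr rfl fun i _ => ?_
      show s 0 i * s 1 i * s 2 i * s 0 i = s 1 i * s 2 i
      linear_combination (s 1 i * s 2 i) * hsq 0 i
    · rw [← (horth 0 2).trans (if_neg (by decide))]
      refine Finset.sum_congr rfl fun i _ => ?_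
      show s 0 i * s 1 i * s 2 i * s 1 i = s 0 i * s 2 i
      linear_combination (s 0 i * s 2 i) * hsq 1 i
    · rw [← (horth 0 1).trans (if_neg (by decide))]
      refine Finset.sum_congr rfl fun i _ => ?_
      show s 0 i * s 1 i * s 2 i * s 2 i = s 0 i * s 1 i
      linear_combination (s 0 i * s 1 i) * hsq 2 i
  have hsum4 : ∑ i, p i * p i = 4 := by simp [hpp]
  let M : Matrix (Fin 4) (Fin 4) ℚ :=
    Matrix.of fun k i => Fin.cons (α := fun _ => ℚ) (p i : ℚ) (fun l => (s l i : ℚ)) k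
  have key : ∀ i j, p i * p j + ∑ k, s k i * s k j = if i = j then 4 else 0 := by
    have h1 : M * ((1 / 4 : ℚ) • M.transpose) = 1 := by
      ext k l
      simp only [Matrix.mul_apply, Matrix.smul_apply, Matrix.transpose_apply, Matrix.one_apply, M,
        Matrix.of_apply, smul_eq_mul]
      rcases Fin.eq_zero_or_eq_succ k with rfl | ⟨k, rfl⟩ <;>
        rcases Fin.eq_zero_or_eq_succ l with rfl | ⟨l, rfl⟩
      · simp only [Fin.cons_zero, mul_left_comm _ (1 / 4 : ℚ), ← Finset.mul_sum, if_true]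
        rw [show (∑ i, (p i : ℚ) * (p i : ℚ)) = 4 by exact_mod_cast hsum4]
        norm_num
      · simp only [Fin.cons_zero, Fin.cons_succ, mul_left_comm _ (1 / 4 : ℚ), ← Finset.mul_sum]
        rw [show (∑ i, (p i : ℚ) * (s l i : ℚ)) = 0 by exact_mod_cast hps l,
          if_neg (Fin.succ_ne_zero l).symm, mul_zero]
      · simp only [Fin.cons_zero, Fin.cons_succ, mul_left_comm _ (1 / 4 : ℚ), ← Finset.mul_sum]
        rw [show (∑ i, (s k i : ℚ) * (p i : ℚ)) = 0 by
          rw [Finset.sum_congr rfl fun i _ => mul_comm (s k i : ℚ) (p i : ℚ)]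
          exact_mod_cast hps k, if_neg (Fin.succ_ne_zero k), mul_zero]
      · simp only [Fin.cons_succ, mul_left_comm _ (1 / 4 : ℚ), ← Finset.mul_sum]
        rw [show (∑ i, (s k i : ℚ) * (s l i : ℚ)) = ((if k = l then 4 else 0 : ℤ) : ℚ) by
          exact_mod_cast horth k l]
        simp only [Fin.succ_inj]
        split_ifs <;> simp
    intro i j
    have h1' : ((1 / 4 : ℚ) • M.transpose) * M = 1 := mul_eq_one_comm.mp h1
    have h2 := congrFun (congrFun h1' i) j
    simp only [Matrix.mul_apply, Matrix.smul_apply, Matrix.transpose_apply, Matrix.one_apply, M,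
      Matrix.of_apply, smul_eq_mul, Fin.sum_univ_succ (n := 3), Fin.cons_zero, Fin.cons_succ,
      mul_assoc, ← Finset.mul_sum, ← mul_add] at h2
    have h3 : ((p i * p j + ∑ k, s k i * s k j : ℤ) : ℚ) = ((if i = j then 4 else 0 : ℤ) : ℚ) := by
      push_cast
      split_ifs at h2 ⊢ <;> linarith
    exact_mod_cast h3
  have hdp : ∀ i, 4 * d i = p i * ∑ j, p j * d j := by
    intro i
    have e : ∑ j, (p i * p j + ∑ k, s k i * s k j) * d j = p i * ∑ j, p j * d j := by
      simp only [add_mul, Finset.sum_add_distrib, Finset.sum_mul, Finset.mul_sum, mul_assoc]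
      rw [add_eq_left, Finset.sum_comm]
      exact Finset.sum_eq_zero fun k _ => by rw [← Finset.mul_sum, hdeg k, mul_zero]
    rw [← e]
    simp [key, mul_comm]
  have hpc : ∀ i j, p i = p j := by
    intro i j
    have hi : p i = 1 ∨ p i = -1 := mul_self_eq_one_iff.mp (hpp i)
    have hj : p j = 1 ∨ p j = -1 := mul_self_eq_one_iff.mp (hpp j)
    have e1 := hdp i
    have e2 := hdp j
    have := hd i
    have := hd j
    rcases hi with a | a <;> rcases hj with b | b <;> rw [a] at e1 <;> rw [b] at e2 <;>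
      first
        | rw [a, b]; done
        | exfalso; linarith
  refine ⟨fun i j => ?_, ⟨p 0, mul_self_eq_one_iff.mp (hpp 0), fun i => hpc i 0⟩, fun k => ?_,
    fun i j => ?_⟩
  · have e1 := hdp i
    have e2 := hdp j
    rw [hpc i j] at e1
    linarith
  · have h := hps k
    rw [Finset.sum_congr rfl fun i _ => by rw [hpc i 0], ← Finset.mul_sum] at h
    exact (mul_eq_zero.mp h).resolve_left fun h0 => by have := hpp 0; rw [h0] at this; norm_num at this
  · rw [← key i j, hpc j i, hpp i, add_comm]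

variable {ι : Type*} [Fintype ι]

theorem exists_four (h : Fin 3 → ι → ℤ) (d : ι → ℤ) (hd : ∀ x, 0 < d x)
    (horth : ∀ k l, ∑ x, h k x * h l x = if k = l then 4 else 0)
    (hpar : ∀ k l x, (2 : ℤ) ∣ h k x - h l x) (hdeg : ∀ k, ∑ x, h k x * d x = 0) :
    ∃ (S : Finset ι) (m ε : ℤ), S.card = 4 ∧ 0 < m ∧ (ε = 1 ∨ ε = -1) ∧ (∀ x ∈ S, d x = m) ∧
      (∀ x, x ∉ S → ∀ k, h k x = 0) ∧ (∀ x ∈ S, ∀ k, h k x = 1 ∨ h k x = -1) ∧
      (∀ x ∈ S, ∀ y ∈ S, (∀ k, h k x = h k y) → x = y) ∧
      (∀ x ∈ S, h 0 x * h 1 x * h 2 x = ε) ∧ (∀ k, ∑ x ∈ S, h k x = 0) ∧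
      ∀ u : ι → ℤ, (∀ k, ∑ x, u x * h k x = 0) → ∀ x ∈ S, ∀ y ∈ S, u x = u y := by
  have hsq : ∀ k, ∑ x, h k x * h k x = 4 := fun k => by rw [horth, if_pos rfl]
  have hle : ∀ k x, h k x = 0 ∨ h k x = 1 ∨ h k x = -1 := by
    intro k x
    have h4 : h k x * h k x ≤ 4 := (hsq k).symm ▸
      Finset.single_le_sum (fun y _ => mul_self_nonneg (h k y)) (Finset.mem_univ x)
    have hb : -2 ≤ h k x ∧ h k x ≤ 2 := ⟨by nlinarith, by nlinarith⟩
    by_contra hne
    have h2 : h k x = 2 ∨ h k x = -2 := by omega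
    have hz : ∀ y, y ≠ x → h k y = 0 := by
      intro y hy
      have he := Finset.add_sum_erase Finset.univ (fun y => h k y * h k y) (Finset.mem_univ x)
      rw [hsq] at he
      have h0 : ∑ y ∈ Finset.univ.erase x, h k y * h k y = 0 := by
        rcases h2 with e | e <;> simp only [e] at he <;> linarith
      exact mul_self_eq_zero.mp ((Finset.sum_eq_zero_iff_of_nonneg fun y _ =>
        mul_self_nonneg (h k y)).mp h0 y (Finset.mem_erase.mpr ⟨hy, Finset.mem_univ y⟩))
    have h1 := hdeg k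
    rw [Finset.sum_eq_single x (fun y _ hy => by rw [hz y hy, zero_mul]) (by simp)] at h1
    have := hd x
    rcases h2 with e | e <;> rw [e] at h1 <;> linarith
  set S := Finset.univ.filter fun x => h 0 x ≠ 0 with hS
  have hpm : ∀ x ∈ S, ∀ k, h k x = 1 ∨ h k x = -1 := by
    intro x hx k
    have h0 : h 0 x ≠ 0 := (Finset.mem_filter.mp hx).2
    obtain ⟨c, hc⟩ := hpar k 0 x
    rcases hle k x with e | e | e <;> rcases hle 0 x with e' | e' | e' <;> omega
  have hzero : ∀ x, x ∉ S → ∀ k, h k x = 0 := by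
    intro x hx k
    have h0 : h 0 x = 0 := by simpa [hS] using hx
    obtain ⟨c, hc⟩ := hpar k 0 x
    rcases hle k x with e | e | e <;> omega
  have hext : ∀ (k : Fin 3) (f : ι → ℤ), ∑ x, h k x * f x = ∑ x ∈ S, h k x * f x := fun k f =>
    (Finset.sum_subset (Finset.subset_univ S) fun x _ hx => by rw [hzero x hx k, zero_mul]).symm
  have hcard : S.card = 4 := by
    have e := hsq 0
    rw [hext, Finset.sum_congr rfl (g := fun _ => (1 : ℤ)) fun x hx => by
      rcases hpm x hx 0 with a | a <;> rw [a] <;> rfl] at e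
    simp only [Finset.sum_const, nsmul_eq_mul, mul_one] at e
    exact_mod_cast e
  let eq : Fin 4 ≃ S := (S.equivFinOfCardEq hcard).symm
  have hsum : ∀ f : ι → ℤ, ∑ i, f (eq i : ι) = ∑ x ∈ S, f x := fun f => by
    rw [Equiv.sum_comp eq (fun y : S => f (y : ι)), Finset.sum_coe_sort]
  obtain ⟨hc1, ⟨ε, hε, hprod⟩, hc3, hc4⟩ := four_orth (fun k i => h k (eq i)) (fun i => d (eq i))
    (fun i => hd _) (fun k i => hpm _ (eq i).2 k)
    (fun k l => by rw [hsum fun x => h k x * h l x, ← hext, horth])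
    (fun k => by rw [hsum fun x => h k x * d x, ← hext, hdeg])
  have hsur : ∀ x ∈ S, ∃ i, (eq i : ι) = x := fun x hx => ⟨eq.symm ⟨x, hx⟩, by simp⟩
  refine ⟨S, d (eq 0), ε, hcard, hd _, hε, fun x hx => ?_, hzero, hpm, ?_, fun x hx => ?_,
    fun k => ?_, ?_⟩
  · obtain ⟨i, rfl⟩ := hsur x hx; exact hc1 i 0
  · intro x hx y hy hxy
    obtain ⟨i, rfl⟩ := hsur x hx
    obtain ⟨j, rfl⟩ := hsur y hy
    by_contra hne
    have hij : i ≠ j := fun e => hne (by rw [e])
    have e := hc4 i j
    rw [if_neg hij, Finset.sum_congr rfl (g := fun _ => (1 : ℤ)) fun k _ => by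
      show h k (eq i) * h k (eq j) = 1
      rw [← hxy k]; rcases hpm _ (eq i).2 k with a | a <;> rw [a] <;> rfl] at e
    simp at e
  · obtain ⟨i, rfl⟩ := hsur x hx; exact hprod i
  · rw [← hsum]; exact hc3 k
  · intro u hu
    have hu' : ∀ i, 4 * u (eq i) = ∑ j, u (eq j) := by
      intro i
      have e : ∑ j, ((∑ k, h k (eq i) * h k (eq j)) + 1) * u (eq j) = ∑ j, u (eq j) := by
        simp only [add_mul, one_mul, Finset.sum_add_distrib, Finset.sum_mul, mul_assoc]
        rw [add_eq_right, Finset.sum_comm]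
        refine Finset.sum_eq_zero fun k _ => ?_
        rw [← Finset.mul_sum, hsum fun x => h k x * u x, ← hext,
          Finset.sum_congr rfl fun x _ => mul_comm (h k x) (u x), hu k, mul_zero]
      rw [← e]
      simp [hc4 i]
    intro x hx y hy
    obtain ⟨i, rfl⟩ := hsur x hx
    obtain ⟨j, rfl⟩ := hsur y hy
    have := hu' i
    have := hu' j
    omega

end Cfsg.Agent.Lib.ReeThree91
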