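import Cfsg.Agent.Lib.ReeThree91.Vectors
import Cfsg.Agent.Lib.ReeThree91.FourVectors

/-!
A group with the data and a twisted torus does not exist: four real irreducible characters of equal
degree have values at `t` which contradict the class algebra constant modulo `3`.
-/

set_option autoImplicit false

namespace Cfsg.Agent.Lib.ReeThree91

open Cfsg Cfsg.Agent.Lib.Chars
open scoped ComplexConjugate Classical

universe u

variable {G : Type u} [Group G] [Fintype G] (d : Data G)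

namespace Data

/-- The degree. -/
noncomputable def deg (χ : IrrCharacter G) : ℤ :=
  ((isIrrCharacter_exists_degree_pos χ.2).choose : ℤ)

omit [Fintype G] in
theorem deg_pos (χ : IrrCharacter G) : 0 < deg χ :=
  Int.natCast_pos.mpr (isIrrCharacter_exists_degree_pos χ.2).choose_spec.1

omit [Fintype G] in
theorem deg_eq (χ : IrrCharacter G) : (χ : G → ℂ) 1 = (deg χ : ℂ) := by
  rw [deg, Int.cast_natCast]
  exact (isIrrCharacter_exists_degree_pos χ.2).choose_spec.2

theorem fcT_comp_parity (a : d.T →* d.T) (ha : Function.Injective a) {g : G}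
    (hg : ∀ y : d.T, (a y : G) = g * y * g⁻¹) (j : d.T →* ℂˣ) (χ : IrrCharacter G) :
    2 ∣ d.fc d.T (j.comp a) χ - d.fc d.T j χ := by
  obtain ⟨s, hs, h2⟩ := d.exists_pl d.T_le j χ
  obtain ⟨s', hs', h2'⟩ := d.exists_pl d.T_le (j.comp a) χ
  have e : pl d.T (fun y => ((j.comp a) y : ℂ)) χ = pl d.T (fun y => (j y : ℂ)) χ := by
    refine Fintype.sum_equiv
      (Equiv.ofBijective a ⟨ha, Finite.surjective_of_injective ha⟩) _ _ fun y => ?_
    show (j (a y) : ℂ) * _ = (j (a y) : ℂ) * conj ((χ : G → ℂ) (a y : G))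
    rw [hg, irr_isClassFunction χ (y : G) g]
  rw [hs, hs'] at e
  obtain rfl := Int.cast_injective (mul_left_cancel₀ natCard_ne_zero e)
  omega

theorem eq_one_of_sq {j : d.T →* ℂˣ} (h : j * j = 1) : j = 1 := by
  refine MonoidHom.ext fun y => ?_
  have h1 : j y ^ 2 = 1 := by rw [pow_two]; exact congrFun (congrArg DFunLike.coe h) y
  have h2 : j y ^ d.τ = 1 := by
    rw [← map_pow, ← d.cardT, pow_card_eq_one', map_one]
  rw [MonoidHom.one_apply, ← orderOf_eq_one_iff]
  exact Nat.eq_one_of_dvd_coprimes (Nat.coprime_two_left.mpr d.hτodd)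
    (orderOf_dvd_of_pow_eq_one h1) (orderOf_dvd_of_pow_eq_one h2)

theorem parity_real {A : Subgroup G} (hA : A ≤ d.K) (hodd : Odd (Nat.card A))
    {χ : IrrCharacter G} (hreal : ∀ g, conj ((χ : G → ℂ) g) = (χ : G → ℂ) g) :
    2 ∣ (Nat.card A : ℤ) * d.fc A 1 χ - deg χ := by
  obtain ⟨s, hs, h2⟩ := d.exists_pl hA 1 χ
  obtain ⟨w, hw, hsum⟩ := exists_half_sum hodd (fun a : A => conj ((χ : G → ℂ) a))
    (fun a => isIntegral_conj (irr_isIntegral χ _)) (fun a => by
      rw [InvMemClass.coe_inv, irr_inv, Complex.conj_conj, hreal])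
  have e : pl A (fun a => ((1 : A →* ℂˣ) a : ℂ)) χ = (deg χ : ℂ) + 2 * w := by
    rw [pl]
    simp only [MonoidHom.one_apply, Units.val_one, one_mul]
    rw [hsum, OneMemClass.coe_one, hreal, deg_eq]
  rw [hs] at e
  obtain ⟨k, hk⟩ := exists_int_eq_of_isIntegral hw
    (((Nat.card A : ℚ) * s - deg χ) / 2) (by push_cast; linear_combination (-1 / 2 : ℂ) * e)
  have e' : (Nat.card A : ℤ) * s = deg χ + 2 * k := by
    apply Int.cast_injective (α := ℂ)
    push_cast
    rw [e, hk]
  obtain ⟨b, hb⟩ := h2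
  refine ⟨(Nat.card A : ℤ) * b + k, ?_⟩
  linear_combination (Nat.card A : ℤ) * hb + e'

theorem pairCount_E {e : G} (he : e ∈ d.E) (he1 : e ≠ 1) : pairCount d.t (e * d.t) = 0 := by
  rw [pairCount]
  haveI : IsEmpty {p : G × G // IsConj d.t p.1 ∧ IsConj d.t p.2 ∧ p.1 * p.2 = e * d.t} := by
    refine ⟨?_⟩
    rintro ⟨⟨x, y⟩, hx, hy, hxy⟩
    have hsq : ∀ {z : G}, IsConj d.t z → z * z = 1 := fun {z} hz => by
      obtain ⟨c, rfl⟩ := isConj_iff.mp hz
      rw [conj_mul, d.tt, mul_one, mul_inv_cancel]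
    have hxy' : x * y = e * d.t := hxy
    have h : x * (e * d.t) * x⁻¹ = e⁻¹ * d.t := by
      rw [← hxy', ← mul_assoc, hsq hx, one_mul]
      have h1 : e⁻¹ * d.t = (e * d.t)⁻¹ := by
        rw [mul_inv_rev, inv_eq_of_mul_eq_one_right d.tt,
          d.K_comm _ (d.K.inv_mem (d.E_le he))]
      rw [h1, ← hxy', mul_inv_rev, inv_eq_of_mul_eq_one_right (hsq hy)]
    obtain ⟨hxt, hxe⟩ := d.conj_mul_t (d.E_le he) (d.K.inv_mem (d.E_le he)) (m := 3) (by decide)
      (d.E_pow e he) (by rw [inv_pow, d.E_pow e he, inv_one]) h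
    obtain ⟨k, hk, -, hact⟩ := d.cent_cases hxt
    rw [hact e (d.E_le he)] at hxe
    exact d.E_notReal e he he1 k hk hxe
  exact Nat.card_of_isEmpty

theorem three_dvd_pairCount : 3 ∣ pairCount d.t d.t := by
  haveI : Fact (Nat.Prime 3) := ⟨Nat.prime_three⟩
  obtain ⟨e, he, he1⟩ : ∃ e ∈ d.E, e ≠ (1 : G) := by
    have : Nontrivial d.E := Finite.one_lt_card_iff_nontrivial.mp (by
      rw [d.cardE, d.hq]; exact Nat.one_lt_pow (by omega) (by norm_num))
    obtain ⟨e, he⟩ := exists_ne (1 : d.E)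
    exact ⟨e, e.2, fun h => he (Subtype.ext h)⟩
  have hKt : e * d.t = d.t * e := d.K_comm e (d.E_le he)
  let f : Function.End {p : G × G // IsConj d.t p.1 ∧ IsConj d.t p.2 ∧ p.1 * p.2 = d.t} :=
    fun p => ⟨(e * p.1.1 * e⁻¹, e * p.1.2 * e⁻¹), p.2.1.trans (isConj_iff.mpr ⟨e, rfl⟩),
      p.2.2.1.trans (isConj_iff.mpr ⟨e, rfl⟩), by
        rw [conj_mul, p.2.2.2, hKt, mul_inv_cancel_right]⟩
  have hf : f ^ 3 ^ 1 = 1 := by
    refine funext fun p => ?_
    show f (f (f p)) = p
    have h3 : e * e * e = 1 := by rw [← pow_three', d.E_pow e he]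
    refine Subtype.ext (Prod.ext ?_ ?_) <;> simp only [f]
    · calc e * (e * (e * p.1.1 * e⁻¹) * e⁻¹) * e⁻¹ = e * e * e * p.1.1 * (e * e * e)⁻¹ := by group
        _ = p.1.1 := by rw [h3, one_mul, inv_one, mul_one]
    · calc e * (e * (e * p.1.2 * e⁻¹) * e⁻¹) * e⁻¹ = e * e * e * p.1.2 * (e * e * e)⁻¹ := by group
        _ = p.1.2 := by rw [h3, one_mul, inv_one, mul_one]
  have hempty : IsEmpty (Function.fixedPoints f) := by
    refine ⟨?_⟩
    rintro ⟨⟨⟨x, y⟩, hx, hy, hxy⟩, hfix⟩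
    have hxe : e * x * e⁻¹ = x := congrArg (fun p => p.1.1) hfix
    have hxy' : x * y = d.t := hxy
    have hsq : ∀ {z : G}, IsConj d.t z → z * z = 1 ∧ z ≠ 1 := fun {z} hz => by
      obtain ⟨c, rfl⟩ := isConj_iff.mp hz
      refine ⟨by rw [conj_mul, d.tt, mul_one, mul_inv_cancel], fun h => ?_⟩
      have := d.ht
      rw [conj_eq_one_iff.mp h, orderOf_one] at this
      omega
    have hyeq : y = x * d.t := by rw [← hxy', ← mul_assoc, (hsq hx).1, one_mul]
    have hxt : x * d.t = d.t * x := by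
      have h2 := (hsq hy).1
      rw [hyeq] at h2
      calc x * d.t = (x * d.t)⁻¹ := eq_inv_of_mul_eq_one_left h2
        _ = d.t * x := by
          rw [mul_inv_rev, inv_eq_of_mul_eq_one_right d.tt, inv_eq_of_mul_eq_one_right (hsq hx).1]
    obtain ⟨k, hk, hor, hact⟩ := d.cent_cases hxt
    have hex : x * e * x⁻¹ = e := by
      rw [mul_inv_eq_iff_eq_mul] at hxe ⊢; exact hxe.symm
    rw [hact e (d.E_le he)] at hex
    have hkE := d.E_cent e he he1 k hk (mul_inv_eq_iff_eq_mul.mp hex)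
    have hk2 : k * k = 1 := by
      rcases hor with h | h
      · rw [← h]; exact (hsq hx).1
      · have h2 := (hsq hx).1
        rw [h] at h2
        calc k * k = d.t * d.t * (k * k) := by rw [d.tt, one_mul]
          _ = d.t * (d.t * k) * k := by group
          _ = d.t * (k * d.t) * k := by rw [d.K_comm k hk]
          _ = d.t * k * (d.t * k) := by group
          _ = 1 := h2
    have hk1 : k = 1 := eq_one_of_orders (a := 2) (b := 3) (by rw [pow_two, hk2]) (d.E_pow k hkE)
      (by norm_num)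
    rcases hor with h | h
    · exact (hsq hx).2 (by rw [h, hk1])
    · refine (hsq hy).2 ?_
      rw [hyeq, h, hk1, mul_one, d.tt]
  have hmod := Equiv.Perm.card_fixedPoints_modEq (f := f) (p := 3) (n := 1) hf
  rw [pairCount, Nat.card_eq_fintype_card]
  rw [Fintype.card_eq_zero (α := Function.fixedPoints f)] at hmod
  exact Nat.modEq_zero_iff_dvd.mp hmod

theorem card_class : ((Finset.univ.filter (IsConj d.t)).card) * (2 * (d.q * d.c * (d.q + 1)))
    = Nat.card G := by
  have h := index_centralizer_mul_card d.t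
  rw [← card_conjClass_eq_index, Nat.card_eq_fintype_card, Fintype.card_subtype] at h
  rw [← h, ← d.cardK, ← card_two_cosets d.K d.tt d.htK,
    Nat.card_eq_fintype_card (α := ↥(Subgroup.centralizer ({d.t} : Set G))), Fintype.card_subtype]
  congr 2
  refine Finset.filter_congr fun x _ => ?_
  rw [Subgroup.mem_centralizer_singleton_iff]
  refine ⟨fun hx => ?_, fun hx => d.K_cent x hx⟩
  rcases hx with hx | hx
  · exact d.K_comm x hx
  · calc x * d.t = d.t * (d.t * x * d.t) := by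
          rw [← mul_assoc, ← mul_assoc, d.tt, one_mul]
      _ = d.t * (d.t * (d.t * x)) := by rw [d.K_comm _ hx]
      _ = d.t * x := by rw [← mul_assoc d.t d.t, d.tt, one_mul]

end Data

theorem false_of_twisted {G : Type u} [Group G] [Finite G] (d : Data G) (h : Twisted d) :
    False := by
  cases nonempty_fintype G
  obtain ⟨g, y, hgT, hyT, hgen, hg1, hg2, hgg1, hgg2⟩ := h
  obtain ⟨ψ, hψ⟩ := d.exists_psi
  -- the automorphism of `T`
  let a : d.T →* d.T :=
    { toFun := fun z => ⟨g * z * g⁻¹, hgT z z.2⟩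
      map_one' := Subtype.ext (by simp)
      map_mul' := fun z w => Subtype.ext (by simp [conj_mul]) }
  have ha_val : ∀ z : d.T, (a z : G) = g * z * g⁻¹ := fun z => rfl
  have ha : Function.Injective a := fun z w e => Subtype.ext (mul_left_cancel (mul_right_cancel
    (congrArg Subtype.val e)))
  obtain ⟨j, hj⟩ : ∃ j : d.T →* ℂˣ, Function.Injective j := by
    haveI := d.T_cyclic
    haveI : NeZero d.τ := ⟨d.hτodd.pos.ne'⟩
    haveI : IsCyclic (rootsOfUnity d.τ ℂ) := rootsOfUnity.isCyclic ℂ d.τ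
    have hc : Nat.card d.T = Nat.card (rootsOfUnity d.τ ℂ) := by
      rw [d.cardT, HasEnoughRootsOfUnity.natCard_rootsOfUnity ℂ d.τ]
    exact ⟨(rootsOfUnity d.τ ℂ).subtype.comp (mulEquivOfCyclicCardEq hc).toMonoidHom,
      Subtype.val_injective.comp (mulEquivOfCyclicCardEq hc).injective⟩
  -- the three homomorphisms
  let jk : Fin 3 → (d.T →* ℂˣ) := ![j, j.comp a, j.comp (a.comp a)]
  set Y : d.T := ⟨y, hyT⟩ with hY
  have n1 : a Y ≠ Y := fun e => hg1 (congrArg Subtype.val e)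
  have n2 : a Y ≠ Y⁻¹ := fun e => hg2 (congrArg Subtype.val e)
  have hval2 : (a (a Y) : G) = g * g * y * (g * g)⁻¹ := by simp [ha_val, hY, mul_assoc]
  have n3 : a (a Y) ≠ Y := fun e => hgg1 (hval2.symm.trans (congrArg Subtype.val e))
  have n4 : a (a Y) ≠ Y⁻¹ := fun e => hgg2 (hval2.symm.trans (congrArg Subtype.val e))
  have n5 : a (a Y) ≠ a Y := fun e => n1 (ha e)
  have n6 : a (a Y) ≠ (a Y)⁻¹ := fun e => n2 (ha (by rw [e, map_inv]))
  have hjinv : ∀ {p r : d.T}, j p * j r = 1 → r = p⁻¹ := fun {p r} e =>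
    eq_inv_of_mul_eq_one_right (hj (by rw [map_mul, e, map_one]))
  have hY1 : Y ≠ 1 := fun e => n1 (by rw [e, map_one])
  have hjk_ne1 : ∀ k, jk k ≠ 1 := by
    intro k e
    have e' := congrFun (congrArg DFunLike.coe e) Y
    fin_cases k <;> simp only [jk, Fin.zero_eta, Fin.mk_one, Fin.reduceFinMk, Matrix.cons_val_zero,
      Matrix.cons_val_one, Matrix.cons_val, MonoidHom.comp_apply, MonoidHom.one_apply] at e' <;>
      rw [← map_one j] at e'
    · exact hY1 (hj e')
    · exact hY1 (ha ((hj e').trans (map_one a).symm))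
    · exact hY1 (ha (ha ((hj e').trans (by rw [map_one, map_one]))))
  have hjk_inj : ∀ k l, jk k = jk l → k = l := by
    intro k l e
    have e' := congrFun (congrArg DFunLike.coe e) Y
    fin_cases k <;> fin_cases l <;> simp only [jk, Fin.zero_eta, Fin.mk_one, Fin.reduceFinMk,
      Matrix.cons_val_zero, Matrix.cons_val_one, Matrix.cons_val, MonoidHom.comp_apply] at e' ⊢ <;>
      first
        | rfl
        | exact absurd (hj e') n1
        | exact absurd (hj e').symm n1
        | exact absurd (hj e') n3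
        | exact absurd (hj e').symm n3
        | exact absurd (hj e') n5
        | exact absurd (hj e').symm n5
  have hjk_mul : ∀ k l, jk k * jk l ≠ 1 := by
    intro k l e
    rcases eq_or_ne k l with rfl | hkl
    · exact hjk_ne1 k (d.eq_one_of_sq e)
    have e' := congrFun (congrArg DFunLike.coe e) Y
    fin_cases k <;> fin_cases l <;> simp only [jk, Fin.zero_eta, Fin.mk_one, Fin.reduceFinMk,
      Matrix.cons_val_zero, Matrix.cons_val_one, Matrix.cons_val, MonoidHom.mul_apply,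
      MonoidHom.comp_apply, MonoidHom.one_apply] at e' <;>
      first
        | exact hkl rfl
        | exact n2 (hjinv e')
        | exact n2 (hjinv ((mul_comm _ _).trans e'))
        | exact n4 (hjinv e')
        | exact n4 (hjinv ((mul_comm _ _).trans e'))
        | exact n6 (hjinv e')
        | exact n6 (hjinv ((mul_comm _ _).trans e'))
  set hv : Fin 3 → IrrCharacter G → ℤ := fun k => d.vec ψ (jk k) with hhv
  have horth : ∀ k l, ∑ χ, hv k χ * hv l χ = if k = l then 4 else 0 := by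
    intro k l
    rw [hhv, d.vec_vec hψ, if_neg (hjk_mul k l)]
    rcases eq_or_ne k l with rfl | hkl
    · simp
    · rw [if_neg hkl, if_neg fun e => hkl (hjk_inj k l e)]; norm_num
  have hp0 : ∀ k χ, 2 ∣ d.fc d.T (jk k) χ - d.fc d.T j χ := by
    intro k χ
    fin_cases k
    · simp [jk]
    · exact d.fcT_comp_parity a ha ha_val j χ
    · have h1 := d.fcT_comp_parity a ha ha_val j χ
      have h2 := d.fcT_comp_parity a ha ha_val (j.comp a) χ
      have h3 : d.fc d.T ((j.comp a).comp a) χ = d.fc d.T (jk 2) χ := rfl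
      show 2 ∣ d.fc d.T (jk 2) χ - d.fc d.T j χ
      omega
  have hpar : ∀ k l χ, (2 : ℤ) ∣ hv k χ - hv l χ := by
    intro k l χ
    have h1 := hp0 k χ
    have h2 := hp0 l χ
    simp only [hhv, Data.vec]
    omega
  have hdegj : ∀ j' : d.T →* ℂˣ, ∑ χ, d.vec ψ j' χ * Data.deg χ = 0 := by
    intro j'
    apply Int.cast_injective (α := ℂ)
    push_cast
    simpa only [Data.deg_eq] using d.vec_degree ψ j'
  obtain ⟨S, m, ε, hS, hm, hε, hdS, hzero, hpm, hrows, hprod, hsum0, hconst⟩ :=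
    exists_four hv Data.deg Data.deg_pos horth hpar (fun k => hdegj (jk k))
  -- vanishing of a vector orthogonal to the three
  have hvan : ∀ u : IrrCharacter G → ℤ, (∀ k, ∑ χ, u χ * hv k χ = 0) → (∑ χ, u χ * u χ ≤ 4) →
      (∑ χ, u χ * Data.deg χ = 0) → ∀ χ ∈ S, u χ = 0 := by
    intro u hu hu4 hud χ hχ
    by_contra hne
    have hc : ∀ x ∈ S, u x = u χ := fun x hx => hconst u hu x hx χ hχ
    have h1 : 1 ≤ u χ * u χ := by have := mul_self_pos.mpr hne; omega
    rw [← Finset.sum_add_sum_compl S, Finset.sum_congr rfl fun x hx => by rw [hc x hx],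
      Finset.sum_const, hS, nsmul_eq_mul] at hu4
    have h0 : 0 ≤ ∑ x ∈ Sᶜ, u x * u x := Finset.sum_nonneg fun x _ => mul_self_nonneg (u x)
    have hz : ∑ x ∈ Sᶜ, u x * u x = 0 := by push_cast at hu4; linarith
    have hz' : ∀ x ∈ Sᶜ, u x = 0 := fun x hx => mul_self_eq_zero.mp
      ((Finset.sum_eq_zero_iff_of_nonneg fun x _ => mul_self_nonneg (u x)).mp hz x hx)
    rw [← Finset.sum_add_sum_compl S, Finset.sum_congr rfl fun x hx => by rw [hc x hx, hdS x hx],
      Finset.sum_eq_zero (s := Sᶜ) fun x hx => by rw [hz' x hx, zero_mul],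
      Finset.sum_const, hS, nsmul_eq_mul, add_zero] at hud
    rcases mul_eq_zero.mp hud with h4 | h4
    · norm_num at h4
    · rcases mul_eq_zero.mp h4 with h5 | h5
      · exact hne h5
      · omega
  have hbz : ∀ μ, ∀ χ ∈ S, d.bvec μ χ = 0 := fun μ => hvan _
    (fun k => d.bvec_vec hψ μ (jk k)) (d.bvec_sq μ) (by
      apply Int.cast_injective (α := ℂ)
      push_cast
      simpa only [Data.deg_eq] using d.bvec_degree μ)
  -- the four are real
  have hreal : ∀ χ ∈ S, ∀ z, conj ((χ : G → ℂ) z) = (χ : G → ℂ) z := by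
    intro χ hχ z
    have hconjS : irrConj χ ∈ S := by
      by_contra hn
      have := hzero _ hn 0
      simp only [hhv, d.vec_irrConj] at this
      rcases hpm χ hχ 0 with e | e <;> simp only [hhv] at e <;> omega
    have e := hrows _ hconjS χ hχ (fun k => by simp only [hhv, d.vec_irrConj])
    conv_rhs => rw [← e]
    rw [irrConj_apply]
  have heven : ∀ χ ∈ S, 2 ∣ d.vec ψ 1 χ := by
    intro χ hχ
    have hB := d.parity_real d.B_le d.odd_B (hreal χ hχ)
    have hB0 : d.fc d.B 1 χ = 0 := by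
      have e := hbz 1 χ hχ
      rwa [Data.bvec, MonoidHom.one_comp] at e
    rw [hB0, mul_zero, zero_sub, dvd_neg] at hB
    have hT := d.parity_real d.T_le d.odd_T (hreal χ hχ)
    have h2 : 2 ∣ (Nat.card d.T : ℤ) * d.fc d.T 1 χ := by
      have := dvd_add hT hB; rwa [sub_add_cancel] at this
    have h3 : (2 : ℤ) ∣ d.fc d.T 1 χ := by
      refine ((Int.prime_two).dvd_or_dvd h2).resolve_left fun h4 => ?_
      exact Nat.not_even_iff_odd.mpr d.odd_T (even_iff_two_dvd.mpr (by exact_mod_cast h4))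
    rw [Data.vec]
    omega
  -- all other vectors vanish on the four
  have hother : ∀ j' : d.T →* ℂˣ, (∀ k, j' ≠ jk k) → (∀ k, j' ≠ (jk k)⁻¹) →
      ∀ χ ∈ S, d.vec ψ j' χ = 0 := by
    intro j' h1 h2
    have horth' : ∀ k, ∑ χ, d.vec ψ j' χ * hv k χ = 0 := fun k => by
      have h3 : j' * jk k ≠ 1 := fun e => h2 k (MonoidHom.ext fun z =>
        eq_inv_of_mul_eq_one_left (congrFun (congrArg DFunLike.coe e) z))
      rw [hhv, d.vec_vec hψ, if_neg (h1 k), if_neg h3]
      norm_num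
    rcases eq_or_ne j' 1 with rfl | hj1
    · intro χ hχ
      have hc : ∀ x ∈ S, d.vec ψ 1 x = d.vec ψ 1 χ := fun x hx => hconst _ horth' x hx χ hχ
      have e := d.vec_vec hψ 1 1
      rw [if_pos (MonoidHom.ext fun z => one_mul (1 : ℂˣ)), if_pos rfl] at e
      have hle : ∑ x ∈ S, d.vec ψ 1 x * d.vec ψ 1 x ≤ 8 := by
        refine le_trans (Finset.sum_le_univ_sum_of_nonneg fun x => mul_self_nonneg _) (le_of_eq ?_)
        exact e
      rw [Finset.sum_congr rfl fun x hx => by rw [hc x hx], Finset.sum_const, hS,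
        nsmul_eq_mul] at hle
      push_cast at hle
      obtain ⟨r, hr⟩ := heven χ hχ
      rw [hr] at hle ⊢
      have : r = 0 := by nlinarith
      rw [this, mul_zero]
    · refine hvan _ horth' ?_ (hdegj j')
      rw [d.vec_vec hψ, if_neg (fun e => hj1 (d.eq_one_of_sq e)), if_pos rfl]
      norm_num
  -- the values at `t`
  set H : IrrCharacter G → ℤ := fun χ => hv 0 χ + hv 1 χ + hv 2 χ with hH
  let σ : Fin 3 × Bool → (d.T →* ℂˣ) := fun p => if p.2 then (jk p.1)⁻¹ else jk p.1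
  have hσ : Function.Injective σ := by
    rintro ⟨k, _ | _⟩ ⟨l, _ | _⟩ e <;> simp only [σ, Bool.false_eq_true, if_false, if_true] at e
    · rw [hjk_inj k l e]
    · exact absurd (by rw [e]; ext; simp) (hjk_mul k l)
    · exact absurd (by rw [← e]; ext; simp) (hjk_mul k l)
    · rw [hjk_inj k l (inv_injective e)]
  have htval : ∀ χ ∈ S, (χ : G → ℂ) d.t = ((2 * (d.c : ℤ) * H χ : ℤ) : ℂ) := by
    intro χ hχ
    have e : ∑ j', d.vec ψ j' χ = 2 * H χ := by
      rw [← Finset.sum_subset (Finset.subset_univ (Finset.univ.image σ)) fun j' _ hj' => ?_,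
        Finset.sum_image fun _ _ _ _ e => hσ e, Fintype.sum_prod_type]
      · simp only [σ, Fintype.sum_bool, if_true, Bool.false_eq_true, if_false, d.vec_inv,
          Fin.sum_univ_three, hH, hhv]
        ring
      · refine hother j' (fun k e => hj' ?_) (fun k e => hj' ?_) χ hχ <;>
          refine Finset.mem_image.mpr ?_
        · exact ⟨(k, false), Finset.mem_univ _, by simp [σ, e]⟩
        · exact ⟨(k, true), Finset.mem_univ _, by simp [σ, e]⟩
    have h1 := congrArg conj (d.t_value hψ χ)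
    rw [Complex.conj_conj, map_intCast] at h1
    rw [h1, e, Finset.sum_eq_zero fun μ _ => hbz μ χ hχ]
    congr 1
    ring
  have hsumH : ∑ χ ∈ S, hv 0 χ * H χ ^ 2 = 8 * ε := by
    rw [Finset.sum_congr rfl (g := fun χ => 3 * hv 0 χ + 2 * hv 1 χ + 2 * hv 2 χ + 2 * ε)
      fun χ hχ => ?_]
    · simp only [Finset.sum_add_distrib, ← Finset.mul_sum, hsum0, Finset.sum_const, hS,
        nsmul_eq_mul]
      push_cast
      ring
    · simp only [hH]
      rw [← hprod χ hχ]
      rcases hpm χ hχ 0 with a | a <;> rcases hpm χ hχ 1 with b | b <;>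
        rcases hpm χ hχ 2 with c | c <;> rw [a, b, c] <;> norm_num
  -- the class algebra
  obtain ⟨M, hM, h3M⟩ := d.sylow
  set Cc := (Finset.univ.filter (IsConj d.t)).card with hCc
  set f : IrrCharacter G → ℂ := fun χ => ((Cc : ℂ) * (χ : G → ℂ) d.t) ^ 2 / (χ : G → ℂ) 1 with hf
  have hpair : ∀ (A : Subgroup G) (α : A → ℂ), ∑ χ, f χ * d.col A α χ
      = (Nat.card G : ℂ) * ∑ z : A, α z * (pairCount d.t ((z : G) * d.t) : ℂ) := by
    intro A α
    simp only [Data.col, Finset.mul_sum]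
    rw [Finset.sum_comm]
    refine Finset.sum_congr rfl fun z _ => ?_
    rw [mul_left_comm, ← class_pair_sum d.t ((z : G) * d.t), Finset.mul_sum]
    exact Finset.sum_congr rfl fun χ _ => by simp only [hf, hCc]; ring
  have hE := hpair d.E (d.wgt ψ)
  rw [Finset.sum_eq_single (1 : d.E) (fun e _ he => by
      rw [d.pairCount_E e.2 (fun h1 => he (Subtype.ext h1)), Nat.cast_zero, mul_zero])
    (fun h1 => absurd (Finset.mem_univ _) h1), d.wgt_one, OneMemClass.coe_one, one_mul] at hE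
  simp only [d.col_wgt, mul_left_comm (f _) (d.q : ℂ), ← Finset.mul_sum] at hE
  set Z : ℂ := ∑ z : d.T, (jk 0 z : ℂ) * (pairCount d.t ((z : G) * d.t) : ℂ) with hZ
  have hZint : IsIntegral ℤ Z :=
    IsIntegral.sum _ fun z _ => (isCharacter_isIntegral (isCharacter_hom (jk 0)) z).mul
      (isIntegral_algebraMap (x := (pairCount d.t ((z : G) * d.t) : ℤ)))
  have hT' := hpair d.T (fun z => (jk 0 z : ℂ))
  rw [← hZ] at hT'
  simp only [d.col_eq_fc d.T_le, d.cardT, mul_left_comm (f _) (d.τ : ℂ), ← Finset.mul_sum] at hT'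
  have hlhs : ∑ χ, f χ * (hv 0 χ : ℂ)
      = (Cc : ℂ) ^ 2 * (2 * d.c) ^ 2 * (8 * (ε : ℂ)) / m := by
    rw [← Finset.sum_subset (Finset.subset_univ S) fun χ _ hχ => by
      rw [hzero χ hχ 0, Int.cast_zero, mul_zero]]
    rw [show (8 * (ε : ℂ)) = ((8 * ε : ℤ) : ℂ) by push_cast; ring, ← hsumH, Int.cast_sum,
      Finset.mul_sum, Finset.sum_div]
    refine Finset.sum_congr rfl fun χ hχ => ?_
    rw [hf]
    show ((Cc : ℂ) * (χ : G → ℂ) d.t) ^ 2 / (χ : G → ℂ) 1 * (hv 0 χ : ℂ) = _
    rw [htval χ hχ, Data.deg_eq, hdS χ hχ]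
    push_cast
    ring
  have hsplit : ∑ χ, f χ * (hv 0 χ : ℂ)
      = 2 * (∑ χ, f χ * (d.gam ψ χ : ℂ)) - ∑ χ, f χ * (d.fc d.T (jk 0) χ : ℂ) := by
    rw [Finset.mul_sum, ← Finset.sum_sub_distrib]
    exact Finset.sum_congr rfl fun χ _ => by simp only [hhv, Data.vec]; push_cast; ring
  obtain ⟨N', hN'⟩ := d.three_dvd_pairCount
  obtain ⟨q', hq'⟩ := d.q_three
  have hG : Nat.card G = d.q * M := hM
  have hMC : Cc * (2 * d.c * (d.q + 1)) = M := by
    have e := d.card_class
    rw [hG, ← hCc] at e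
    refine Nat.eq_of_mul_eq_mul_left d.q_pos ?_
    rw [← e]; ring
  set W : ℂ := 4 * (d.τ : ℂ) * N' - q' * Z with hW
  have hWint : IsIntegral ℤ W := by
    refine IsIntegral.sub ?_ ((isIntegral_algebraMap (x := (q' : ℤ))).mul hZint)
    have := isIntegral_algebraMap (R := ℤ) (A := ℂ) (x := 4 * (d.τ : ℤ) * N')
    simpa using this
  have hmC : (m : ℂ) ≠ 0 := Int.cast_ne_zero.mpr hm.ne'
  have hCc0 : (Cc : ℂ) ≠ 0 := Nat.cast_ne_zero.mpr fun h0 => h3M (by rw [← hMC, h0, zero_mul]; exact dvd_zero 3)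
  have hc0 : (d.c : ℂ) ≠ 0 := Nat.cast_ne_zero.mpr d.odd_c.pos.ne'
  have hq0 : (d.q : ℂ) ≠ 0 := Nat.cast_ne_zero.mpr d.q_pos.ne'
  have key : ((16 * (d.τ : ℤ) * Cc * d.c * ε : ℤ) : ℂ) = 3 * ((m : ℂ) * (d.q + 1) * W) := by
    rw [hlhs, div_eq_iff hmC] at hsplit
    rw [hG, hN'] at hE
    rw [hG] at hT'
    push_cast at hE hT' ⊢
    have hqC : (d.q : ℂ) = 3 * (q' : ℂ) := by exact_mod_cast hq'
    have hMC' : (Cc : ℂ) * (2 * d.c * (d.q + 1)) = (M : ℂ) := by exact_mod_cast hMC
    have h3W : 3 * W = 12 * (d.τ : ℂ) * N' - 3 * q' * Z := by rw [hW]; ring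
    refine mul_left_cancel₀ (mul_ne_zero (mul_ne_zero hq0 hCc0) (mul_ne_zero two_ne_zero hc0)) ?_
    linear_combination ((d.q : ℂ) * d.τ) * hsplit + (2 * (m : ℂ) * d.τ) * hE
      - ((m : ℂ) * d.q) * hT' - ((d.q : ℂ) * M * m * Z) * hqC
      - (3 * (d.q : ℂ) * m * W) * hMC'
      - ((d.q : ℂ) * M * m) * h3W
  obtain ⟨k, hk⟩ := exists_int_eq_of_isIntegral
    (((isIntegral_algebraMap (x := (m : ℤ))).mul
      (isIntegral_algebraMap (x := ((d.q : ℤ) + 1)))).mul hWint)
    ((16 * (d.τ : ℚ) * Cc * d.c * ε) / 3) (by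
      push_cast at key ⊢
      simp only [algebraMap_int_eq, eq_intCast, Int.cast_add, Int.cast_one, Int.cast_natCast]
      linear_combination (-1 / 3 : ℂ) * key)
  have hfin : (16 * (d.τ : ℤ) * Cc * d.c * ε : ℤ) = 3 * k := by
    apply Int.cast_injective (α := ℂ)
    push_cast
    rw [← hk]
    simp only [algebraMap_int_eq, eq_intCast, Int.cast_add, Int.cast_one, Int.cast_natCast]
    push_cast at key
    exact key
  have h16 : ¬ 3 ∣ 16 * d.τ * Cc * d.c := by
    intro hd
    rcases (Nat.Prime.dvd_mul Nat.prime_three).mp hd with h1 | h1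
    · rcases (Nat.Prime.dvd_mul Nat.prime_three).mp h1 with h2 | h2
      · rcases (Nat.Prime.dvd_mul Nat.prime_three).mp h2 with h4 | h4
        · norm_num at h4
        · exact d.τ_ne h4
      · exact h3M (hMC ▸ dvd_mul_of_dvd_left h2 _)
    · have := d.c_mod; omega
  refine h16 (Int.natCast_dvd_natCast.mp ⟨k * ε, ?_⟩)
  push_cast
  rcases hε with rfl | rfl <;> linarith

end Cfsg.Agent.Lib.ReeThree91
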