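import Mathlib
import Cfsg.Agent.Lib.SL2.KleinFour
import Cfsg.Agent.Lib.SL2.ClassSizes

/-!
# Local subgroups of `PSL₂(q)`, `q = 3^(2n+1)`

The Sylow `3`-subgroup with its normaliser, and the elliptic torus with its inverting involution.
-/

set_option autoImplicit false
set_option linter.style.haveILetI false

namespace Cfsg.Agent.Lib.ReeThree91

open Cfsg.Agent.Lib.SL2

/-- The local data of `PSL₂(q)` used for groups of Ree type. -/
structure PSLData (F : Type*) [Field F] (q c τ : ℕ) where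
  E : Subgroup (PSLtwo F)
  cardE : Nat.card E = q
  E_comm : ∀ a ∈ E, ∀ b ∈ E, a * b = b * a
  E_pow : ∀ a ∈ E, a ^ 3 = 1
  E_cent : ∀ e ∈ E, e ≠ 1 → ∀ k, k * e = e * k → k ∈ E
  B : Subgroup (PSLtwo F)
  EB : E ≤ B
  cardB : Nat.card B = q * c
  B_norm : ∀ b ∈ B, ∀ e ∈ E, b * e * b⁻¹ ∈ E
  B_of_conj : ∀ e ∈ E, e ≠ 1 → ∀ k, k * e * k⁻¹ ∈ E → k ∈ B
  B_quot_comm : ∀ a ∈ B, ∀ b ∈ B, a * b * a⁻¹ * b⁻¹ ∈ E
  E_notReal : ∀ e ∈ E, e ≠ 1 → ∀ k, k * e * k⁻¹ ≠ e⁻¹
  v : PSLtwo F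
  hv : orderOf v = 2
  i : PSLtwo F
  hi : orderOf i = 2
  i_comm : i * v = v * i
  i_ne : i ≠ v
  T : Subgroup (PSLtwo F)
  cardT : Nat.card T = τ
  T_cyclic : IsCyclic T
  v_cent : ∀ y ∈ T, v * y = y * v
  i_inv : ∀ y ∈ T, i * y * i⁻¹ = y⁻¹
  T_cent : ∀ y ∈ T, y ≠ 1 → ∀ k, k * y = y * k → k ∈ T ∨ v * k ∈ T
  T_conj : ∀ y ∈ T, y ≠ 1 → ∀ k, k * y * k⁻¹ ∈ T → k * y * k⁻¹ = y ∨ k * y * k⁻¹ = y⁻¹
  v_centK : ∀ k, k * v = v * k → k ∈ T ∨ v * k ∈ T ∨ i * k ∈ T ∨ i * v * k ∈ T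

variable {F : Type*} [Field F] [Fintype F]

/-- The data exists for `q = 3^(2n+1)`, `n ≥ 1`. -/
theorem exists_pslData {n q c τ : ℕ} (hn : 1 ≤ n) (hq : q = 3 ^ (2 * n + 1))
    (hF : Fintype.card F = q) (hc : q = 2 * c + 1) (hτ : q + 1 = 4 * τ) (hτodd : Odd τ) :
    Nonempty (PSLData F q c τ) := by
  classical
  haveI : Fact (Nat.Prime 3) := ⟨Nat.prime_three⟩
  haveI hch : CharP F 3 := charP_of_card_eq_prime_pow (hF.trans hq)
  have h2 : (2 : F) ≠ 0 := two_ne_zero_iff_odd.2 (hF ▸ ⟨c, hc⟩)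
  have hq27 : 27 ≤ q := by
    rw [hq]
    calc 27 = 3 ^ 3 := by norm_num
      _ ≤ _ := Nat.pow_le_pow_right (by norm_num) (by omega)
  have hgcd : Nat.gcd 2 (Fintype.card F - 1) = 2 :=
    Nat.gcd_eq_left ⟨c, by omega⟩
  -- the Sylow 3-subgroup
  set x0 : PSLtwo F := proj (upper (1 : F)) with hx0def
  have hx1 : x0 ≠ 1 := proj_upper_one_ne
  have hxu : IsUnip x0 := isUnip_upper 1
  set E := torus x0 with hEdef
  have cardE : Nat.card E = q := by rw [card_torus_unip hxu hx1, hF]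
  have E_unip : ∀ y ∈ E, y ≠ 1 → IsUnip y := by
    intro y hy hy1
    refine (semi_or_unip y).resolve_left fun hs => ?_
    have h := coprime_card_torus_semi 3 hs
    rw [torus_eq_of_mem hx1 hy hy1, cardE, hq, Nat.coprime_pow_left_iff (by omega)] at h
    norm_num at h
  have E_cent : ∀ e ∈ E, e ≠ 1 → ∀ k, k * e = e * k → k ∈ E := by
    intro e he he1 k hk
    obtain ⟨g, hg, ht⟩ := E_unip e he he1
    have h := centralizer_proj_eq (notMem_center_of_proj_ne (hg.symm ▸ he1 : proj g ≠ 1))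
      (Or.inr (ht.symm ▸ h2))
    rw [hg, torus_eq_of_mem hx1 he he1] at h
    exact h.le (Subgroup.mem_centralizer_singleton_iff.2 hk)
  set B : Subgroup (PSLtwo F) := Subgroup.normalizer ((E : Subgroup (PSLtwo F)) : Set (PSLtwo F))
    with hBdef
  have cardB : Nat.card B = q * c := by
    rw [hBdef, hEdef, hx0def, normalizer_torus_upper, card_borelPSL, hgcd, hF,
      show q - 1 = 2 * c by omega, mul_assoc, Nat.mul_div_cancel_left _ two_pos, mul_comm]
  have B_norm : ∀ b ∈ B, ∀ e ∈ E, b * e * b⁻¹ ∈ E := fun b hb e he =>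
    (Subgroup.mem_normalizer_iff.1 hb e).1 he
  have E_pow : ∀ a ∈ E, a ^ 3 = 1 := by
    intro a ha
    rcases eq_or_ne a 1 with rfl | ha1
    · exact one_pow 3
    · exact orderOf_dvd_iff_pow_eq_one.1 (orderOf_dvd_of_unip 3 (E_unip a ha ha1))
  have B_of_conj : ∀ e ∈ E, e ≠ 1 → ∀ k, k * e * k⁻¹ ∈ E → k ∈ B := by
    intro e he he1 k hk
    rw [hBdef, hEdef, ← torus_eq_of_mem hx1 he he1, mem_normalizer_torus_iff he1,
      torus_eq_of_mem hx1 he he1]
    exact hk
  have hcodd : Odd c := by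
    obtain ⟨s, hs⟩ := hτodd
    exact ⟨2 * s, by omega⟩
  have E_notReal : ∀ e ∈ E, e ≠ 1 → ∀ k, k * e * k⁻¹ ≠ e⁻¹ := by
    intro e he he1 k hk
    have hkB : k ∈ B := B_of_conj e he he1 k (hk ▸ E.inv_mem he)
    have hodd : Odd (orderOf k) := by
      have h := orderOf_dvd_natCard (⟨k, hkB⟩ : B)
      rw [Subgroup.orderOf_mk, cardB] at h
      exact Odd.of_dvd_nat (Nat.odd_mul.2 ⟨hc ▸ ⟨c, rfl⟩, hcodd⟩) h
    have hk2 : k ^ 2 * e = e * k ^ 2 := by
      have h1 : k * e⁻¹ * k⁻¹ = e := by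
        have := congrArg (·⁻¹) hk
        simpa [mul_assoc] using this
      calc k ^ 2 * e = k * (k * e * k⁻¹) * k := by rw [sq]; group
        _ = k * e⁻¹ * k⁻¹ * k ^ 2 := by rw [hk, sq]; group
        _ = e * k ^ 2 := by rw [h1]
    have hk2E : k ^ 2 ∈ E := E_cent e he he1 _ hk2
    have hkE : k ∈ E := by
      obtain ⟨s, hs⟩ := hodd
      have h1 : k ^ (2 * (s + 1)) = k := by
        rw [show 2 * (s + 1) = orderOf k + 1 by omega, pow_succ, pow_orderOf_eq_one, one_mul]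
      rw [← h1, pow_mul]
      exact E.pow_mem hk2E _
    have h3 : e = e⁻¹ := by
      conv_lhs => rw [← mul_inv_cancel_right e k, ← torus_comm hx1 hkE he]
      exact hk
    have h4 : e ^ 3 = e := by
      rw [pow_succ, sq, mul_eq_one_iff_eq_inv.2 h3, one_mul]
    exact he1 (h4.symm.trans (E_pow e he))
  -- the elliptic torus
  obtain ⟨g, hg⟩ := exists_elliptic (F := F)
  have hxs : IsSemi (proj g) := ⟨g, rfl, Or.inl hg⟩
  have hs1 : proj g ≠ 1 := hxs.ne_one
  set A := torus (proj g) with hAdef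
  have cardA : Nat.card A = 2 * τ := by
    rw [hAdef, card_torus_elliptic hg, hgcd, hF]
    omega
  obtain ⟨a, ha⟩ := (isCyclic_torus_semi hxs).exists_generator
  have hgen : ∀ y ∈ A, ∃ j : ℤ, (a : PSLtwo F) ^ j = y := by
    intro y hy
    obtain ⟨j, hj⟩ := ha ⟨y, hy⟩
    exact ⟨j, (SubgroupClass.coe_zpow a j).symm.trans (congrArg Subtype.val hj)⟩
  set w : PSLtwo F := (a : PSLtwo F) with hwdef
  have hwA : w ∈ A := a.2
  have hwo : orderOf w = 2 * τ := by
    rw [hwdef, Subgroup.orderOf_coe, orderOf_eq_card_of_forall_mem_zpowers ha, cardA]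
  have hτpos : 0 < τ := hτodd.pos
  have hτ7 : 7 ≤ τ := by omega
  set v : PSLtwo F := w ^ τ with hvdef
  have hvo : orderOf v = 2 := by
    rw [hvdef, orderOf_pow, hwo, Nat.gcd_eq_right ⟨2, by ring⟩, Nat.mul_div_left _ hτpos]
  have hvv : v * v = 1 := by
    have h := pow_orderOf_eq_one v
    rwa [hvo, sq] at h
  have hv1 : v ≠ 1 := fun h => by rw [h, orderOf_one] at hvo; omega
  have hvA : v ∈ A := A.pow_mem hwA _
  set T : Subgroup (PSLtwo F) := Subgroup.zpowers (w ^ 2) with hTdef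
  have hTA : T ≤ A := Subgroup.zpowers_le.2 (A.pow_mem hwA 2)
  have cardT : Nat.card T = τ := by
    rw [hTdef, Nat.card_zpowers, orderOf_pow, hwo, Nat.gcd_eq_right ⟨τ, rfl⟩,
      Nat.mul_div_cancel_left _ two_pos]
  have A_split : ∀ y ∈ A, y ∈ T ∨ v * y ∈ T := by
    intro y hy
    obtain ⟨j, rfl⟩ := hgen y hy
    rcases Int.even_or_odd j with ⟨m, rfl⟩ | ⟨m, rfl⟩
    · exact Or.inl ⟨m, show (w ^ 2) ^ m = _ by rw [← zpow_natCast w 2, ← zpow_mul]; ring_nf⟩
    · obtain ⟨s, hs⟩ := hτodd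
      refine Or.inr ⟨m + ((s + 1 : ℕ) : ℤ), show (w ^ 2) ^ (m + ((s + 1 : ℕ) : ℤ)) = _ from ?_⟩
      rw [hvdef, ← zpow_natCast w 2, ← zpow_natCast w τ, ← zpow_mul, ← zpow_add, hs]
      congr 1
      push_cast
      ring
  have T_odd : ∀ y ∈ T, y * y = 1 → y = 1 := by
    intro y hy hyy
    have h := orderOf_dvd_natCard (⟨y, hy⟩ : T)
    rw [Subgroup.orderOf_mk, cardT] at h
    exact orderOf_eq_one_iff.1 (Nat.eq_one_of_dvd_coprimes (Nat.coprime_two_left.2 hτodd)
      (orderOf_dvd_of_pow_eq_one (by rw [sq, hyy])) h)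
  have A_semi : ∀ y ∈ A, y ≠ 1 → IsSemi y := by
    intro y hy hy1
    refine (semi_or_unip y).resolve_right fun hu => ?_
    have h := card_torus_unip hu hy1
    rw [torus_eq_of_mem hs1 hy hy1, ← hAdef, cardA, hF] at h
    omega
  have T_cent : ∀ y ∈ T, y ≠ 1 → ∀ k, k * y = y * k → k ∈ T ∨ v * k ∈ T := by
    intro y hy hy1 k hk
    apply A_split
    obtain ⟨h, rfl⟩ := proj_surjective y
    have htr : tr h ≠ 0 := fun e => hy1 (T_odd _ hy (by
      rw [← map_mul, mul_self_of_tr_zero e, proj_neg, map_one]))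
    have hC := centralizer_proj_eq (notMem_center_of_proj_ne hy1) (Or.inr htr)
    rw [hAdef, ← torus_eq_of_mem hs1 (hTA hy) hy1, ← hC]
    exact Subgroup.mem_centralizer_singleton_iff.2 hk
  obtain ⟨i, hiN, hiA⟩ := exists_inverter hxs
  obtain ⟨hii, hinv⟩ := normalizer_torus_inverts hxs hiN hiA
  have hi1 : i ≠ 1 := fun h => hiA (h ▸ A.one_mem)
  have hio : orderOf i = 2 := orderOf_eq_prime (by rw [sq, hii]) hi1
  have hiv : i * v = v * i := by
    have h := hinv v hvA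
    rw [inv_eq_of_mul_eq_one_right hvv] at h
    exact mul_inv_eq_iff_eq_mul.1 h
  refine ⟨{
    E := E
    cardE := cardE
    E_comm := fun a ha b hb => torus_comm hx1 ha hb
    E_pow := E_pow
    E_cent := E_cent
    B := B
    EB := Subgroup.le_normalizer
    cardB := cardB
    B_norm := B_norm
    B_of_conj := B_of_conj
    B_quot_comm := fun a ha b hb =>
      commutator_mem_torus_unip hxu hx1 ((mem_normalizer_torus_iff hx1).1 ha)
        ((mem_normalizer_torus_iff hx1).1 hb)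
    E_notReal := E_notReal
    v := v
    hv := hvo
    i := i
    hi := hio
    i_comm := hiv
    i_ne := fun h => hiA (h ▸ hvA)
    T := T
    cardT := cardT
    T_cyclic := inferInstanceAs (IsCyclic (Subgroup.zpowers (w ^ 2)))
    v_cent := fun y hy => torus_comm hs1 hvA (hTA hy)
    i_inv := fun y hy => hinv y (hTA hy)
    T_cent := T_cent
    T_conj := ?_
    v_centK := ?_ }⟩
  · intro y hy hy1 k hk
    have ht : torus y = A := torus_eq_of_mem hs1 (hTA hy) hy1
    rcases normalizer_torus_semi (A_semi y (hTA hy) hy1) (ht ▸ hTA hk : k * y * k⁻¹ ∈ torus y)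
      with h | ⟨-, -, h⟩
    · left
      rw [torus_comm (A_semi y (hTA hy) hy1).ne_one h (mem_torus_self y), mul_inv_cancel_right]
    · exact Or.inr (h y (mem_torus_self y))
  · intro k hk
    have ht : torus v = A := torus_eq_of_mem hs1 hvA hv1
    by_cases hkA : k ∈ A
    · exact (A_split k hkA).elim Or.inl (fun h => Or.inr (Or.inl h))
    · have hkN : k ∈ Subgroup.normalizer ((A : Subgroup (PSLtwo F)) : Set (PSLtwo F)) := by
        rw [← ht, mem_normalizer_torus_iff hv1, hk, mul_inv_cancel_right]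
        exact mem_torus_self v
      obtain ⟨-, hkinv⟩ := normalizer_torus_inverts hxs hkN hkA
      -- a nontrivial element of `T`
      have hy0 : w ^ 2 ∈ T := Subgroup.mem_zpowers _
      have hy1 : w ^ 2 ≠ 1 := fun h => by
        have := orderOf_dvd_of_pow_eq_one h
        rw [hwo] at this
        have := Nat.le_of_dvd two_pos this
        omega
      have hkk := hkinv _ (hTA hy0)
      have hik := hinv _ (A.inv_mem (hTA hy0))
      rw [inv_inv] at hik
      have hcomm : (i * k) * w ^ 2 = w ^ 2 * (i * k) := by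
        calc (i * k) * w ^ 2 = i * (k * w ^ 2 * k⁻¹) * i⁻¹ * (i * k) := by group
          _ = w ^ 2 * (i * k) := by rw [hkk, hik]
      rcases T_cent _ hy0 hy1 _ hcomm with h | h
      · exact Or.inr (Or.inr (Or.inl h))
      · rw [← mul_assoc, ← hiv] at h
        exact Or.inr (Or.inr (Or.inr h))

end Cfsg.Agent.Lib.ReeThree91
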