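import Mathlib
import Cfsg.Prelude.Def_LocalEven

/-!
Data attached to a group of Ree type (involution-centraliser sense) whose Sylow `3`-subgroup is
no bigger than that of `C(t)`.
-/

set_option autoImplicit false

namespace Cfsg.Agent.Lib.ReeThree91

universe u

/-- `C(t) = ⟨t⟩ × K`, `K ≅ PSL₂(q)`, `q = 3^(2n+1)`, with the local data needed in `K`, and
`E` a Sylow `3`-subgroup of `G`. -/
structure Data (G : Type u) [Group G] [Finite G] where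
  n : ℕ
  hn : 1 ≤ n
  q : ℕ
  hq : q = 3 ^ (2 * n + 1)
  c : ℕ
  hc : q = 2 * c + 1
  τ : ℕ
  hτ : q + 1 = 4 * τ
  hτodd : Odd τ
  simple : IsSimpleGroup G
  nonabelian : ¬ IsMulCommutative G
  t : G
  ht : orderOf t = 2
  oddIndex : Odd (Subgroup.centralizer ({t} : Set G)).index
  K : Subgroup G
  htK : t ∉ K
  K_comm : ∀ k ∈ K, k * t = t * k
  K_cent : ∀ g : G, g * t = t * g → g ∈ K ∨ t * g ∈ K
  equiv : ∃ (F : Type) (_ : Field F) (_ : Fintype F), Fintype.card F = q ∧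
    Nonempty (K ≃* Matrix.ProjectiveSpecialLinearGroup (Fin 2) F)
  cardK : Nat.card K = q * c * (q + 1)
  E : Subgroup G
  E_le : E ≤ K
  cardE : Nat.card E = q
  E_comm : ∀ a ∈ E, ∀ b ∈ E, a * b = b * a
  E_pow : ∀ a ∈ E, a ^ 3 = 1
  E_cent : ∀ e ∈ E, e ≠ 1 → ∀ k ∈ K, k * e = e * k → k ∈ E
  B : Subgroup G
  B_le : B ≤ K
  EB : E ≤ B
  cardB : Nat.card B = q * c
  B_norm : ∀ b ∈ B, ∀ e ∈ E, b * e * b⁻¹ ∈ E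
  B_of_conj : ∀ e ∈ E, e ≠ 1 → ∀ k ∈ K, k * e * k⁻¹ ∈ E → k ∈ B
  B_quot_comm : ∀ a ∈ B, ∀ b ∈ B, a * b * a⁻¹ * b⁻¹ ∈ E
  E_notReal : ∀ e ∈ E, e ≠ 1 → ∀ k ∈ K, k * e * k⁻¹ ≠ e⁻¹
  v : G
  v_mem : v ∈ K
  hv : orderOf v = 2
  i : G
  i_mem : i ∈ K
  hi : orderOf i = 2
  i_comm : i * v = v * i
  i_ne : i ≠ v
  T : Subgroup G
  T_le : T ≤ K
  cardT : Nat.card T = τ
  T_cyclic : IsCyclic T
  v_cent : ∀ y ∈ T, v * y = y * v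
  i_inv : ∀ y ∈ T, i * y * i⁻¹ = y⁻¹
  T_cent : ∀ y ∈ T, y ≠ 1 → ∀ k ∈ K, k * y = y * k → k ∈ T ∨ v * k ∈ T
  T_conj : ∀ y ∈ T, y ≠ 1 → ∀ k ∈ K, k * y * k⁻¹ ∈ T → k * y * k⁻¹ = y ∨ k * y * k⁻¹ = y⁻¹
  v_centK : ∀ k ∈ K, k * v = v * k → k ∈ T ∨ v * k ∈ T ∨ i * k ∈ T ∨ i * v * k ∈ T
  sylow : ∃ M : ℕ, Nat.card G = q * M ∧ ¬ 3 ∣ M

/-- An element normalising `T` and acting on it as neither `± 1` nor a square root of `± 1`. -/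
def Twisted {G : Type u} [Group G] [Finite G] (d : Data G) : Prop :=
  ∃ g y : G, (∀ z ∈ d.T, g * z * g⁻¹ ∈ d.T) ∧ y ∈ d.T ∧ d.T ≤ Subgroup.zpowers y ∧
    g * y * g⁻¹ ≠ y ∧ g * y * g⁻¹ ≠ y⁻¹ ∧
    g * g * y * (g * g)⁻¹ ≠ y ∧ g * g * y * (g * g)⁻¹ ≠ y⁻¹

end Cfsg.Agent.Lib.ReeThree91
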