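import Mathlib
import Cfsg.Prelude.Def_LocalEven
import Cfsg.Agent.Lib.ReeThree91.Spec
import Cfsg.Agent.Lib.ReeThree91.PSLModel
import Cfsg.Agent.Lib.Involves.Dihedral

/-!
# A group of Ree type involves `S₃` or carries `Data`

If `3q` divides the order of `G`, some 3-element outside `E` is inverted by an involution.
-/

set_option autoImplicit false
set_option linter.style.haveILetI false

namespace Cfsg.Agent.Lib.ReeThree91

open Subgroup

universe u

/-- The dihedral group of order six is `S₃`. -/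
theorem nonempty_dihedralThree_perm : Nonempty (DihedralGroup 3 ≃* Equiv.Perm (Fin 3)) := by
  set a : Equiv.Perm (Fin 3) := finRotate 3 with ha
  set b : Equiv.Perm (Fin 3) := Equiv.swap 0 1 with hb
  have ha3 : a ^ 3 = 1 := by decide
  have hbb : b * b = 1 := by decide
  have hab : b * a * b⁻¹ = a⁻¹ := by decide
  have hao : orderOf a = 3 := orderOf_eq_prime ha3 (by decide)
  have hnot : b ∉ Subgroup.zpowers a := by
    intro h
    obtain ⟨k, hk⟩ := Subgroup.mem_zpowers_iff.mp h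
    have hs := congrArg Equiv.Perm.sign hk
    rw [map_zpow, show Equiv.Perm.sign a = 1 by decide, show Equiv.Perm.sign b = -1 by decide,
      _root_.one_zpow] at hs
    exact absurd hs (by decide)
  let D := TwoGroup.dihedralHom a b (hao ▸ pow_orderOf_eq_one a) hbb hab
  refine ⟨MulEquiv.ofBijective D ((Nat.bijective_iff_injective_and_card _).2
    ⟨TwoGroup.dihedralHom_injective hao hbb hab hnot, ?_⟩)⟩
  rw [DihedralGroup.nat_card, Nat.card_perm, Nat.card_fin]; rfl

/-- A normal subgroup of index two and odd order, when an involution centralises no larger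
2-group. -/
theorem exists_normal_odd {C : Type u} [Group C] [Finite C] (t : C) (ht : orderOf t = 2)
    (hC : ∀ y : C, y * t = t * y → ∀ k : ℕ, y ^ 2 ^ k = 1 → y = 1 ∨ y = t) :
    (∀ s : C, orderOf s = 2 → ∃ c : C, c * t * c⁻¹ = s) ∧
      ∃ U : Subgroup C, U.Normal ∧ U.index = 2 ∧ Odd (Nat.card U) := by
  haveI : Fact (Nat.Prime 2) := ⟨Nat.prime_two⟩
  have hTp : IsPGroup 2 (zpowers t) := IsPGroup.of_card (n := 1) (by rw [Nat.card_zpowers, ht, pow_one])
  obtain ⟨S, hS⟩ := hTp.exists_le_sylow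
  have hSeq : (S : Subgroup C) = zpowers t := by
    by_contra hne
    haveI := S.2.isNilpotent
    have hlt : (zpowers t).subgroupOf (S : Subgroup C) < ⊤ := by
      rw [lt_top_iff_ne_top, Ne, subgroupOf_eq_top]
      exact fun h => hne (le_antisymm h hS)
    obtain ⟨y, hyN, hy⟩ := SetLike.exists_of_lt (Group.normalizerCondition_of_isNilpotent _ hlt)
    have htS : t ∈ (S : Subgroup C) := hS (mem_zpowers t)
    have h1 : y * ⟨t, htS⟩ * y⁻¹ ∈ (zpowers t).subgroupOf (S : Subgroup C) :=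
      (mem_normalizer_iff.1 hyN ⟨t, htS⟩).1 (mem_subgroupOf.2 (mem_zpowers t))
    rw [mem_subgroupOf] at h1
    simp only [coe_mul, InvMemClass.coe_inv] at h1
    obtain ⟨j, hj⟩ := h1
    have hj' : t ^ j = (y : C) * t * (y : C)⁻¹ := hj
    have htt : t ^ 2 = 1 := ht ▸ pow_orderOf_eq_one t
    have hyt : (y : C) * t = t * y := by
      rcases Int.even_or_odd j with ⟨m, rfl⟩ | ⟨m, rfl⟩
      · rw [← two_mul, zpow_mul, zpow_ofNat, htt, _root_.one_zpow] at hj'
        have h1 : t = 1 := conj_eq_one_iff.1 hj'.symm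
        rw [h1, orderOf_one] at ht
        exact absurd ht (by norm_num)
      · rw [zpow_add, zpow_mul, zpow_ofNat, htt, _root_.one_zpow, one_mul, zpow_one] at hj'
        exact (eq_mul_inv_iff_mul_eq.1 hj').symm
    obtain ⟨k, hk⟩ := S.2 y
    rcases hC y hyt k (by simpa using congrArg Subtype.val hk) with h | h
    · exact hy (mem_subgroupOf.2 (h ▸ one_mem _))
    · exact hy (mem_subgroupOf.2 (h ▸ mem_zpowers t))
  refine ⟨fun s hs => ?_, ?_⟩
  · have hsp : IsPGroup 2 (zpowers s) :=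
      IsPGroup.of_card (n := 1) (by rw [Nat.card_zpowers, hs, pow_one])
    obtain ⟨R, hR⟩ := hsp.exists_le_sylow
    obtain ⟨c, hc⟩ := MulAction.exists_smul_eq C R S
    have h1 : c * s * c⁻¹ ∈ (S : Subgroup C) := by
      rw [← hc]
      exact ⟨s, hR (mem_zpowers s), rfl⟩
    rw [hSeq] at h1
    obtain ⟨j, hj⟩ := h1
    have hj' : t ^ j = c * s * c⁻¹ := hj
    have htt : t ^ 2 = 1 := ht ▸ pow_orderOf_eq_one t
    rcases Int.even_or_odd j with ⟨m, rfl⟩ | ⟨m, rfl⟩
    · rw [← two_mul, zpow_mul, zpow_ofNat, htt, _root_.one_zpow] at hj'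
      have h1 : s = 1 := conj_eq_one_iff.1 hj'.symm
      rw [h1, orderOf_one] at hs
      exact absurd hs (by norm_num)
    · rw [zpow_add, zpow_mul, zpow_ofNat, htt, _root_.one_zpow, one_mul, zpow_one] at hj'
      exact ⟨c⁻¹, by rw [hj']; group⟩
  · have hP : normalizer ((S : Subgroup C) : Set C) ≤ centralizer ((S : Subgroup C) : Set C) := by
      intro n hn
      rw [hSeq] at hn ⊢
      have h1 : n * t * n⁻¹ ∈ zpowers t := (mem_normalizer_iff.1 hn t).1 (mem_zpowers t)
      obtain ⟨j, hj⟩ := h1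
      have hj' : t ^ j = n * t * n⁻¹ := hj
      have htt : t ^ 2 = 1 := ht ▸ pow_orderOf_eq_one t
      have hnt : n * t = t * n := by
        rcases Int.even_or_odd j with ⟨m, rfl⟩ | ⟨m, rfl⟩
        · rw [← two_mul, zpow_mul, zpow_ofNat, htt, _root_.one_zpow] at hj'
          have h1 : t = 1 := conj_eq_one_iff.1 hj'.symm
          rw [h1, orderOf_one] at ht
          exact absurd ht (by norm_num)
        · rw [zpow_add, zpow_mul, zpow_ofNat, htt, _root_.one_zpow, one_mul, zpow_one] at hj'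
          exact (eq_mul_inv_iff_mul_eq.1 hj').symm
      rw [zpowers_eq_closure, centralizer_closure, mem_centralizer_singleton_iff]
      exact hnt
    refine ⟨(MonoidHom.transferSylow S hP).ker, inferInstance, ?_, ?_⟩
    · rw [(MonoidHom.ker_transferSylow_isComplement' S hP).symm.index_eq_card, hSeq,
        Nat.card_zpowers, ht]
    · rw [← Nat.not_even_iff_odd, even_iff_two_dvd]
      exact MonoidHom.not_dvd_card_ker_transferSylow S hP

variable {G : Type u} [Group G] [Finite G]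

/-- If `3q` divides `|G|` then `S₃` is involved. -/
theorem involves_perm_three_of_dvd {m c : ℕ} (t : G) (ht : orderOf t = 2) (K E B : Subgroup G)
    (hEK : E ≤ K) (htK : t ∉ K) (K_comm : ∀ k ∈ K, k * t = t * k)
    (K_cent : ∀ g : G, g * t = t * g → g ∈ K ∨ t * g ∈ K)
    (cardE : Nat.card E = 3 ^ m) (hm : 1 ≤ m) (E_comm : ∀ a ∈ E, ∀ b ∈ E, a * b = b * a)
    (E_pow : ∀ a ∈ E, a ^ 3 = 1) (E_cent : ∀ e ∈ E, e ≠ 1 → ∀ k ∈ K, k * e = e * k → k ∈ E)
    (hEB : E ≤ B) (cardB : Nat.card B = 3 ^ m * c) (hc : ¬ 3 ∣ c)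
    (B_norm : ∀ b ∈ B, ∀ e ∈ E, b * e * b⁻¹ ∈ E)
    (B_of_conj : ∀ e ∈ E, e ≠ 1 → ∀ k ∈ K, k * e * k⁻¹ ∈ E → k ∈ B)
    (hdvd : 3 ^ (m + 1) ∣ Nat.card G) :
    Cfsg.Involves (Equiv.Perm (Fin 3)) G := by
  classical
  haveI : Fact (Nat.Prime 3) := ⟨Nat.prime_three⟩
  haveI : Fact (Nat.Prime 2) := ⟨Nat.prime_two⟩
  set N := normalizer (E : Set G) with hN
  set C := centralizer (E : Set G) with hC
  have hCN : C ≤ N := centralizer_le_normalizer _
  have htC : t ∈ C := mem_centralizer_iff.2 fun e he => K_comm e (hEK he)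
  have hEC : E ≤ C := fun e he => mem_centralizer_iff.2 fun x hx => E_comm x hx e he
  have hnontriv : E ≠ ⊥ := by
    intro h
    rw [h, card_bot] at cardE
    exact absurd cardE.symm (Nat.one_lt_pow (by omega) (by norm_num)).ne'
  obtain ⟨e0, he0, he01⟩ := (Subgroup.bot_or_exists_ne_one E).resolve_left hnontriv
  -- `C ∩ C(t) = E ∪ tE`
  have hCt : ∀ g ∈ C, g * t = t * g → g ∈ E ∨ t * g ∈ E := by
    intro g hg hgt
    rcases K_cent g hgt with h | h
    · exact Or.inl (E_cent e0 he0 he01 g h ((mem_centralizer_iff.1 hg e0 he0).symm))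
    · refine Or.inr (E_cent e0 he0 he01 _ h ?_)
      exact ((mem_centralizer_iff.1 (C.mul_mem htC hg) e0 he0)).symm
  have htt : t * t = 1 := by
    have h := pow_orderOf_eq_one t
    rwa [ht, sq] at h
  -- 3-elements of `C ∩ C(t)` lie in `E`
  have hthree : ∀ g ∈ C, g * t = t * g → (∃ k : ℕ, g ^ 3 ^ k = 1) → g ∈ E := by
    rintro g hg hgt ⟨k, hk⟩
    refine (hCt g hg hgt).resolve_right fun h => ?_
    have hco : Commute t g := hgt.symm
    have hodd : Odd (3 ^ k) := Odd.pow ⟨1, rfl⟩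
    have h1 : (t * g) ^ 3 ^ k = t := by
      rw [hco.mul_pow, hk, mul_one]
      obtain ⟨s, hs⟩ := hodd
      rw [hs, pow_succ, pow_mul, sq, htt, one_pow, one_mul]
    exact htK (hEK (h1 ▸ E.pow_mem h (3 ^ k)))
  -- 2-elements of `C ∩ C(t)`
  set tC : C := ⟨t, htC⟩ with htCdef
  have htCo : orderOf tC = 2 := by rw [htCdef, orderOf_mk, ht]
  have hE2 : ∀ g ∈ E, ∀ k : ℕ, g ^ 2 ^ k = 1 → g = 1 := by
    intro g hg k hk
    refine orderOf_eq_one_iff.1 (Nat.eq_one_of_dvd_coprimes ?_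
      (orderOf_dvd_of_pow_eq_one hk) (orderOf_dvd_of_pow_eq_one (E_pow g hg)))
    exact (Nat.coprime_pow_left_iff (Nat.succ_pos _) 2 3).2 (by norm_num) |>.coprime_dvd_left
      (pow_dvd_pow 2 (Nat.le_succ k))
  have h2 : ∀ y : C, y * tC = tC * y → ∀ k : ℕ, y ^ 2 ^ k = 1 → y = 1 ∨ y = tC := by
    rintro ⟨g, hg⟩ hy k hk
    have hy' : g * t = t * g := congrArg Subtype.val hy
    have hk' : g ^ 2 ^ k = 1 := by simpa using congrArg Subtype.val hk
    rcases hCt g hg hy' with h | h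
    · exact Or.inl (Subtype.ext (hE2 g h k hk'))
    · refine Or.inr (Subtype.ext ?_)
      have h1 : (t * g) ^ 2 ^ (k + 1) = 1 := by
        rw [(show Commute t g from hy'.symm).mul_pow, pow_succ', pow_mul, pow_mul, sq t, htt,
          one_pow, one_mul, ← pow_mul, mul_comm, pow_mul, hk', one_pow]
      have h2 := hE2 _ h _ h1
      show g = t
      calc g = t * t * g := by rw [htt, one_mul]
        _ = t := by rw [mul_assoc, h2, mul_one]
  obtain ⟨hconj, U, hUn, hUidx, hUodd⟩ := exists_normal_odd tC htCo h2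
  haveI := hUn
  -- `N / C` has exponent dividing `c`
  have hBc : ∀ b ∈ B, b ^ c ∈ E := by
    intro b hb
    haveI hn : (E.subgroupOf B).Normal := ⟨fun e he g => by
      rw [mem_subgroupOf] at he ⊢
      exact B_norm g g.2 e he⟩
    have hidx : (E.subgroupOf B).index = c := by
      have h := (E.subgroupOf B).card_mul_index
      rw [Nat.card_congr (subgroupOfEquivOfLe hEB).toEquiv, cardE, cardB] at h
      exact Nat.eq_of_mul_eq_mul_left (pow_pos (by norm_num) m) h
    have h := Subgroup.pow_index_mem (E.subgroupOf B) ⟨b, hb⟩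
    rw [hidx, mem_subgroupOf] at h
    simpa using h
  set CN : Subgroup N := C.subgroupOf N with hCNdef
  haveI hCNn : CN.Normal := ⟨fun x hx g => by
    rw [hCNdef, mem_subgroupOf] at hx ⊢
    rw [hC, mem_centralizer_iff] at hx ⊢
    intro e he
    have h1 : (g : G)⁻¹ * e * g ∈ E := (mem_normalizer_iff''.1 g.2 e).1 he
    have h2 := hx _ h1
    simp only [coe_mul, InvMemClass.coe_inv]
    calc e * ((g : G) * x * (g : G)⁻¹) = (g : G) * ((g : G)⁻¹ * e * g * x) * (g : G)⁻¹ := by group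
      _ = (g : G) * ((x : G) * ((g : G)⁻¹ * e * g)) * (g : G)⁻¹ := by rw [h2]
      _ = (g : G) * x * (g : G)⁻¹ * e := by group⟩
  have hexp : ∀ n : N, (QuotientGroup.mk' CN n) ^ c = 1 := by
    rintro ⟨n, hn⟩
    -- move `n` into `C(t)`
    have h1 : n * t * n⁻¹ ∈ C := by
      rw [hC, mem_centralizer_iff]
      intro e he
      have h1 : n⁻¹ * e * n ∈ E := (mem_normalizer_iff''.1 hn e).1 he
      have h2 := mem_centralizer_iff.1 htC _ h1
      calc e * (n * t * n⁻¹) = n * (n⁻¹ * e * n * t) * n⁻¹ := by group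
        _ = n * (t * (n⁻¹ * e * n)) * n⁻¹ := by rw [h2]
        _ = n * t * n⁻¹ * e := by group
    have h2 : orderOf (⟨n * t * n⁻¹, h1⟩ : C) = 2 := by
      rw [orderOf_mk]
      exact ((MulAut.conj n).orderOf_eq t).trans ht
    obtain ⟨⟨d, hd⟩, hdt⟩ := hconj _ h2
    have hdt' : d * t * d⁻¹ = n * t * n⁻¹ := congrArg Subtype.val hdt
    set l := d⁻¹ * n with hl
    have hlt : l * t = t * l := by
      calc l * t = d⁻¹ * (n * t * n⁻¹) * n := by rw [hl]; group
        _ = t * l := by rw [← hdt', hl]; group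
    have hlN : l ∈ N := N.mul_mem (N.inv_mem (hCN hd)) hn
    have key : ∀ x ∈ K, x ∈ N → x ^ c ∈ C := by
      intro x hxK hxN
      exact hEC (hBc x (B_of_conj e0 he0 he01 x hxK ((mem_normalizer_iff.1 hxN e0).1 he0)))
    have e1 : QuotientGroup.mk' CN ⟨n, hn⟩ = QuotientGroup.mk' CN ⟨l, hlN⟩ := by
      refine ((QuotientGroup.mk'_eq_mk' CN).2 ⟨(⟨l, hlN⟩ : N)⁻¹ * (⟨d, hCN hd⟩ : N) * ⟨l, hlN⟩, ?_,
        ?_⟩).symm
      · simpa using hCNn.conj_mem _ (show (⟨d, hCN hd⟩ : N) ∈ CN from hd) (⟨l, hlN⟩ : N)⁻¹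
      · apply Subtype.ext
        simp [hl, mul_assoc]
    rw [e1]
    rcases K_cent l hlt with h | h
    · rw [← map_pow, ← MonoidHom.mem_ker, QuotientGroup.ker_mk']
      exact key l h hlN
    · have htlN : t * l ∈ N := N.mul_mem (hCN htC) hlN
      have e2 : QuotientGroup.mk' CN ⟨l, hlN⟩ = QuotientGroup.mk' CN ⟨t * l, htlN⟩ := by
        rw [show (⟨t * l, htlN⟩ : N) = ⟨t, hCN htC⟩ * ⟨l, hlN⟩ from rfl, map_mul,
          show QuotientGroup.mk' CN ⟨t, hCN htC⟩ = 1 from
            (QuotientGroup.eq_one_iff _).2 htC, one_mul]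
      rw [e2, ← map_pow, ← MonoidHom.mem_ker, QuotientGroup.ker_mk']
      exact key _ h htlN
  -- `3q` divides `|C|`
  have hCdvd : 3 ^ (m + 1) ∣ Nat.card C := by
    obtain ⟨P, hP⟩ := Sylow.exists_subgroup_card_pow_prime 3
      (Sylow.prime_pow_dvd_card_normalizer hdvd cardE : 3 ^ (m + 1) ∣ Nat.card N)
    have hPC : P ≤ CN := by
      intro x hx
      rw [← QuotientGroup.eq_one_iff, ← orderOf_eq_one_iff]
      refine Nat.eq_one_of_dvd_coprimes (((Nat.prime_three.coprime_iff_not_dvd).2 hc).pow_left (m + 1))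
        ((orderOf_map_dvd (QuotientGroup.mk' CN) x).trans ?_) (orderOf_dvd_of_pow_eq_one (hexp x))
      have h := orderOf_dvd_natCard (⟨x, hx⟩ : P)
      rwa [orderOf_mk, hP] at h
    have h := card_dvd_of_le hPC
    rwa [hP, hCNdef, Nat.card_congr (subgroupOfEquivOfLe hCN).toEquiv] at h
  -- a Sylow 3-subgroup of `U` and an involution normalising it
  have hUdvd : 3 ^ (m + 1) ∣ Nat.card U := by
    have h := U.card_mul_index
    rw [hUidx] at h
    rw [← h] at hCdvd
    exact ((Nat.coprime_primes Nat.prime_three Nat.prime_two).2 (by norm_num)).pow_left _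
      |>.dvd_of_dvd_mul_right hCdvd
  obtain ⟨R⟩ : Nonempty (Sylow 3 U) := inferInstance
  set R' : Subgroup C := (R : Subgroup U).map U.subtype with hR'
  have hR'dvd : 3 ^ (m + 1) ∣ Nat.card R' := by
    rw [hR', card_map_of_injective U.subtype_injective]
    exact R.pow_dvd_card_of_pow_dvd_card hUdvd
  obtain ⟨n, hnR, hnU⟩ : ∃ n, n ∈ normalizer (R' : Set C) ∧ n ∉ U := by
    by_contra h
    push Not at h
    have h1 := Sylow.normalizer_sup_eq_top R
    rw [← hR', sup_eq_right.2 h] at h1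
    rw [h1, index_top] at hUidx
    exact absurd hUidx (by norm_num)
  have hneven : Even (orderOf n) := by
    rw [← Nat.not_odd_iff_even]
    intro hodd
    apply hnU
    obtain ⟨s, hs⟩ := hodd
    have h1 : n ^ (2 * (s + 1)) = n := by
      rw [show 2 * (s + 1) = orderOf n + 1 by omega, pow_succ, pow_orderOf_eq_one, one_mul]
    rw [← h1, pow_mul]
    exact U.pow_mem (hUidx ▸ Subgroup.pow_index_mem U n) _
  obtain ⟨j, hj⟩ := hneven
  have hjpos : 0 < j := by have := orderOf_pos n; omega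
  set s : C := n ^ j with hsdef
  have hso : orderOf s = 2 := by
    rw [hsdef, orderOf_pow, hj, Nat.gcd_eq_right ⟨2, by ring⟩, ← two_mul,
      Nat.mul_div_left _ hjpos]
  have hsR : s ∈ normalizer (R' : Set C) := pow_mem hnR j
  obtain ⟨⟨d, hd⟩, hds⟩ := hconj s hso
  have hds' : d * t * d⁻¹ = (s : G) := congrArg Subtype.val hds
  -- an element of `R'` outside `E`
  obtain ⟨r, hrR, hrE⟩ : ∃ r ∈ R', (r : G) ∉ E := by
    by_contra h
    push Not at h
    have h1 : Nat.card R' ∣ Nat.card E := by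
      rw [← Subgroup.card_map_of_injective (f := C.subtype) (K := R') C.subtype_injective]
      exact card_dvd_of_le (fun x hx => by
        obtain ⟨y, hy, rfl⟩ := hx
        exact h y hy)
    rw [cardE] at h1
    have h2 := Nat.le_of_dvd (pow_pos (by norm_num) m) (hR'dvd.trans h1)
    exact absurd h2 (not_le.2 (Nat.pow_lt_pow_right (by norm_num) (by omega)))
  have hR'p : IsPGroup 3 R' := R.2.map U.subtype
  -- the inverted element
  set y : C := r⁻¹ * (s * r * s⁻¹) with hydef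
  have hyR : y ∈ R' := R'.mul_mem (R'.inv_mem hrR) ((mem_normalizer_iff.1 hsR r).1 hrR)
  have hss : s * s = 1 := by
    have h := pow_orderOf_eq_one s
    rwa [hso, sq] at h
  have hys : s * y * s⁻¹ = y⁻¹ := by
    rw [hydef]
    have hsi : s⁻¹ = s := inv_eq_of_mul_eq_one_right hss
    simp only [mul_inv_rev, inv_inv, hsi, mul_assoc]
    rw [hss, mul_one]
  have hy1 : y ≠ 1 := by
    intro h
    apply hrE
    have h1 : (s : G) * r * (s : G)⁻¹ = r := by
      rw [hydef, inv_mul_eq_one] at h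
      exact (congrArg Subtype.val h).symm
    -- conjugate back to `C(t)`
    have h2 : d⁻¹ * r * d ∈ E := by
      refine hthree _ (C.mul_mem (C.mul_mem (C.inv_mem hd) r.2) hd) ?_ ?_
      · calc d⁻¹ * r * d * t = d⁻¹ * (r * (d * t * d⁻¹)) * d := by group
          _ = d⁻¹ * (d * t * d⁻¹ * r) * d := by rw [hds', ← mul_inv_eq_iff_eq_mul.1 h1]
          _ = t * (d⁻¹ * r * d) := by group
      · obtain ⟨k, hk⟩ := hR'p ⟨r, hrR⟩
        refine ⟨k, ?_⟩
        have hk' : (r : G) ^ 3 ^ k = 1 := by simpa using congrArg (fun z : R' => ((z : C) : G)) hk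
        have := conj_pow (a := d⁻¹) (b := (r : G)) (i := 3 ^ k)
        rw [inv_inv] at this
        rw [this, hk', mul_one, inv_mul_cancel]
    have h3 := mem_centralizer_iff.1 hd _ h2
    have h4 : (r : G) = d⁻¹ * r * d := by
      calc (r : G) = d * (d⁻¹ * r * d) * d⁻¹ := by group
        _ = d⁻¹ * r * d := by rw [← h3]; group
    exact h4 ▸ h2
  obtain ⟨k, hk⟩ := hR'p ⟨y, hyR⟩
  refine Involves.of_mulEquiv nonempty_dihedralThree_perm.some
    (Involves.involves_dihedral (p := 3) (by norm_num) (x := (s : G)) (y := (y : G))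
      ⟨1, by rw [orderOf_coe, hso, pow_one]⟩ ?_ ?_ ?_)
  · refine Involves.exists_orderOf_eq_pow_of_isPGroup (P := R'.map C.subtype) (hR'p.map _) ?_
    exact mem_map_of_mem _ hyR
  · exact fun h => hy1 (Subtype.ext h)
  · simpa using congrArg Subtype.val hys

/-- A group of Ree type involves `S₃` or has Sylow 3-subgroups of order `q`. -/
theorem exists_data_or_involves {G : Type u} [Group G] [Finite G] (hG : Cfsg.IsReeType G) :
    Cfsg.Involves (Equiv.Perm (Fin 3)) G ∨ Nonempty (Data G) := by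
  obtain ⟨hsimple, hna, t, K, n, hn, ht, hodd, ⟨hS1, hS2, hcomm, hinf, hsup⟩, F, fF, fiF, hcard,
    ⟨e⟩⟩ := hG
  set q := 3 ^ (2 * n + 1) with hq
  obtain ⟨c, hc⟩ : Odd q := Odd.pow ⟨1, rfl⟩
  -- `q ≡ 3 mod 8`
  obtain ⟨s, hs⟩ : ∃ s, q = 8 * s + 3 := by
    have h : q % 8 = 3 := by
      rw [hq, pow_succ, pow_mul, Nat.mul_mod, Nat.pow_mod]
      norm_num
    exact ⟨q / 8, by omega⟩
  obtain ⟨d⟩ := exists_pslData (F := F) (c := c) (τ := 2 * s + 1) hn hq hcard hc (by omega)
    ⟨s, rfl⟩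
  have K_comm : ∀ k ∈ K, k * t = t * k := fun k hk => (hcomm t (mem_zpowers t) k hk).symm
  have htK : t ∉ K := fun h => by
    have h1 : t ∈ zpowers t ⊓ K := ⟨mem_zpowers t, h⟩
    rw [hinf, mem_bot] at h1
    rw [h1, orderOf_one] at ht
    exact absurd ht (by norm_num)
  have htt : t * t = 1 := by
    have h := pow_orderOf_eq_one t
    rwa [ht, sq] at h
  have K_cent : ∀ g : G, g * t = t * g → g ∈ K ∨ t * g ∈ K := by
    intro g hg
    have hg' : g ∈ centralizer ({t} : Set G) := mem_centralizer_singleton_iff.2 hg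
    let H : Subgroup G :=
      { carrier := {x | x * t = t * x ∧ (x ∈ K ∨ t * x ∈ K)}
        one_mem' := ⟨by simp, Or.inl K.one_mem⟩
        mul_mem' := by
          rintro x y ⟨hx, hx'⟩ ⟨hy, hy'⟩
          refine ⟨by rw [mul_assoc, hy, ← mul_assoc, hx, mul_assoc], ?_⟩
          have ex : t * x * y = x * (t * y) := by rw [← hx, mul_assoc]
          rcases hx' with hx' | hx' <;> rcases hy' with hy' | hy'
          · exact Or.inl (K.mul_mem hx' hy')
          · refine Or.inr ?_
            rw [← mul_assoc, ex]; exact K.mul_mem hx' hy'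
          · exact Or.inr (by rw [← mul_assoc]; exact K.mul_mem hx' hy')
          · refine Or.inl ?_
            have : x * y = t * x * (t * y) := by
              rw [← hx, mul_assoc x t, ← mul_assoc t t, htt, one_mul]
            rw [this]; exact K.mul_mem hx' hy'
        inv_mem' := by
          rintro x ⟨hx, hx'⟩
          refine ⟨by rw [inv_mul_eq_iff_eq_mul, ← mul_assoc, eq_mul_inv_iff_mul_eq, hx], ?_⟩
          rcases hx' with hx' | hx'
          · exact Or.inl (K.inv_mem hx')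
          · refine Or.inr ?_
            have : t * x⁻¹ = (t * x)⁻¹ := by
              rw [mul_inv_rev, inv_eq_of_mul_eq_one_right htt]
              exact (show Commute t x from hx.symm).inv_right.eq
            rw [this]; exact K.inv_mem hx' }
    have hle : zpowers t ⊔ K ≤ H :=
      sup_le (zpowers_le.2 ⟨rfl, Or.inr (htt.symm ▸ K.one_mem)⟩)
        fun x hx => ⟨K_comm x hx, Or.inl hx⟩
    exact (hle (hsup.symm ▸ hg')).2
  -- transport along `f`
  set f : SL2.PSLtwo F →* G := K.subtype.comp e.symm.toMonoidHom with hf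
  have finj : Function.Injective f := K.subtype_injective.comp e.symm.injective
  have fK : ∀ x, f x ∈ K := fun x => (e.symm x).2
  have fsurj : ∀ k ∈ K, ∃ x, f x = k := fun k hk => ⟨e ⟨k, hk⟩, by simp [hf]⟩
  have fone : ∀ {x}, f x ≠ 1 → x ≠ 1 := fun {x} h hx => h (by rw [hx, map_one])
  have fmem : ∀ (H : Subgroup (SL2.PSLtwo F)) (x), f x ∈ H.map f ↔ x ∈ H := fun H x =>
    mem_map_iff_mem finj
  have hmapK : ∀ H : Subgroup (SL2.PSLtwo F), H.map f ≤ K := by
    rintro H _ ⟨x, -, rfl⟩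
    exact fK x
  have cardE : Nat.card (d.E.map f) = q := (card_map_of_injective finj).trans d.cardE
  have cardB : Nat.card (d.B.map f) = q * c := (card_map_of_injective finj).trans d.cardB
  have E_comm : ∀ a ∈ d.E.map f, ∀ b ∈ d.E.map f, a * b = b * a := by
    rintro _ ⟨a, ha, rfl⟩ _ ⟨b, hb, rfl⟩
    rw [← map_mul, ← map_mul, d.E_comm a ha b hb]
  have E_pow : ∀ a ∈ d.E.map f, a ^ 3 = 1 := by
    rintro _ ⟨a, ha, rfl⟩
    rw [← map_pow, d.E_pow a ha, map_one]
  have E_cent : ∀ x ∈ d.E.map f, x ≠ 1 → ∀ k ∈ K, k * x = x * k → k ∈ d.E.map f := by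
    rintro _ ⟨x, hx, rfl⟩ hx1 k hk hkx
    obtain ⟨y, rfl⟩ := fsurj k hk
    rw [← map_mul, ← map_mul] at hkx
    exact (fmem _ _).2 (d.E_cent x hx (fone hx1) y (finj hkx))
  have B_norm : ∀ b ∈ d.B.map f, ∀ x ∈ d.E.map f, b * x * b⁻¹ ∈ d.E.map f := by
    rintro _ ⟨b, hb, rfl⟩ _ ⟨x, hx, rfl⟩
    rw [← map_inv, ← map_mul, ← map_mul, fmem]
    exact d.B_norm b hb x hx
  have B_of_conj : ∀ x ∈ d.E.map f, x ≠ 1 → ∀ k ∈ K, k * x * k⁻¹ ∈ d.E.map f →
      k ∈ d.B.map f := by
    rintro _ ⟨x, hx, rfl⟩ hx1 k hk hkx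
    obtain ⟨y, rfl⟩ := fsurj k hk
    rw [← map_inv, ← map_mul, ← map_mul, fmem] at hkx
    exact (fmem _ _).2 (d.B_of_conj x hx (fone hx1) y hkx)
  have hc3 : ¬ 3 ∣ c := by
    intro h
    have h3 : 3 ∣ q := hq ▸ dvd_pow_self 3 (by omega)
    omega
  by_cases hdvd : 3 ^ (2 * n + 1 + 1) ∣ Nat.card G
  · exact Or.inl (involves_perm_three_of_dvd t ht K (d.E.map f) (d.B.map f) (hmapK _) htK K_comm
      K_cent cardE (by omega) E_comm E_pow E_cent (map_mono d.EB) cardB hc3 B_norm B_of_conj hdvd)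
  refine Or.inr ⟨{
    n := n
    hn := hn
    q := q
    hq := rfl
    c := c
    hc := hc
    τ := 2 * s + 1
    hτ := by omega
    hτodd := ⟨s, rfl⟩
    simple := hsimple
    nonabelian := hna
    t := t
    ht := ht
    oddIndex := hodd
    K := K
    htK := htK
    K_comm := K_comm
    K_cent := K_cent
    equiv := ⟨F, fF, fiF, hcard, ⟨e⟩⟩
    cardK := ?_
    E := d.E.map f
    E_le := hmapK _
    cardE := cardE
    E_comm := E_comm
    E_pow := E_pow
    E_cent := E_cent
    B := d.B.map f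
    B_le := hmapK _
    EB := map_mono d.EB
    cardB := cardB
    B_norm := B_norm
    B_of_conj := B_of_conj
    B_quot_comm := ?_
    E_notReal := ?_
    v := f d.v
    v_mem := fK _
    hv := (orderOf_injective f finj d.v).trans d.hv
    i := f d.i
    i_mem := fK _
    hi := (orderOf_injective f finj d.i).trans d.hi
    i_comm := by rw [← map_mul, ← map_mul, d.i_comm]
    i_ne := fun h => d.i_ne (finj h)
    T := d.T.map f
    T_le := hmapK _
    cardT := (card_map_of_injective finj).trans d.cardT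
    T_cyclic := ?_
    v_cent := ?_
    i_inv := ?_
    T_cent := ?_
    T_conj := ?_
    v_centK := ?_
    sylow := ?_ }⟩
  · rw [Nat.card_congr e.toEquiv]
    have h := SL2.card_PSL_mul (F := F)
    rw [hcard, Nat.gcd_eq_left ⟨c, by omega⟩, show q ^ 2 - 1 = 2 * (c * (q + 1)) by
      rw [hc]; ring_nf; omega] at h
    linarith
  · rintro _ ⟨a, ha, rfl⟩ _ ⟨b, hb, rfl⟩
    rw [← map_inv, ← map_inv, ← map_mul, ← map_mul, ← map_mul, fmem]
    exact d.B_quot_comm a ha b hb
  · rintro _ ⟨x, hx, rfl⟩ hx1 k hk hkx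
    obtain ⟨y, rfl⟩ := fsurj k hk
    rw [← map_inv, ← map_inv, ← map_mul, ← map_mul] at hkx
    exact d.E_notReal x hx (fone hx1) y (finj hkx)
  · haveI := d.T_cyclic
    exact isCyclic_of_surjective _ (d.T.equivMapOfInjective f finj).surjective
  · rintro _ ⟨y, hy, rfl⟩
    rw [← map_mul, ← map_mul, d.v_cent y hy]
  · rintro _ ⟨y, hy, rfl⟩
    rw [← map_inv, ← map_inv, ← map_mul, ← map_mul, d.i_inv y hy]
  · rintro _ ⟨y, hy, rfl⟩ hy1 k hk hky
    obtain ⟨z, rfl⟩ := fsurj k hk
    rw [← map_mul, ← map_mul] at hky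
    rw [← map_mul, fmem, fmem]
    exact d.T_cent y hy (fone hy1) z (finj hky)
  · rintro _ ⟨y, hy, rfl⟩ hy1 k hk hky
    obtain ⟨z, rfl⟩ := fsurj k hk
    rw [← map_inv, ← map_mul, ← map_mul, fmem] at hky
    simp only [← map_inv, ← map_mul]
    exact (d.T_conj y hy (fone hy1) z hky).imp (congrArg f) (congrArg f)
  · intro k hk hkv
    obtain ⟨z, rfl⟩ := fsurj k hk
    rw [← map_mul, ← map_mul] at hkv
    simp only [← map_mul, fmem]
    exact d.v_centK z (finj hkv)
  · have h1 : q ∣ Nat.card G := cardE ▸ card_subgroup_dvd_card _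
    obtain ⟨M, hM⟩ := h1
    refine ⟨M, hM, fun h3 => hdvd ?_⟩
    rw [hM, pow_succ, ← hq]
    exact Nat.mul_dvd_mul_left q h3

end Cfsg.Agent.Lib.ReeThree91
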