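import Mathlib
import Cfsg.Prelude.Def_LocalEven
import Cfsg.Agent.Lib.Involves.Basic
import Cfsg.Agent.Lib.Involves.Dihedral
import Cfsg.Agent.Lib.SThreeFreeOffender.Main

/-!
# Criteria for the absence and presence of sections `S₃`, `S₄`
-/

set_option autoImplicit false
set_option linter.style.haveILetI false

namespace Cfsg.Agent.Lib.ReeThree91

open Subgroup

universe u

variable {G : Type u} [Group G] [Finite G]

instance fact_prime_two84 : Fact (Nat.Prime 2) := ⟨Nat.prime_two⟩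

omit [Finite G] in
/-- The order of a section divides the order of the group. -/
theorem card_dvd_of_involves {H : Type*} [Group H] (h : Cfsg.Involves H G) :
    Nat.card H ∣ Nat.card G := by
  obtain ⟨K, f, hf⟩ := Involves.exists_surjective h
  exact (Subgroup.card_dvd_of_surjective f hf).trans K.card_subgroup_dvd_card

omit [Finite G] in
theorem not_involves_perm_of_not_three_dvd {n : ℕ} (hn : 3 ≤ n) (h : ¬ 3 ∣ Nat.card G) :
    ¬ Cfsg.Involves (Equiv.Perm (Fin n)) G := by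
  intro hi
  have hc := card_dvd_of_involves hi
  rw [Nat.card_perm, Nat.card_fin] at hc
  exact h (((Nat.prime_three.dvd_factorial).2 hn).trans hc)

/-- A finite group with abelian Sylow `2`-subgroups has no section `S₄`. -/
theorem not_involves_four_of_comm (S : Sylow 2 G)
    (hS : ∀ a ∈ (S : Subgroup G), ∀ b ∈ (S : Subgroup G), a * b = b * a) :
    ¬ Cfsg.Involves (Equiv.Perm (Fin 4)) G := by
  intro h
  obtain ⟨K, f, hf⟩ := Involves.exists_surjective h
  have hall : ∀ P : Sylow 2 G, ∀ a ∈ (P : Subgroup G), ∀ b ∈ (P : Subgroup G), a * b = b * a := by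
    intro P a ha b hb
    obtain ⟨g, hg⟩ := MulAction.exists_smul_eq G S P
    rw [← hg, Sylow.coe_subgroup_smul, Subgroup.mem_pointwise_smul_iff_inv_smul_mem] at ha hb
    have := hS _ ha _ hb
    rw [← smul_mul', ← smul_mul'] at this
    exact (MulAction.injective _ this)
  have hK : ∀ T : Sylow 2 ↥K, ∀ a ∈ (T : Subgroup ↥K), ∀ b ∈ (T : Subgroup ↥K), a * b = b * a := by
    intro T a ha b hb
    obtain ⟨P, hP⟩ := (T.2.map K.subtype).exists_le_sylow
    exact Subtype.ext (hall P _ (hP (mem_map_of_mem _ ha)) _ (hP (mem_map_of_mem _ hb)))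
  -- a dihedral subgroup of order eight of `S₄`
  let z : Equiv.Perm (Fin 4) := Equiv.swap 0 2 * Equiv.swap 1 3
  have hcard : Nat.card (centralizer ({z} : Set (Equiv.Perm (Fin 4)))) = 2 ^ 3 := by
    rw [show Nat.card (centralizer ({z} : Set (Equiv.Perm (Fin 4)))) =
        Nat.card {σ : Equiv.Perm (Fin 4) // σ * z = z * σ} from
      Nat.card_congr (Equiv.subtypeEquivRight fun σ => mem_centralizer_singleton_iff),
      Nat.card_eq_fintype_card]
    decide
  obtain ⟨P, hP⟩ := (IsPGroup.of_card hcard).exists_le_sylow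
  obtain ⟨T₀⟩ : Nonempty (Sylow 2 ↥K) := inferInstance
  obtain ⟨σ, hσ⟩ := MulAction.exists_smul_eq (Equiv.Perm (Fin 4)) (T₀.mapSurjective hf) P
  obtain ⟨k, rfl⟩ := hf σ
  have hT : ∀ s ∈ (P : Subgroup (Equiv.Perm (Fin 4))),
      ∃ t ∈ ((k • T₀ : Sylow 2 ↥K) : Subgroup ↥K), f t = s := by
    intro s hs
    rw [← hσ, Sylow.coe_subgroup_smul, Subgroup.mem_pointwise_smul_iff_inv_smul_mem,
      Sylow.coe_mapSurjective, mem_map] at hs
    obtain ⟨t, ht, hts⟩ := hs
    refine ⟨k * t * k⁻¹, ?_, ?_⟩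
    · rw [Sylow.coe_subgroup_smul, Subgroup.mem_pointwise_smul_iff_inv_smul_mem]
      simpa [mul_assoc] using ht
    · rw [map_mul, map_mul, map_inv, hts]
      simp [mul_assoc]
  have hmem : ∀ s : Equiv.Perm (Fin 4), s * z = z * s → s ∈ (P : Subgroup _) := fun s hs =>
    hP (mem_centralizer_singleton_iff.2 hs)
  obtain ⟨a, ha, hfa⟩ := hT (finRotate 4) (hmem _ (by decide))
  obtain ⟨b, hb, hfb⟩ := hT (Equiv.swap 0 2) (hmem _ (by decide))
  have := congrArg f (hK _ a ha b hb)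
  rw [map_mul, map_mul, hfa, hfb] at this
  revert this
  decide

/-- If a nontrivial `2`-subgroup lies in one Sylow `2`-subgroup only, there is no section `S₄`. -/
theorem not_involves_four_of_ti
    (hTI : ∀ P : Subgroup G, IsPGroup 2 P → P ≠ ⊥ →
      ∀ S T : Sylow 2 G, P ≤ S → P ≤ T → S = T) :
    ¬ Cfsg.Involves (Equiv.Perm (Fin 4)) G := by
  intro h
  obtain ⟨K, f, hf⟩ := Involves.exists_surjective h
  let V : Subgroup (Equiv.Perm (Fin 4)) :=
    { carrier := {σ | σ * σ = 1 ∧ Equiv.Perm.sign σ = 1}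
      one_mem' := by simp
      mul_mem' := by
        intro a b ha hb
        revert ha hb
        revert a b
        simp only [Set.mem_ofPred_eq]
        decide +kernel
      inv_mem' := by
        intro a ha
        revert ha
        revert a
        simp only [Set.mem_ofPred_eq]
        decide +kernel }
  have hVmem : ∀ σ, σ ∈ V ↔ σ * σ = 1 ∧ Equiv.Perm.sign σ = 1 := fun σ => Iff.rfl
  haveI hVn : V.Normal := ⟨fun σ hσ τ => by
    rw [hVmem] at hσ ⊢
    refine ⟨?_, by simp [hσ.2]⟩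
    calc τ * σ * τ⁻¹ * (τ * σ * τ⁻¹) = τ * (σ * σ) * τ⁻¹ := by group
      _ = 1 := by rw [hσ.1]; group⟩
  have hVp : IsPGroup 2 V := fun σ => ⟨1, Subtype.ext (by simpa [pow_two] using σ.2.1)⟩
  set W : Subgroup ↥K := V.comap f with hW
  haveI : W.Normal := Subgroup.Normal.comap hVn f
  obtain ⟨Q⟩ : Nonempty (Sylow 2 ↥W) := inferInstance
  set Q' : Subgroup ↥K := (Q : Subgroup ↥W).map W.subtype with hQ'
  have hfr : normalizer (Q' : Set ↥K) ⊔ W = ⊤ := Sylow.normalizer_sup_eq_top Q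
  -- `Q` maps onto `V`
  let fW : ↥W →* ↥V := (f.comp W.subtype).codRestrict V fun w => w.2
  have hfW : Function.Surjective fW := by
    rintro ⟨s, hs⟩
    obtain ⟨t, rfl⟩ := hf s
    exact ⟨⟨t, hs⟩, rfl⟩
  have hQV : ∀ s ∈ V, ∃ x ∈ Q', f x = s := by
    intro s hs
    have hsm : (⟨s, hs⟩ : ↥V) ∈ (Q.mapSurjective hfW : Subgroup ↥V) :=
      (Q.mapSurjective hfW).is_maximal' (hVp.to_subgroup ⊤) le_top ▸ mem_top _
    rw [Sylow.coe_mapSurjective, mem_map] at hsm
    obtain ⟨x, hx, hxs⟩ := hsm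
    exact ⟨W.subtype x, mem_map_of_mem _ hx, congrArg Subtype.val hxs⟩
  have hNsurj : ∀ s, ∃ n ∈ normalizer (Q' : Set ↥K), f n = s := by
    intro s
    obtain ⟨t, rfl⟩ := hf s
    have ht : t ∈ ((normalizer (Q' : Set ↥K) ⊔ W : Subgroup ↥K) : Set ↥K) := hfr ▸ mem_top t
    rw [Subgroup.mul_normal, Set.mem_mul] at ht
    obtain ⟨n, hn, w, hw, rfl⟩ := ht
    obtain ⟨x, hx, hxw⟩ := hQV (f w) hw
    exact ⟨n * x, mul_mem hn (Subgroup.le_normalizer hx), by rw [map_mul, hxw, map_mul]⟩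
  set R : Subgroup G := Q'.map K.subtype with hR
  have hRne : R ≠ ⊥ := by
    intro hb
    obtain ⟨x, hx, hxs⟩ := hQV (Equiv.swap 0 1 * Equiv.swap 2 3) (by rw [hVmem]; decide)
    have : (x : G) ∈ R := mem_map_of_mem _ hx
    rw [hb, mem_bot, ← Subgroup.coe_one K, Subtype.val_inj] at this
    rw [this, map_one] at hxs
    revert hxs
    decide
  have hRp : IsPGroup 2 R := (Q.2.map W.subtype).map K.subtype
  obtain ⟨S, hS⟩ := hRp.exists_le_sylow
  have hnorm : ∀ n ∈ normalizer (Q' : Set ↥K), (n : G) ∈ normalizer ((S : Subgroup G) : Set G) := by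
    intro n hn
    have h1 : R ≤ ((n : G) • S : Sylow 2 G) := by
      rintro _ ⟨x, hx, rfl⟩
      rw [Sylow.coe_subgroup_smul, Subgroup.mem_pointwise_smul_iff_inv_smul_mem]
      refine hS ⟨n⁻¹ * x * n, ?_, by simp [mul_assoc]⟩
      have := (mem_normalizer_iff.1 (inv_mem hn) x).1 hx
      simpa using this
    exact Sylow.smul_eq_iff_mem_normalizer.1 (hTI R hRp hRne _ _ h1 hS)
  -- elements of two-power order of the normaliser lie in `S`
  have hlift : ∀ s : Equiv.Perm (Fin 4), s * s = 1 →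
      ∃ x : ↥K, (x : G) ∈ (S : Subgroup G) ∧ f x = s := by
    intro s hs
    obtain ⟨n, hn, rfl⟩ := hNsurj s
    obtain ⟨i, r, hr, hmo⟩ :=
      Nat.exists_eq_pow_mul_and_not_dvd (orderOf_pos n).ne' 2 (by norm_num)
    obtain ⟨j, rfl⟩ : ∃ j, r = 2 * j + 1 := ⟨r / 2, by omega⟩
    refine ⟨n ^ (2 * j + 1), ?_, ?_⟩
    · set x := n ^ (2 * j + 1) with hx
      have hx2 : x ^ 2 ^ i = 1 := by
        rw [hx, ← pow_mul, mul_comm, ← hmo, pow_orderOf_eq_one]
      have hxN : (x : G) ∈ normalizer ((S : Subgroup G) : Set G) := hnorm _ (pow_mem hn _)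
      have hz : IsPGroup 2 (zpowers (x : G)) := by
        refine Involves.isPGroup_zpowers (k := i) ?_
        rw [← Subgroup.coe_pow, hx2, Subgroup.coe_one]
      have hsup : IsPGroup 2 ((S : Subgroup G) ⊔ zpowers (x : G) : Subgroup G) :=
        S.2.to_sup_of_normal_left' hz (zpowers_le.2 hxN)
      rw [← S.is_maximal' hsup le_sup_left]
      exact mem_sup_right (mem_zpowers _)
    · rw [map_pow, pow_succ, pow_mul, pow_two, hs, one_pow, one_mul]
  obtain ⟨x, hxS, hx⟩ := hlift (Equiv.swap 0 1) (by decide)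
  obtain ⟨y, hyS, hy⟩ := hlift (Equiv.swap 1 2) (by decide)
  obtain ⟨j, hj⟩ := S.2 ⟨((x * y : ↥K) : G), mul_mem hxS hyS⟩
  have hj' : (x * y) ^ 2 ^ j = 1 := Subtype.ext (by simpa using congrArg Subtype.val hj)
  have h3 : orderOf (Equiv.swap (0 : Fin 4) 1 * Equiv.swap 1 2) = 3 :=
    orderOf_eq_prime (by decide) (by decide)
  have hdvd : 3 ∣ 2 ^ j := h3 ▸ orderOf_dvd_of_pow_eq_one (by
    rw [← hx, ← hy, ← map_mul, ← map_pow, hj', map_one])
  have := Nat.prime_three.dvd_of_dvd_pow hdvd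
  omega

/-- An element of order three inverted by a `2`-element gives a section `S₃`. -/
theorem involves_three_of_inverted {x y : G} {k : ℕ} (hx : x ^ 2 ^ k = 1) (hy : y ^ 3 = 1)
    (hy1 : y ≠ 1) (hxy : x * y * x⁻¹ = y⁻¹) : Cfsg.Involves (Equiv.Perm (Fin 3)) G := by
  haveI : Fact (Nat.Prime 3) := ⟨Nat.prime_three⟩
  obtain ⟨e⟩ := SThreeFreeOffender.nonempty_dihedral_perm
  obtain ⟨b, -, hb⟩ := (Nat.dvd_prime_pow Nat.prime_two).1 (orderOf_dvd_of_pow_eq_one hx)
  exact Involves.of_mulEquiv e (Involves.involves_dihedral (p := 3) (by norm_num) ⟨b, hb⟩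
    ⟨1, by rw [pow_one]; exact orderOf_eq_prime hy hy1⟩ hy1 hxy)

/-- A section `S₃` gives an inverted nontrivial `3`-element. -/
theorem exists_inverted_of_involves_three (h : Cfsg.Involves (Equiv.Perm (Fin 3)) G) :
    ∃ x y : G, (∃ k, y ^ 3 ^ k = 1) ∧ y ≠ 1 ∧ x * y * x⁻¹ = y⁻¹ := by
  haveI : Fact (Nat.Prime 3) := ⟨Nat.prime_three⟩
  obtain ⟨K, f, hf⟩ := Involves.exists_surjective h
  obtain ⟨a, ha⟩ := hf (finRotate 3)
  obtain ⟨b, hb⟩ := hf (Equiv.swap 0 1)
  obtain ⟨x, y, -, ⟨k, hk⟩, hy, -, hxy⟩ := Involves.exists_inverting f (p := 3) (by norm_num)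
    (a := a) (b := b) (by rw [ha]; exact orderOf_eq_prime (by decide) (by decide))
    (by rw [ha, hb]; decide)
  refine ⟨x, y, ⟨k, ?_⟩, fun h0 => hy ?_, ?_⟩
  · rw [← Subgroup.coe_pow, ← hk, pow_orderOf_eq_one, Subgroup.coe_one]
  · rw [show y = 1 from Subtype.ext h0, map_one]
  · exact congrArg Subtype.val hxy

end Cfsg.Agent.Lib.ReeThree91
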