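import Mathlib
import Cfsg.Prelude.Def_LocalEven
import Cfsg.Agent.Lib.ReeThree91.SectionCrit
import Cfsg.Agent.Lib.SL2.Basic
import Cfsg.Agent.Lib.SuzukiSp4.Iso
import Cfsg.Agent.Lib.QdP.UnitaryThree
import Cfsg.Agent.Lib.JankoOne.Simple

/-!
# Sections `S₃`, `S₄` in the Goldschmidt groups
-/

set_option autoImplicit false
set_option linter.unusedSectionVars false
set_option linter.style.haveILetI false

namespace Cfsg.Agent.Lib.ReeThree91

open Subgroup

universe u v

/-- A Sylow `2`-subgroup of the given order with commuting elements excludes a section `S₄`. -/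
theorem not_involves_four_of_comm_subgroup {G : Type u} [Group G] [Finite G] (A : Subgroup G)
    {k : ℕ} (hA : Nat.card A = 2 ^ k) (hmax : ¬ 2 ^ (k + 1) ∣ Nat.card G)
    (hc : ∀ a ∈ A, ∀ b ∈ A, a * b = b * a) :
    ¬ Cfsg.Involves (Equiv.Perm (Fin 4)) G := by
  obtain ⟨S, hS⟩ := (IsPGroup.of_card hA).exists_le_sylow
  refine not_involves_four_of_comm S ?_
  suffices e : (S : Subgroup G) = A by rw [e]; exact hc
  refine (eq_of_le_of_card_ge hS ?_).symm
  obtain ⟨j, hj⟩ := IsPGroup.iff_card.1 S.2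
  rw [hA, hj]
  refine Nat.pow_le_pow_right two_pos (Nat.le_of_not_lt fun hlt => hmax ?_)
  exact ((pow_dvd_pow 2 hlt).trans (hj ▸ (S : Subgroup G).card_subgroup_dvd_card))

/-- A group with `4 ∥ |G|` has no section `S₄`. -/
theorem not_involves_four_of_four {G : Type u} [Group G] [Finite G] (h4 : 4 ∣ Nat.card G)
    (h8 : ¬ 8 ∣ Nat.card G) : ¬ Cfsg.Involves (Equiv.Perm (Fin 4)) G := by
  obtain ⟨A, hA⟩ := Sylow.exists_subgroup_card_pow_prime (G := G) 2 (n := 2) h4
  refine not_involves_four_of_comm_subgroup A hA h8 fun a ha b hb => ?_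
  have := IsPGroup.isMulCommutative_of_card_eq_prime_sq (p := 2) hA
  exact congrArg Subtype.val (this.1.1 ⟨a, ha⟩ ⟨b, hb⟩)

section PSL

variable {F : Type v} [Field F] [Fintype F]

open Matrix

local notation "π" => QuotientGroup.mk' (Subgroup.center (SL2.SLtwo F))

theorem not_involves_four_psl_even {n : ℕ} (hF : Fintype.card F = 2 ^ n) :
    ¬ Cfsg.Involves (Equiv.Perm (Fin 4)) (ProjectiveSpecialLinearGroup (Fin 2) F) := by
  intro h
  haveI : CharP F 2 := charP_of_card_eq_prime_pow hF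
  have h' := Involves.of_quotient π (QuotientGroup.mk'_surjective _) h
  obtain ⟨S⟩ : Nonempty (Sylow 2 (SL2.SLtwo F)) := inferInstance
  refine not_involves_four_of_comm S ?_ h'
  have hsq : ∀ g ∈ (S : Subgroup (SL2.SLtwo F)), g * g = 1 := by
    intro g hg
    obtain ⟨k, hk⟩ := S.2 ⟨g, hg⟩
    have hk' : ((g : SL2.SLtwo F) : Matrix (Fin 2) (Fin 2) F) ^ 2 ^ k = 1 := by
      have := congrArg (fun x : (S : Subgroup (SL2.SLtwo F)) =>
        ((x : SL2.SLtwo F) : Matrix (Fin 2) (Fin 2) F)) hk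
      simpa using this
    have hnil : IsNilpotent ((g : Matrix (Fin 2) (Fin 2) F) - 1) := by
      refine ⟨2 ^ k, ?_⟩
      rw [sub_pow_char_pow_of_commute (p := 2) (n := k) (Commute.one_right _), one_pow, hk', sub_self]
    have htr := (Matrix.isNilpotent_trace_of_isNilpotent hnil).eq_zero
    rw [trace_sub, trace_one, trace_fin_two, Fintype.card_fin,
      show ((2 : ℕ) : F) = 0 from CharP.cast_eq_zero F 2, sub_zero] at htr
    have hd := SL2.det_entries g
    apply SL2.ext_entries <;> simp only [SL2.mul_00, SL2.mul_01, SL2.mul_10, SL2.mul_11] <;>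
      simp [Matrix.SpecialLinearGroup.coe_one]
    · linear_combination (g 0 0) * htr + hd * (-1) + (-1 : F) * (CharTwo.two_eq_zero (R := F))
    · linear_combination (g 0 1) * htr
    · linear_combination (g 1 0) * htr
    · linear_combination (g 1 1) * htr + hd * (-1) + (-1 : F) * (CharTwo.two_eq_zero (R := F))
  intro a ha b hb
  calc a * b = (a * b)⁻¹ := eq_inv_of_mul_eq_one_left (hsq _ (mul_mem ha hb))
    _ = b * a := by
      rw [_root_.mul_inv_rev, inv_eq_of_mul_eq_one_right (hsq a ha),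
        inv_eq_of_mul_eq_one_right (hsq b hb)]

theorem not_involves_four_psl_odd {q : ℕ} (hF : Fintype.card F = q) (hq : q % 8 = 3 ∨ q % 8 = 5) :
    ¬ Cfsg.Involves (Equiv.Perm (Fin 4)) (ProjectiveSpecialLinearGroup (Fin 2) F) := by
  have hc := SL2.card_PSL_mul (F := F)
  rw [hF] at hc
  have hg : Nat.gcd 2 (q - 1) = 2 :=
    Nat.gcd_eq_left (Nat.dvd_of_mod_eq_zero (by omega))
  rw [hg] at hc
  obtain ⟨r, hr | hr⟩ : ∃ r, q = 8 * r + 3 ∨ q = 8 * r + 5 := ⟨q / 8, by omega⟩
  · have e : q ^ 2 - 1 = 8 * (8 * r * r + 6 * r + 1) := by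
      refine Nat.sub_eq_of_eq_add ?_
      rw [hr]; ring
    have hev : 2 ∣ 8 * r * r + 6 * r := Dvd.dvd.add (Dvd.intro (4 * r * r) (by ring)) (Dvd.intro (3 * r) (by ring))
    obtain ⟨s, hs⟩ := hev
    rw [e, hs, hr] at hc
    apply not_involves_four_of_four <;> rw [Nat.dvd_iff_mod_eq_zero]
    · have : Nat.card (ProjectiveSpecialLinearGroup (Fin 2) F) =
          4 * ((8 * r + 3) * (2 * s + 1)) := by linarith
      omega
    · have : Nat.card (ProjectiveSpecialLinearGroup (Fin 2) F) =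
          4 * (2 * (8 * r * s + 4 * r + 3 * s + 1) + 1) := by linarith
      omega
  · have e : q ^ 2 - 1 = 8 * (8 * r * r + 10 * r + 3) := by
      refine Nat.sub_eq_of_eq_add ?_
      rw [hr]; ring
    have hev : 2 ∣ 8 * r * r + 10 * r := Dvd.dvd.add (Dvd.intro (4 * r * r) (by ring)) (Dvd.intro (5 * r) (by ring))
    obtain ⟨s, hs⟩ := hev
    rw [e, hs, hr] at hc
    apply not_involves_four_of_four <;> rw [Nat.dvd_iff_mod_eq_zero]
    · have : Nat.card (ProjectiveSpecialLinearGroup (Fin 2) F) =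
          4 * ((8 * r + 5) * (2 * s + 3)) := by linarith
      omega
    · have : Nat.card (ProjectiveSpecialLinearGroup (Fin 2) F) =
          4 * (2 * (8 * r * s + 12 * r + 5 * s + 7) + 1) := by linarith
      omega

/-- `PSL₂(q)`, `q` an odd power of three, has no section `S₃`. -/
theorem not_involves_three_psl {n : ℕ} (hF : Fintype.card F = 3 ^ (2 * n + 1)) :
    ¬ Cfsg.Involves (Equiv.Perm (Fin 3)) (ProjectiveSpecialLinearGroup (Fin 2) F) := by
  intro h
  haveI : Fact (Nat.Prime 3) := ⟨Nat.prime_three⟩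
  haveI : CharP F 3 := charP_of_card_eq_prime_pow hF
  obtain ⟨x, y, ⟨k, hk⟩, hy1, hxy⟩ := exists_inverted_of_involves_three
    (Involves.of_quotient π (QuotientGroup.mk'_surjective _) h)
  have hns : ¬ IsSquare (-1 : F) := by
    rw [FiniteField.isSquare_neg_one_iff, hF, pow_succ, pow_mul, Nat.mul_mod, Nat.pow_mod]
    norm_num
  have hk' : ((y : SL2.SLtwo F) : Matrix (Fin 2) (Fin 2) F) ^ 3 ^ k = 1 := by
    have := congrArg (fun z : SL2.SLtwo F => (z : Matrix (Fin 2) (Fin 2) F)) hk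
    simpa using this
  have hnil : IsNilpotent ((y : Matrix (Fin 2) (Fin 2) F) - 1) := by
    refine ⟨3 ^ k, ?_⟩
    rw [sub_pow_char_pow_of_commute (p := 3) (n := k) (Commute.one_right _), one_pow, hk', sub_self]
  have htr := (Matrix.isNilpotent_trace_of_isNilpotent hnil).eq_zero
  rw [trace_sub, trace_one, trace_fin_two, Fintype.card_fin] at htr
  push_cast at htr
  have hd := SL2.det_entries y
  have hxd := SL2.det_entries x
  have hrel : x * y = y⁻¹ * x := mul_inv_eq_iff_eq_mul.1 hxy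
  have e00 := congrArg (fun z : SL2.SLtwo F => z 0 0) hrel
  have e01 := congrArg (fun z : SL2.SLtwo F => z 0 1) hrel
  have e10 := congrArg (fun z : SL2.SLtwo F => z 1 0) hrel
  simp only [SL2.mul_00, SL2.mul_01, SL2.mul_10, SL2.inv_00, SL2.inv_01, SL2.inv_10,
    SL2.inv_11] at e00 e01 e10
  -- `y = 1 + (a b; c -a)` and `x = (p r; s t)`
  set a := y 0 0 - 1 with ha
  set b := y 0 1 with hb
  set c := y 1 0 with hc
  set p := x 0 0 with hp
  set r := x 0 1 with hr
  set s := x 1 0 with hs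
  set t := x 1 1 with ht
  have h00 : y 0 0 = 1 + a := by rw [ha]; ring
  have h11 : y 1 1 = 1 - a := by rw [ha]; linear_combination htr
  rw [h00] at e00 e10 hd
  rw [h11] at e00 e01 hd
  clear_value a b c p r s t
  by_cases hb0 : b = 0
  · have ha0 : a = 0 := by
      refine eq_zero_of_pow_eq_zero (n := 2) ?_
      linear_combination (-c) * hb0 - hd
    have hc0 : c ≠ 0 := by
      intro hc0
      refine hy1 (SL2.ext_entries ?_ ?_ ?_ ?_) <;> simp [Matrix.SpecialLinearGroup.coe_one]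
      · rw [h00, ha0, add_zero]
      · exact hb.symm.trans hb0
      · exact hc.symm.trans hc0
      · rw [h11, ha0, sub_zero]
    have hr0 : r = 0 := (mul_eq_zero.1 (show r * c = 0 by
      linear_combination e00 - 2 * p * ha0 - s * hb0)).resolve_right hc0
    have hpt : t = -p := eq_neg_of_add_eq_zero_left ((mul_eq_zero.1 (show c * (t + p) = 0 by
      linear_combination e10)).resolve_left hc0)
    exact hns ⟨p, by linear_combination hxd - p * hpt + s * hr0⟩
  · have hpt : t = -p := eq_neg_of_add_eq_zero_left ((mul_eq_zero.1 (show b * (t + p) = 0 by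
      linear_combination e01)).resolve_left hb0)
    rw [hpt] at hxd
    refine hns ⟨(p * b - r * a) / b, ?_⟩
    field_simp
    linear_combination (b ^ 2) * hxd + r * b * e00 + r ^ 2 * hd

/-- In characteristic different from three `PSL₂` has a section `S₃`. -/
theorem involves_three_psl (h3 : (3 : F) ≠ 0) :
    Cfsg.Involves (Equiv.Perm (Fin 3)) (ProjectiveSpecialLinearGroup (Fin 2) F) := by
  obtain ⟨a, b, hab⟩ : ∃ a b : F, a * a + a * b + b * b = -1 := by
    by_cases h2 : (2 : F) = 0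
    · exact ⟨1, 0, by linear_combination h2⟩
    obtain ⟨u, w, huw⟩ := FiniteField.exists_root_sum_quadratic (R := F)
      (f := Polynomial.X ^ 2) (g := Polynomial.C 3 * Polynomial.X ^ 2 + Polynomial.C 4)
      (by simp) (by
        rw [Polynomial.degree_add_eq_left_of_degree_lt] <;>
          rw [Polynomial.degree_C_mul h3, Polynomial.degree_X_pow]
        · rfl
        exact lt_of_le_of_lt Polynomial.degree_C_le (by norm_num))
      (Nat.odd_iff.1 (SL2.two_ne_zero_iff_odd.1 h2))
    simp at huw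
    refine ⟨(u - w) / 2, w, ?_⟩
    field_simp
    linear_combination huw
  let x : SL2.SLtwo F := SL2.ofEntries 0 (-1) 1 (-1) (by ring)
  let w : SL2.SLtwo F := SL2.ofEntries a b (a + b) (-a) (by linear_combination -hab)
  have hx3 : x ^ 3 = 1 := by
    rw [pow_three]
    apply SL2.ext_entries <;> simp [x, Matrix.mul_apply, Fin.sum_univ_two]
  have hw2 : w * w = -1 := by
    apply SL2.ext_entries <;> simp [w, Matrix.mul_apply, Fin.sum_univ_two] <;>
      first | linear_combination (0 : F) * hab | linear_combination hab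
  have hwx : w * x = x⁻¹ * w := by
    apply SL2.ext_entries <;>
      simp [w, x, Matrix.mul_apply, Fin.sum_univ_two] <;> ring
  refine involves_three_of_inverted (x := π w) (y := π x) (k := 1) ?_ (by rw [← map_pow, hx3, map_one]) ?_ ?_
  · rw [pow_one, pow_two, ← map_mul, hw2]
    exact (QuotientGroup.eq_one_iff _).2 (SL2.neg_one_mem_center)
  · intro h
    have := ((SL2.mem_center_iff_entries x).1 ((QuotientGroup.eq_one_iff x).1 h)).1
    simp [x] at this
  · rw [← map_inv, ← map_inv, ← map_mul, ← map_mul, hwx, mul_inv_cancel_right]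

end PSL

section Unitary

variable {F : Type v} [Field F] [Fintype F] [CharP F 2] {q : ℕ}

open Matrix QdP.Unitary

/-- The radical of an isotropic point is a `2`-group in characteristic two. -/
theorem isPGroup_two_radical (hF : Fintype.card F = q ^ 2) (w : Fin 3 → F) :
    IsPGroup 2 (radical (F := F) (q := q) w) := by
  have := hF
  rintro ⟨g, g1, g2⟩
  refine ⟨2, Subtype.ext ?_⟩
  set M := (g.1.1 : Matrix (Fin 3) (Fin 3) F) with hM
  have hd : ∀ y, (M - 1) *ᵥ y = act g y - y := fun y => by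
    simp [act, hM, Matrix.sub_mulVec]
  have hcube : (M - 1) ^ 3 = 0 := by
    refine Matrix.ext_iff_mulVec.2 fun x => ?_
    rw [show (M - 1) ^ 3 = (M - 1) * ((M - 1) * (M - 1)) by rw [pow_succ', pow_two],
      ← Matrix.mulVec_mulVec, ← Matrix.mulVec_mulVec, Matrix.zero_mulVec, hd x]
    have hy : QdP.Unitary.herm q w (act g x - x) = 0 := by
      have := herm_act g x w
      rw [g1] at this
      rw [map_sub, this, sub_self]
    obtain ⟨a, ha⟩ := g2 _ hy
    rw [hd (act g x - x), ha, add_sub_cancel_left, hd, act_smul, g1, sub_self]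
  have h4 : M ^ 4 = 1 := by
    have h : (M - 1) ^ (2 ^ 2) = 0 := pow_eq_zero_of_le (by norm_num) hcube
    rw [sub_pow_char_pow_of_commute (p := 2) (n := 2) (Commute.one_right _), one_pow,
      sub_eq_zero] at h
    simpa using h
  rw [Subgroup.coe_pow, Subgroup.coe_one]
  apply Subtype.ext; apply Subtype.ext
  rw [Subgroup.coe_pow, Matrix.SpecialLinearGroup.coe_pow]
  simpa [hM] using h4

/-- A Sylow `2`-subgroup is the radical of each isotropic vector it fixes. -/
theorem sylow_two_eq_radical (hF : Fintype.card F = q ^ 2) (S : Sylow 2 (Cfsg.SU 3 F q))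
    {w : Fin 3 → F} (hw0 : w ≠ 0) (hww : QdP.Unitary.herm q w w = 0)
    (hfix : ∀ g ∈ S, act g w = w) : (S : Subgroup (Cfsg.SU 3 F q)) = radical w := by
  refine (S.is_maximal' (isPGroup_two_radical hF w) ?_).symm
  intro g hg
  refine ⟨hfix g hg, fun z hz => ?_⟩
  obtain ⟨k, hk⟩ := S.2 ⟨g, hg⟩
  by_cases hzw : ∃ a : F, z = a • w
  · obtain ⟨a, rfl⟩ := hzw
    exact ⟨0, by rw [act_smul, hfix g hg, zero_smul, add_zero]⟩
  push Not at hzw
  have hli : LinearIndependent F ![w, z] := by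
    rw [LinearIndependent.pair_iff' hw0]
    exact fun a => (hzw a).symm
  have hle : Submodule.span F (Set.range ![w, z]) ≤ LinearMap.ker (QdP.Unitary.herm q w) := by
    rw [Submodule.span_le, Matrix.range_cons, Matrix.range_cons, Matrix.range_empty, Set.union_empty]
    rintro x (rfl | rfl) <;> simpa
  have heq := Submodule.eq_of_le_of_finrank_eq hle (by
    rw [finrank_span_eq_card hli, Fintype.card_fin, finrank_ker_herm hF hw0])
  have hgz : act g z ∈ Submodule.span F (Set.range ![w, z]) := by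
    rw [heq, LinearMap.mem_ker]
    have := herm_act g z w
    rw [hfix g hg] at this
    exact this.trans hz
  obtain ⟨c, hc⟩ := (Submodule.mem_span_range_iff_exists_fun F).1 hgz
  rw [Fin.sum_univ_two] at hc
  simp only [Matrix.cons_val_zero, Matrix.cons_val_one] at hc
  have h1 : c 1 = 1 := unipotent_line (p := 2) (congrArg Subtype.val hk) hzw (hfix g hg)
    (show act g z = c 1 • z + c 0 • w by rw [← hc, add_comm])
  exact ⟨c 0, by rw [← hc, h1, one_smul, add_comm]⟩

theorem not_involves_four_psu (hF : Fintype.card F = q ^ 2) :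
    ¬ Cfsg.Involves (Equiv.Perm (Fin 4)) (Cfsg.PSU 3 F q) := by
  intro h
  refine not_involves_four_of_ti (G := ↥(Cfsg.SU 3 F q)) ?_
    (Involves.of_quotient _ (QuotientGroup.mk'_surjective _) h)
  intro P hP hne S T hS hT
  have hSne : (S : Subgroup (Cfsg.SU 3 F q)) ≠ ⊥ := fun h => hne (le_bot_iff.1 (h ▸ hS))
  have hTne : (T : Subgroup (Cfsg.SU 3 F q)) ≠ ⊥ := fun h => hne (le_bot_iff.1 (h ▸ hT))
  obtain ⟨w, hw0, hww, hfw⟩ := exists_isotropic_fixed hF (S : Subgroup _) S.2 hSne
  obtain ⟨u, hu0, huu, hfu⟩ := exists_isotropic_fixed hF (T : Subgroup _) T.2 hTne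
  obtain ⟨⟨g, hg⟩, hg1'⟩ := Subgroup.ne_bot_iff_exists_ne_one.1 hne
  have hg1 : g ≠ 1 := fun e => hg1' (Subtype.ext e)
  obtain ⟨k, hk⟩ := hP ⟨g, hg⟩
  obtain ⟨c, hc⟩ : ∃ c : F, u = c • w := by
    by_contra h
    push Not at h
    exact hg1 (eq_one_of_fix_isotropic hF (congrArg Subtype.val hk) hw0 hww huu h (hfw g (hS hg))
      (hfu g (hT hg)))
  have hc0 : c ≠ 0 := fun h => hu0 (by rw [hc, h, zero_smul])
  apply Sylow.ext
  rw [sylow_two_eq_radical hF S hw0 hww hfw, sylow_two_eq_radical hF T hw0 hww (fun x hx => by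
    have := hfu x hx
    rw [hc, act_smul] at this
    exact smul_right_injective _ hc0 this)]

omit [CharP F 2] in
/-- `PSU₃(q)`, `q` even, has a section `S₃`. -/
theorem involves_three_psu (h2 : (2 : F) = 0) :
    Cfsg.Involves (Equiv.Perm (Fin 3)) (Cfsg.PSU 3 F q) := by
  let Y : Matrix.SpecialLinearGroup (Fin 3) F :=
    ⟨!![0, 1, 0; 0, 0, 1; 1, 0, 0], by simp [Matrix.det_fin_three]⟩
  let X : Matrix.SpecialLinearGroup (Fin 3) F :=
    ⟨!![0, 1, 0; 1, 0, 0; 0, 0, 1], by
      simp [Matrix.det_fin_three]; linear_combination -h2⟩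
  have hY : Y ∈ Cfsg.SU 3 F q := fun u w => by
    show Cfsg.hermForm 3 F q (Y.1 *ᵥ u) (Y.1 *ᵥ w) = _
    simp [Cfsg.hermForm, Y, Matrix.mulVec, dotProduct, Fin.sum_univ_three]
    ring
  have hX : X ∈ Cfsg.SU 3 F q := fun u w => by
    show Cfsg.hermForm 3 F q (X.1 *ᵥ u) (X.1 *ᵥ w) = _
    simp [Cfsg.hermForm, X, Matrix.mulVec, dotProduct, Fin.sum_univ_three]
    ring
  let y : ↥(Cfsg.SU 3 F q) := ⟨Y, hY⟩
  let x : ↥(Cfsg.SU 3 F q) := ⟨X, hX⟩
  have hy3 : y ^ 3 = 1 := by
    rw [pow_three]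
    refine Subtype.ext (Subtype.ext ?_)
    show Y.1 * (Y.1 * Y.1) = 1
    ext i j; fin_cases i <;> fin_cases j <;> simp [Y, Matrix.mul_apply, Fin.sum_univ_three]
  have hx2 : x * x = 1 := by
    refine Subtype.ext (Subtype.ext ?_)
    show X.1 * X.1 = 1
    ext i j; fin_cases i <;> fin_cases j <;> simp [X, Matrix.mul_apply, Fin.sum_univ_three]
  have hxy : x * y * x⁻¹ = y⁻¹ := by
    rw [mul_inv_eq_iff_eq_mul, eq_inv_mul_iff_mul_eq]
    refine Subtype.ext (Subtype.ext ?_)
    show Y.1 * (X.1 * Y.1) = X.1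
    ext i j; fin_cases i <;> fin_cases j <;> simp [X, Y, Matrix.mul_apply, Fin.sum_univ_three]
  let π := QuotientGroup.mk' (Subgroup.center ↥(Cfsg.SU 3 F q))
  refine involves_three_of_inverted (x := π x) (y := π y) (k := 1)
    (by rw [pow_one, pow_two, ← map_mul, hx2, map_one]) (by rw [← map_pow, hy3, map_one]) ?_
    (by rw [← map_inv, ← map_inv, ← map_mul, ← map_mul, hxy])
  intro h
  have hc := mem_center_iff.1 ((QuotientGroup.eq_one_iff y).1 h) x
  rw [hc, mul_inv_cancel_right, eq_inv_iff_mul_eq_one] at hxy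
  have hy1 : y = 1 := by
    rw [pow_three, hxy, mul_one] at hy3
    exact hy3
  have := congrArg (fun z : ↥(Cfsg.SU 3 F q) => z.1.1 0 0) hy1
  simp [y, Y] at this

end Unitary

/-- A simple group whose order is three times a number above one prime to three has a section
`S₃`. -/
theorem involves_three_of_order_three {G : Type u} [Group G] [Finite G] [IsSimpleGroup G] {m : ℕ}
    (hcard : Nat.card G = 3 * m) (hm : ¬ 3 ∣ m) (hm1 : 1 < m) :
    Cfsg.Involves (Equiv.Perm (Fin 3)) G := by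
  haveI : Fact (Nat.Prime 3) := ⟨Nat.prime_three⟩
  obtain ⟨P⟩ : Nonempty (Sylow 3 G) := inferInstance
  have hP : Nat.card (P : Subgroup G) = 3 := by
    obtain ⟨j, hj⟩ := IsPGroup.iff_card.1 P.2
    have h3 : 3 ∣ Nat.card (P : Subgroup G) := P.dvd_card_of_dvd_card (hcard ▸ dvd_mul_right 3 m)
    have hd := (P : Subgroup G).card_subgroup_dvd_card
    rw [hj] at h3 hd ⊢
    rw [hcard] at hd
    rcases j with _ | _ | j
    · simp at h3
    · rfl
    · exfalso
      apply hm
      have h9 : 3 * 3 ∣ 3 * m :=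
        (show 3 * 3 ∣ 3 ^ (j + 2) from ⟨3 ^ j, by rw [pow_add]; ring⟩).trans hd
      exact Nat.dvd_of_mul_dvd_mul_left (by norm_num) h9
  obtain ⟨⟨y, hyP⟩, hy⟩ := exists_prime_orderOf_dvd_card' (G := (P : Subgroup G)) 3 (by rw [hP])
  rw [Subgroup.orderOf_mk] at hy
  have hy3 : y ^ 3 = 1 := hy ▸ pow_orderOf_eq_one y
  have hy1 : y ≠ 1 := fun h => by simp [h] at hy
  have hz : zpowers y = (P : Subgroup G) :=
    eq_of_le_of_card_ge (zpowers_le.2 hyP) (by rw [Nat.card_zpowers, hy, hP])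
  by_cases hN : normalizer ((P : Subgroup G) : Set G) ≤ centralizer ((P : Subgroup G) : Set G)
  · exfalso
    have hc := MonoidHom.ker_transferSylow_isComplement' P hN
    have hci := hc.symm.index_eq_card
    rcases (inferInstance : (MonoidHom.transferSylow P hN).ker.Normal).eq_bot_or_eq_top with h | h
    · rw [h, Subgroup.index_bot, hP, hcard] at hci
      omega
    · rw [h, Subgroup.index_top, hP] at hci
      omega
  obtain ⟨n, hn, hnc⟩ := SetLike.not_le_iff_exists.1 hN
  have hny : n * y * n⁻¹ ≠ y := by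
    intro e
    refine hnc (mem_centralizer_iff.2 fun a ha => ?_)
    obtain ⟨i, rfl⟩ : a ∈ zpowers y := by rw [hz]; exact ha
    exact ((show Commute n y from mul_inv_eq_iff_eq_mul.1 e).zpow_right i).eq.symm
  have hinv : n * y * n⁻¹ = y⁻¹ := by
    have hmem : n * y * n⁻¹ ∈ zpowers y := hz ▸ (mem_normalizer_iff.1 hn y).1 hyP
    rw [← mem_powers_iff_mem_zpowers, Submonoid.mem_powers_iff] at hmem
    obtain ⟨i, hi⟩ := hmem
    rw [← pow_mod_orderOf, hy] at hi
    have : i % 3 = 0 ∨ i % 3 = 1 ∨ i % 3 = 2 := by omega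
    rcases this with e | e | e <;> rw [e] at hi
    · rw [pow_zero, eq_comm, conj_eq_one_iff] at hi
      exact absurd hi hy1
    · rw [pow_one] at hi
      exact absurd hi.symm hny
    · rw [← hi]
      refine eq_inv_of_mul_eq_one_left ?_
      rw [← pow_succ]
      exact hy3
  obtain ⟨i, r, hr, hmo⟩ :=
    Nat.exists_eq_pow_mul_and_not_dvd (orderOf_pos n).ne' 2 (by norm_num)
  obtain ⟨j, rfl⟩ : ∃ j, r = 2 * j + 1 := ⟨r / 2, by omega⟩
  exact involves_three_of_inverted (x := n ^ (2 * j + 1)) (y := y) (k := i)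
    (by rw [← pow_mul, mul_comm, ← hmo, pow_orderOf_eq_one]) hy3 hy1
    (Involves.conj_pow_parity hinv j).2

theorem not_involves_four_janko :
    ¬ Cfsg.Involves (Equiv.Perm (Fin 4)) ↥Cfsg.Spor.J1 := by
  haveI : Finite ↥Cfsg.Spor.J1 :=
    Nat.finite_of_card_ne_zero (by rw [JankoOne.card_janko]; norm_num)
  refine not_involves_four_of_comm_subgroup JankoOne.twoSub (k := 3) JankoOne.card_twoSub
    (by rw [JankoOne.card_janko]; norm_num) ?_
  have hsq : ∀ g ∈ JankoOne.twoSub, g * g = 1 := by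
    rintro _ ⟨i, rfl⟩
    rw [← JankoOne.wordJ_append, JankoOne.wordJ_eq (JankoOne.two_inv i)]
    rfl
  intro a ha b hb
  calc a * b = (a * b)⁻¹ := eq_inv_of_mul_eq_one_left (hsq _ (mul_mem ha hb))
    _ = b * a := by
      rw [_root_.mul_inv_rev, inv_eq_of_mul_eq_one_right (hsq a ha),
        inv_eq_of_mul_eq_one_right (hsq b hb)]

theorem involves_three_janko : Cfsg.Involves (Equiv.Perm (Fin 3)) ↥Cfsg.Spor.J1 := by
  haveI : Finite ↥Cfsg.Spor.J1 :=
    Nat.finite_of_card_ne_zero (by rw [JankoOne.card_janko]; norm_num)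
  haveI := JankoOne.isSimpleGroup_janko
  exact involves_three_of_order_three (m := 58520) (by rw [JankoOne.card_janko]) (by norm_num)
    (by norm_num)

theorem not_three_dvd_suzuki {F : Type v} [Field F] [Fintype F] {m : ℕ} (h : Suzuki.Hyp F m) :
    ¬ 3 ∣ Nat.card (Cfsg.Lie.Sz F (2 ^ (m + 1))) := by
  rw [← Nat.card_congr (SuzukiSp4.szEquiv h).toEquiv, Suzuki.card_Sz h, h.hF]
  have e : 2 ^ (2 * m + 1) % 3 = 2 := by
    rw [pow_succ, pow_mul, Nat.mul_mod, Nat.pow_mod]; norm_num
  have e1 : (2 ^ (2 * m + 1) - 1) % 3 = 1 := by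
    have := Nat.two_pow_pos (2 * m + 1); omega
  rw [Nat.dvd_iff_mod_eq_zero]
  simp [Nat.mul_mod, Nat.add_mod, Nat.pow_mod, e, e1]

/-- Transfer along an isomorphism. -/
theorem not_involves_congr {H : Type*} [Group H] {G : Type u} {G' : Type*} [Group G] [Group G']
    (e : G ≃* G') (h : ¬ Cfsg.Involves H G') : ¬ Cfsg.Involves H G :=
  fun hi => h (Involves.of_injective e.toMonoidHom e.injective hi)

/-- Groups of Ree type have no section `S₄`. -/
theorem not_involves_four_ree {G : Type u} [Group G] [Finite G] (hG : Cfsg.IsReeType G) :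
    ¬ Cfsg.Involves (Equiv.Perm (Fin 4)) G := by
  obtain ⟨-, -, t, K, n, hn, ht, hodd, ⟨hT, hK, hcomm, hinf, hsup⟩, F, _, _, hF, ⟨e⟩⟩ := hG
  have hK4 : ∃ A : Subgroup ↥K, Nat.card A = 4 ∧ ¬ 8 ∣ Nat.card ↥K := by
    have hc := SL2.card_PSL_mul (F := F)
    rw [hF] at hc
    obtain ⟨r, hr⟩ : ∃ r, 3 ^ (2 * n + 1) = 8 * r + 3 := ⟨3 ^ (2 * n + 1) / 8, by
      have : 3 ^ (2 * n + 1) % 8 = 3 := by
        rw [pow_succ, pow_mul, Nat.mul_mod, Nat.pow_mod]; norm_num
      omega⟩
    rw [hr, show Nat.gcd 2 (8 * r + 3 - 1) = 2 from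
      Nat.gcd_eq_left (Nat.dvd_of_mod_eq_zero (by omega)),
      show (8 * r + 3) ^ 2 - 1 = 8 * (8 * r * r + 6 * r + 1) from
        Nat.sub_eq_of_eq_add (by ring), ← Nat.card_congr e.toEquiv] at hc
    obtain ⟨s, hs⟩ : 2 ∣ 8 * r * r + 6 * r :=
      Dvd.dvd.add (Dvd.intro (4 * r * r) (by ring)) (Dvd.intro (3 * r) (by ring))
    rw [hs] at hc
    have hKc : Nat.card ↥K = 4 * (2 * (8 * r * s + 4 * r + 3 * s + 1) + 1) := by linarith
    obtain ⟨A, hA⟩ := Sylow.exists_subgroup_card_pow_prime (G := ↥K) 2 (n := 2)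
      (hKc ▸ dvd_mul_right _ _)
    exact ⟨A, hA, by omega⟩
  obtain ⟨A, hA, hK8⟩ := hK4
  set A' : Subgroup G := A.map K.subtype with hA'
  have hA'K : A' ≤ K := map_subtype_le A
  have hA'c : Nat.card A' = 4 := (card_map_of_injective K.subtype_injective).trans hA
  have hle : zpowers t ≤ normalizer (A' : Set G) := by
    rw [zpowers_le]
    refine mem_normalizer_fintype fun a ha => ?_
    rwa [hcomm t (mem_zpowers t) a (hA'K ha), mul_inv_cancel_right]
  have hA2 : IsPGroup 2 A' := IsPGroup.of_card (n := 2) hA'c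
  have hcc : ∀ a ∈ A', ∀ b ∈ A', a * b = b * a := fun a ha b hb =>
    congrArg Subtype.val ((IsPGroup.isMulCommutative_of_card_eq_prime_sq (p := 2)
      (G := A') hA'c).1.1 ⟨a, ha⟩ ⟨b, hb⟩)
  have hcardsup : ∀ B : Subgroup G, B ≤ K →
      Nat.card ↥(zpowers t ⊔ B : Subgroup G) = 2 * Nat.card B := by
    intro B hB
    let f : (zpowers t) × B →* G :=
      { toFun := fun z => (z.1 : G) * (z.2 : G)
        map_one' := by simp
        map_mul' := fun z z' => by
          show ((z.1 : G) * z'.1) * ((z.2 : G) * z'.2) = (z.1 : G) * z.2 * ((z'.1 : G) * z'.2)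
          have := hcomm z'.1 z'.1.2 z.2 (hB z.2.2)
          calc ((z.1 : G) * z'.1) * ((z.2 : G) * z'.2) = z.1 * ((z'.1 : G) * z.2) * z'.2 := by group
            _ = _ := by rw [this]; group }
    have hinj : Function.Injective f := by
      rw [← MonoidHom.ker_eq_bot_iff, eq_bot_iff]
      rintro ⟨a, b⟩ hab
      have hab' : (a : G) * (b : G) = 1 := hab
      have h1 : (a : G) ∈ zpowers t ⊓ K :=
        ⟨a.2, by rw [eq_inv_of_mul_eq_one_left hab']; exact K.inv_mem (hB b.2)⟩
      rw [hinf, mem_bot] at h1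
      rw [h1, one_mul] at hab'
      exact mem_bot.2 (Prod.ext (Subtype.ext h1) (Subtype.ext hab'))
    have hr : f.range = zpowers t ⊔ B := by
      refine le_antisymm ?_ (sup_le ?_ ?_)
      · rintro _ ⟨z, rfl⟩
        exact mul_mem (mem_sup_left z.1.2) (mem_sup_right z.2.2)
      · exact fun a ha => ⟨(⟨a, ha⟩, 1), mul_one a⟩
      · exact fun b hb => ⟨(1, ⟨b, hb⟩), one_mul b⟩
    rw [← hr, ← Nat.card_congr (MonoidHom.ofInjective hinj).toEquiv, Nat.card_prod,
      Nat.card_zpowers, ht]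
  refine not_involves_four_of_comm_subgroup (zpowers t ⊔ A') (k := 3)
    (by rw [hcardsup A' hA'K, hA'c]; rfl) ?_ ?_
  · intro h16
    rw [← card_mul_index (centralizer ({t} : Set G)), ← hsup, hcardsup K le_rfl, mul_assoc,
      mul_comm (Nat.card K)] at h16
    rw [hsup] at h16
    have h8 : 2 ^ 3 ∣ (centralizer ({t} : Set G)).index * Nat.card K :=
      Nat.dvd_of_mul_dvd_mul_left two_pos (by simpa [pow_succ, mul_comm, mul_left_comm] using h16)
    exact hK8 ((Nat.Coprime.pow_left 3 ((Nat.coprime_two_left).2 hodd)).dvd_of_dvd_mul_left h8)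
  · have key : ∀ x ∈ zpowers t ⊔ A', ∀ z ∈ zpowers t ⊔ A', x * z = z * x := by
      intro x hx z hz
      have hxz : zpowers t ⊔ A' ≤ centralizer ((zpowers t ⊔ A' : Subgroup G) : Set G) := by
        rw [sup_le_iff]
        constructor <;> rw [le_centralizer_iff, sup_le_iff]
        · refine ⟨fun a ha b hb => ?_, fun a ha b hb => ?_⟩
          · obtain ⟨i, rfl⟩ := ha; obtain ⟨j, rfl⟩ := hb
            exact (Commute.refl t).zpow_zpow j i
          · exact hcomm b hb a (hA'K ha)
        · refine ⟨fun a ha b hb => ?_, fun a ha b hb => hcc b hb a ha⟩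
          exact (hcomm a ha b (hA'K hb)).symm
      exact hxz hz x hx
    exact key

variable {G : Type u} [Group G] [Finite G]

theorem not_involves_four (hG : Cfsg.IsGoldschmidtGroup G) :
    ¬ Cfsg.Involves (Equiv.Perm (Fin 4)) G := by
  rcases hG with h | ⟨F, _, _, n, hn, hF, ⟨e⟩⟩ | ⟨F, _, _, m, hm, hF, ⟨e⟩⟩ |
    ⟨F, _, _, n, hn, hF, ⟨e⟩⟩ | ⟨F, _, _, q, hF, hq, hq8, ⟨e⟩⟩ | ⟨⟨e⟩⟩
  · exact not_involves_four_ree h
  · exact not_involves_congr e (not_involves_four_psl_even hF)
  · exact not_involves_congr e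
      (not_involves_perm_of_not_three_dvd (by norm_num) (not_three_dvd_suzuki ⟨hm, hF⟩))
  · have hF' : Fintype.card F = (2 ^ n) ^ 2 := by
      rw [hF, ← pow_mul, mul_comm, pow_mul]; norm_num
    haveI : CharP F 2 := charP_of_card_eq_prime_pow (f := n * 2) (by rw [hF', ← pow_mul])
    exact not_involves_congr e (not_involves_four_psu hF')
  · exact not_involves_congr e (not_involves_four_psl_odd hF hq8)
  · exact not_involves_congr e not_involves_four_janko

theorem not_involves_three (h : Cfsg.IsSuzukiOrPSL2OddPowerThree G) :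
    ¬ Cfsg.Involves (Equiv.Perm (Fin 3)) G := by
  rcases h with ⟨F, _, _, m, hm, hF, ⟨e⟩⟩ | ⟨F, _, _, n, hF, ⟨e⟩⟩
  · exact not_involves_congr e
      (not_involves_perm_of_not_three_dvd le_rfl (not_three_dvd_suzuki ⟨hm, hF⟩))
  · exact not_involves_congr e (not_involves_three_psl hF)

/-- The Goldschmidt groups that are not of Ree type: a section `S₃` or one of the target
families. -/
theorem involves_or_target (hG : Cfsg.IsGoldschmidtGroup G) (hR : ¬ Cfsg.IsReeType G) :
    Cfsg.Involves (Equiv.Perm (Fin 3)) G ∨ Cfsg.IsSuzukiOrPSL2OddPowerThree G := by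
  rcases hG with h | ⟨F, _, _, n, hn, hF, ⟨e⟩⟩ | h |
    ⟨F, _, _, n, hn, hF, ⟨e⟩⟩ | ⟨F, _, _, q, hF, hq, hq8, ⟨e⟩⟩ | ⟨⟨e⟩⟩
  · exact absurd h hR
  · haveI : CharP F 2 := charP_of_card_eq_prime_pow hF
    refine Or.inl (Involves.of_injective e.symm.toMonoidHom e.symm.injective
      (involves_three_psl ?_))
    rw [show (3 : F) = 2 + 1 by norm_num, CharTwo.two_eq_zero, zero_add]
    exact one_ne_zero
  · exact Or.inr (Or.inl h)
  · haveI : CharP F 2 := charP_of_card_eq_prime_pow (f := n * 2) (by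
      rw [hF, show 4 = 2 ^ 2 by norm_num, ← pow_mul, mul_comm])
    exact Or.inl (Involves.of_injective e.symm.toMonoidHom e.symm.injective
      (involves_three_psu CharTwo.two_eq_zero))
  · by_cases h3 : (3 : F) = 0
    · haveI : Fact (Nat.Prime 3) := ⟨Nat.prime_three⟩
      haveI : CharP F 3 := (CharP.charP_iff_prime_eq_zero Nat.prime_three).2 (by exact_mod_cast h3)
      obtain ⟨f, -, hf⟩ := FiniteField.card F 3
      refine Or.inr (Or.inr ⟨F, inferInstance, inferInstance, (f : ℕ) / 2, ?_, ⟨e⟩⟩)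
      have hodd : (f : ℕ) % 2 = 1 := by
        rcases Nat.mod_two_eq_zero_or_one (f : ℕ) with h0 | h0
        · exfalso
          obtain ⟨j, hj⟩ := Nat.dvd_of_mod_eq_zero h0
          rw [← hF, hf, hj, pow_mul, Nat.pow_mod] at hq8
          norm_num at hq8
        · exact h0
      rw [hf]
      congr 1
      omega
    · exact Or.inl (Involves.of_injective e.symm.toMonoidHom e.symm.injective
        (involves_three_psl h3))
  · exact Or.inl (Involves.of_injective e.symm.toMonoidHom e.symm.injective involves_three_janko)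

end Cfsg.Agent.Lib.ReeThree91
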