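import Mathlib

/-!
Elementary lemmas for the twisting element in a group of Ree type: groups in which an involution
has a four-group as centraliser, and no element of order `3` inverted by it, have order `12`.
-/

set_option autoImplicit false

namespace Cfsg.Agent.Lib.ReeThree91.TwistAux

variable {G : Type*} [Group G]

theorem inv_eq_self_of_sq {t : G} (ht : t * t = 1) : t⁻¹ = t :=
  inv_eq_of_mul_eq_one_left ht

theorem eq_one_of_sq_of_odd {x : G} (h : x * x = 1) (ho : Odd (orderOf x)) : x = 1 := by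
  have h2 : orderOf x ∣ 2 := orderOf_dvd_of_pow_eq_one (by rwa [pow_two])
  rcases (Nat.dvd_prime Nat.prime_two).1 h2 with h1 | h1
  · exact orderOf_eq_one_iff.1 h1
  · rw [h1] at ho
    exact absurd ho (by decide)

theorem odd_orderOf_of_mem [Finite G] {A : Subgroup G} (hA : Odd (Nat.card A)) {a : G}
    (ha : a ∈ A) : Odd (orderOf a) := by
  refine Odd.of_dvd_nat hA ?_
  have := orderOf_dvd_natCard (⟨a, ha⟩ : A)
  rwa [Subgroup.orderOf_mk] at this

/-- An involution acting on a finite subgroup without fixed points inverts it. -/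
theorem inverted_of_fpf [Finite G] (A : Subgroup G) {t : G} (ht : t * t = 1)
    (hA : ∀ a ∈ A, t * a * t ∈ A) (hfix : ∀ a ∈ A, t * a = a * t → a = 1) :
    ∀ a ∈ A, t * a * t = a⁻¹ := by
  have htt : ∀ x : G, t * (t * x) = x := fun x => by rw [← mul_assoc, ht, one_mul]
  let f : A → A := fun a =>
    ⟨(a : G)⁻¹ * (t * a * t), A.mul_mem (A.inv_mem a.2) (hA _ a.2)⟩
  have hf : Function.Injective f := by
    intro a b hab
    have h : (a : G)⁻¹ * (t * a * t) = (b : G)⁻¹ * (t * b * t) := congrArg Subtype.val hab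
    have h1 : (b : G) * (a : G)⁻¹ = t * b * t * (t * a * t)⁻¹ :=
      calc (b : G) * (a : G)⁻¹
          = (b : G) * ((a : G)⁻¹ * (t * a * t)) * (t * a * t)⁻¹ := by group
        _ = (b : G) * ((b : G)⁻¹ * (t * b * t)) * (t * a * t)⁻¹ := by rw [h]
        _ = t * b * t * (t * a * t)⁻¹ := by group
    have h2 : (b : G) * (a : G)⁻¹ = t * ((b : G) * (a : G)⁻¹) * t := by
      refine h1.trans ?_
      rw [mul_inv_rev, mul_inv_rev, inv_eq_self_of_sq ht]
      simp only [mul_assoc, htt]
    have h3 : t * ((b : G) * (a : G)⁻¹) = (b : G) * (a : G)⁻¹ * t :=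
      calc t * ((b : G) * (a : G)⁻¹)
          = t * ((b : G) * (a : G)⁻¹) * (t * t) := by rw [ht, mul_one]
        _ = t * ((b : G) * (a : G)⁻¹) * t * t := by group
        _ = (b : G) * (a : G)⁻¹ * t := by rw [← h2]
    have h4 := hfix _ (A.mul_mem b.2 (A.inv_mem a.2)) h3
    exact (Subtype.ext (mul_inv_eq_one.1 h4)).symm
  intro a ha
  obtain ⟨b, hb⟩ := (Finite.surjective_of_injective hf) ⟨a, ha⟩
  have hb' : (b : G)⁻¹ * (t * b * t) = a := congrArg Subtype.val hb
  rw [← hb']
  simp only [mul_inv_rev, inv_inv, inv_eq_self_of_sq ht, mul_assoc, ht, mul_one]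

theorem commute_of_inverted (A : Subgroup G) {t : G} (ht : t * t = 1)
    (h : ∀ a ∈ A, t * a * t = a⁻¹) : ∀ a ∈ A, ∀ b ∈ A, a * b = b * a := by
  intro a ha b hb
  have htt : ∀ x : G, t * (t * x) = x := fun x => by rw [← mul_assoc, ht, one_mul]
  have h1 : (b * a)⁻¹ = (a * b)⁻¹ :=
    calc (b * a)⁻¹ = a⁻¹ * b⁻¹ := by group
      _ = (t * a * t) * (t * b * t) := by rw [h a ha, h b hb]
      _ = t * (a * b) * t := by simp only [mul_assoc, htt]
      _ = (a * b)⁻¹ := h _ (A.mul_mem ha hb)
  exact (inv_injective h1).symm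

/-- Square root in an inverted cyclic group of odd order. -/
theorem exists_sqrt {A : Subgroup G} {a : G} (ha : a ∈ A) (ho : Odd (orderOf a)) :
    ∃ b ∈ A, b * b = a ∧ b ∈ Subgroup.zpowers a := by
  obtain ⟨k, hk⟩ := ho
  refine ⟨a ^ (k + 1), A.pow_mem ha _, ?_, pow_mem (Subgroup.mem_zpowers a) _⟩
  rw [← pow_add, show k + 1 + (k + 1) = orderOf a + 1 by omega, pow_succ, pow_orderOf_eq_one,
    one_mul]

/-- Two involutions whose product has odd order are conjugate. -/
theorem exists_conj_of_odd {t z : G} (ht : t * t = 1) (hz : z * z = 1)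
    (ho : Odd (orderOf (t * z))) : ∃ w : G, w⁻¹ * t * w = z := by
  obtain ⟨k, hk⟩ := ho
  refine ⟨(t * z) ^ (k + 1), ?_⟩
  have hinv : t * (t * z) ^ (k + 1) * t = ((t * z) ^ (k + 1))⁻¹ := by
    have h1 : MulAut.conj t (t * z) = (t * z)⁻¹ := by
      rw [MulAut.conj_apply, mul_inv_rev, inv_eq_self_of_sq ht, inv_eq_self_of_sq hz,
        ← mul_assoc t t z, ht, one_mul]
    have h2 := map_pow (MulAut.conj t) (t * z) (k + 1)
    rw [h1, MulAut.conj_apply, inv_eq_self_of_sq ht, inv_pow] at h2
    exact h2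
  have hsq : (t * z) ^ (k + 1) * (t * z) ^ (k + 1) = t * z := by
    rw [← pow_add, show k + 1 + (k + 1) = orderOf (t * z) + 1 by omega, pow_succ,
      pow_orderOf_eq_one, one_mul]
  calc ((t * z) ^ (k + 1))⁻¹ * t * (t * z) ^ (k + 1)
      = t * (t * z) ^ (k + 1) * (t * t) * (t * z) ^ (k + 1) := by rw [← hinv]; group
    _ = t * ((t * z) ^ (k + 1) * (t * z) ^ (k + 1)) := by rw [ht]; group
    _ = z := by rw [hsq, ← mul_assoc, ht, one_mul]

section Twelve

variable {Q : Type*} [Group Q]

/-- `g` lies in the four group `{1, t, v, tv}`. -/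
def InFour (t v g : Q) : Prop := g = 1 ∨ g = t ∨ g = v ∨ g = t * v

variable [Finite Q] {t v y : Q} (ht : t * t = 1) (ht1 : t ≠ 1) (hv1 : v ≠ 1) (hvt : v ≠ t)
  (hC : ∀ g : Q, g * t = t * g → InFour t v g) (hy1 : y * t * y⁻¹ = v)
  (hy2 : y * v * y⁻¹ = t * v)
  (h3 : ∀ x : Q, x ^ 3 = 1 → t * x * t = x⁻¹ → x = 1)

include ht ht1 hv1 hvt hC hy1 hy2 h3

set_option maxHeartbeats 4000000 in
/-- A finite group with an involution whose centraliser is a four group, cyclically permuted,
and inverting no element of order `3`, has order `12`. -/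
theorem twelve : Nat.card Q = 12 ∧ ∀ z : Q, z * z = 1 → InFour t v z := by
  classical
  have := Fintype.ofFinite Q
  -- the four group
  have hvv : v * v = 1 := by
    rw [← hy1]
    calc y * t * y⁻¹ * (y * t * y⁻¹) = y * (t * t) * y⁻¹ := by group
      _ = 1 := by rw [ht]; group
  have htv2 : t * v * (t * v) = 1 := by
    rw [← hy2]
    calc y * v * y⁻¹ * (y * v * y⁻¹) = y * (v * v) * y⁻¹ := by group
      _ = 1 := by rw [hvv]; group
  have htv : t * v = v * t := by
    have := inv_eq_self_of_sq htv2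
    rw [mul_inv_rev, inv_eq_self_of_sq ht, inv_eq_self_of_sq hvv] at this
    exact this.symm
  have htt : ∀ x : Q, t * (t * x) = x := fun x => by rw [← mul_assoc, ht, one_mul]
  have hvvx : ∀ x : Q, v * (v * x) = x := fun x => by rw [← mul_assoc, hvv, one_mul]
  have htv1 : t * v ≠ 1 := fun h => hvt (by rw [← htt v, h, mul_one])
  have sqV : ∀ g : Q, InFour t v g → g * g = 1 := by
    rintro g (rfl | rfl | rfl | rfl)
    · exact mul_one 1
    · exact ht
    · exact hvv
    · exact htv2
  have commV : ∀ g : Q, InFour t v g → g * t = t * g := by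
    rintro g (rfl | rfl | rfl | rfl)
    · rw [one_mul, mul_one]
    · rfl
    · exact htv.symm
    · rw [mul_assoc, ← htv]
  -- centralisers of the elements of the four group
  have hy3 : y * (t * v) * y⁻¹ = t := by
    calc y * (t * v) * y⁻¹ = (y * t * y⁻¹) * (y * v * y⁻¹) := by group
      _ = v * (t * v) := by rw [hy1, hy2]
      _ = t := by rw [htv, hvvx]
  have conjV : ∀ g : Q, InFour t v g → InFour t v (y * g * y⁻¹) := by
    rintro g (rfl | rfl | rfl | rfl)
    · left; group
    · right; right; left; exact hy1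
    · right; right; right; exact hy2
    · right; left; exact hy3
  have hCv : ∀ g : Q, g * v = v * g → InFour t v g := by
    intro g hg
    have h1 : InFour t v (y⁻¹ * g * y) := by
      refine hC _ ?_
      have : y⁻¹ * (g * v) * y = y⁻¹ * (v * g) * y := by rw [hg]
      rw [← hy1] at this
      calc y⁻¹ * g * y * t = y⁻¹ * (g * (y * t * y⁻¹)) * y := by group
        _ = y⁻¹ * ((y * t * y⁻¹) * g) * y := this
        _ = t * (y⁻¹ * g * y) := by group
    have h2 := conjV _ h1
    rwa [show y * (y⁻¹ * g * y) * y⁻¹ = g by group] at h2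
  have hCtv : ∀ g : Q, g * (t * v) = (t * v) * g → InFour t v g := by
    intro g hg
    have h1 : InFour t v (y⁻¹ * g * y) := by
      refine hCv _ ?_
      have : y⁻¹ * (g * (t * v)) * y = y⁻¹ * ((t * v) * g) * y := by rw [hg]
      rw [← hy2] at this
      calc y⁻¹ * g * y * v = y⁻¹ * (g * (y * v * y⁻¹)) * y := by group
        _ = y⁻¹ * ((y * v * y⁻¹) * g) * y := this
        _ = v * (y⁻¹ * g * y) := by group
    have h2 := conjV _ h1
    rwa [show y * (y⁻¹ * g * y) * y⁻¹ = g by group] at h2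
  have stepA : ∀ g z : Q, InFour t v z → z ≠ 1 → g * z = z * g → InFour t v g := by
    intro g z hz hz1 hgz
    rcases hz with rfl | rfl | rfl | rfl
    · exact absurd rfl hz1
    · exact hC g hgz
    · exact hCv g hgz
    · exact hCtv g hgz
  -- an involution outside the four group
  have stepB : ∀ z : Q, z * z = 1 → ¬ InFour t v z → Odd (orderOf (t * z)) := by
    intro z hz hzV
    by_contra hev
    obtain ⟨k, hk⟩ := Nat.not_odd_iff_even.1 hev
    have hpos : 0 < orderOf (t * z) := orderOf_pos _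
    have hs1 : (t * z) ^ k ≠ 1 := pow_ne_one_of_lt_orderOf (by omega) (by omega)
    have hs2 : (t * z) ^ k * (t * z) ^ k = 1 := by
      rw [← pow_add, ← hk, pow_orderOf_eq_one]
    have key : ∀ s : Q, s * s = 1 → s * (t * z) * s = (t * z)⁻¹ →
        s * (t * z) ^ k = (t * z) ^ k * s := by
      intro s hs hinv
      have h1 : MulAut.conj s (t * z) = (t * z)⁻¹ := by
        rw [MulAut.conj_apply, inv_eq_self_of_sq hs, hinv]
      have h2 := map_pow (MulAut.conj s) (t * z) k
      rw [h1, MulAut.conj_apply, inv_eq_self_of_sq hs, inv_pow, inv_eq_self_of_sq hs2] at h2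
      calc s * (t * z) ^ k = s * (t * z) ^ k * (s * s) := by rw [hs, mul_one]
        _ = s * (t * z) ^ k * s * s := by group
        _ = (t * z) ^ k * s := by rw [h2]
    have ht' := key t ht (by
      rw [mul_inv_rev, inv_eq_self_of_sq ht, inv_eq_self_of_sq hz, htt])
    have hz' := key z hz (by
      rw [mul_inv_rev, inv_eq_self_of_sq ht, inv_eq_self_of_sq hz, mul_assoc z, mul_assoc t, hz,
        mul_one])
    exact hzV (stepA z _ (hC _ ht'.symm) hs1 hz')
  -- all involutions are conjugate
  have hconj : ∀ z : Q, z * z = 1 → z ≠ 1 → ∃ w : Q, w * t * w⁻¹ = z := by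
    intro z hz hz1
    by_cases hzV : InFour t v z
    · rcases hzV with rfl | rfl | rfl | rfl
      · exact absurd rfl hz1
      · exact ⟨1, by group⟩
      · exact ⟨y, hy1⟩
      · refine ⟨y⁻¹, ?_⟩
        calc y⁻¹ * t * y⁻¹⁻¹ = y⁻¹ * (y * (t * v) * y⁻¹) * y⁻¹⁻¹ := by rw [hy3]
          _ = t * v := by group
    · obtain ⟨w, hw⟩ := exists_conj_of_odd ht hz (stepB z hz hzV)
      exact ⟨w⁻¹, by rw [inv_inv]; exact hw⟩
  have stepC : ∀ g z : Q, z * z = 1 → z ≠ 1 → g * z = z * g → g * g = 1 := by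
    intro g z hz hz1 hgz
    obtain ⟨w, rfl⟩ := hconj z hz hz1
    have h1 : InFour t v (w⁻¹ * g * w) := by
      refine hC _ ?_
      calc w⁻¹ * g * w * t = w⁻¹ * (g * (w * t * w⁻¹)) * w := by group
        _ = w⁻¹ * ((w * t * w⁻¹) * g) * w := by rw [hgz]
        _ = t * (w⁻¹ * g * w) := by group
    calc g * g = w * ((w⁻¹ * g * w) * (w⁻¹ * g * w)) * w⁻¹ := by group
      _ = 1 := by rw [sqV _ h1]; group
  -- centralisers of inverted elements of odd order
  have stepD : ∀ u : Q, u ≠ 1 → Odd (orderOf u) → t * u * t = u⁻¹ →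
      Odd (Nat.card (Subgroup.centralizer ({u} : Set Q))) ∧
      (∀ a ∈ Subgroup.centralizer ({u} : Set Q), t * a * t = a⁻¹) ∧
      (∀ a ∈ Subgroup.centralizer ({u} : Set Q), ∀ b ∈ Subgroup.centralizer ({u} : Set Q),
        a * b = b * a) := by
    intro u hu1 huo hui
    have hodd : Odd (Nat.card (Subgroup.centralizer ({u} : Set Q))) := by
      by_contra hev
      obtain ⟨⟨s, hs⟩, hso⟩ := exists_prime_orderOf_dvd_card'
        (G := Subgroup.centralizer ({u} : Set Q)) 2
        (even_iff_two_dvd.1 (Nat.not_odd_iff_even.1 hev))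
      rw [Subgroup.orderOf_mk] at hso
      have hs2 : s * s = 1 := by rw [← pow_two, ← hso, pow_orderOf_eq_one]
      have hs1 : s ≠ 1 := fun h => by rw [h, orderOf_one] at hso; omega
      rw [Subgroup.mem_centralizer_singleton_iff] at hs
      exact hu1 (eq_one_of_sq_of_odd (stepC u s hs2 hs1 hs.symm) huo)
    have hnorm : ∀ a ∈ Subgroup.centralizer ({u} : Set Q),
        t * a * t ∈ Subgroup.centralizer ({u} : Set Q) := by
      intro a ha
      rw [Subgroup.mem_centralizer_singleton_iff] at ha ⊢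
      have h1 : a * u⁻¹ = u⁻¹ * a := (Commute.inv_right ha).eq
      have h2 : t * u⁻¹ * t = u := by
        rw [← hui]; simp only [mul_assoc, htt, ht, mul_one]
      calc t * a * t * u = t * a * t * (t * u⁻¹ * t) := by rw [h2]
        _ = t * (a * u⁻¹) * t := by simp only [mul_assoc, htt]
        _ = t * (u⁻¹ * a) * t := by rw [h1]
        _ = t * u⁻¹ * t * (t * a * t) := by simp only [mul_assoc, htt]
        _ = u * (t * a * t) := by rw [h2]
    have hfix : ∀ a ∈ Subgroup.centralizer ({u} : Set Q), t * a = a * t → a = 1 :=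
      fun a ha h => eq_one_of_sq_of_odd (sqV a (hC a h.symm)) (odd_orderOf_of_mem hodd ha)
    have hinv := inverted_of_fpf _ ht hnorm hfix
    exact ⟨hodd, hinv, commute_of_inverted _ ht hinv⟩
  let Good : Q → Prop := fun u => u ≠ 1 ∧ Odd (orderOf u) ∧ t * u * t = u⁻¹
  have hTI : ∀ u x g : Q, Good u → x ∈ Subgroup.centralizer ({u} : Set Q) → x ≠ 1 →
      g * x = x * g → g ∈ Subgroup.centralizer ({u} : Set Q) := by
    intro u x g hu hx hx1 hgx
    obtain ⟨hA, hinv, hab⟩ := stepD u hu.1 hu.2.1 hu.2.2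
    obtain ⟨_, _, hab'⟩ := stepD x hx1 (odd_orderOf_of_mem hA hx) (hinv x hx)
    rw [Subgroup.mem_centralizer_singleton_iff]
    refine hab' g (Subgroup.mem_centralizer_singleton_iff.2 hgx) u ?_
    rw [Subgroup.mem_centralizer_singleton_iff]
    exact hab u (Subgroup.mem_centralizer_singleton_iff.2 rfl) x hx
  have hNA : ∀ u x g : Q, Good u → x ∈ Subgroup.centralizer ({u} : Set Q) → x ≠ 1 →
      g * x * g⁻¹ ∈ Subgroup.centralizer ({u} : Set Q) →
      ∃ c b : Q, g = b * c ∧ b ∈ Subgroup.centralizer ({u} : Set Q) ∧ InFour t v c ∧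
        c * x * c⁻¹ = g * x * g⁻¹ := by
    intro u x g hu hx hx1 hgx
    obtain ⟨hA, hinv, hab⟩ := stepD u hu.1 hu.2.1 hu.2.2
    set x' := g * x * g⁻¹ with hx'
    have hx'1 : x' ≠ 1 := fun h => hx1 (by
      rw [show x = g⁻¹ * x' * g by rw [hx']; group, h]; group)
    obtain ⟨s, hs⟩ : ∃ s, s = g * t * g⁻¹ := ⟨_, rfl⟩
    have hs2 : s * s = 1 := by
      rw [hs]
      calc g * t * g⁻¹ * (g * t * g⁻¹) = g * (t * t) * g⁻¹ := by group
        _ = 1 := by rw [ht]; group
    have hsx : s * x' * s = x'⁻¹ := by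
      rw [hs, hx']
      calc g * t * g⁻¹ * (g * x * g⁻¹) * (g * t * g⁻¹) = g * (t * x * t) * g⁻¹ := by group
        _ = g * x⁻¹ * g⁻¹ := by rw [hinv x hx]
        _ = (g * x * g⁻¹)⁻¹ := by group
    have hst : s * t ∈ Subgroup.centralizer ({u} : Set Q) := by
      refine hTI u x' _ hu hgx hx'1 ?_
      have h1 : t * x' = x'⁻¹ * t := by
        rw [← hinv x' hgx]; simp only [mul_assoc, ht, mul_one]
      have h2 : x' * s = s * x'⁻¹ := by
        rw [← hsx, ← mul_assoc, ← mul_assoc, hs2, one_mul]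
      calc s * t * x' = s * (t * x') := by group
        _ = s * x'⁻¹ * t := by rw [h1]; group
        _ = x' * s * t := by rw [h2]
        _ = x' * (s * t) := by group
    obtain ⟨b, hb, hbb, -⟩ := exists_sqrt hst (odd_orderOf_of_mem hA hst)
    have hbs : b * t * b⁻¹ = s := by
      have : t * b⁻¹ = b * t := by
        rw [← hinv b hb]; simp only [← mul_assoc, ht, one_mul]
      rw [mul_assoc, this, ← mul_assoc, hbb, mul_assoc, ht, mul_one]
    refine ⟨b⁻¹ * g, b, by group, hb, hC _ ?_, ?_⟩
    · calc b⁻¹ * g * t = b⁻¹ * (g * t * g⁻¹) * g := by group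
        _ = b⁻¹ * (b * t * b⁻¹) * g := by rw [hbs, hs]
        _ = t * (b⁻¹ * g) := by group
    · calc b⁻¹ * g * x * (b⁻¹ * g)⁻¹ = b⁻¹ * ((g * x * g⁻¹) * b) := by group
        _ = b⁻¹ * (b * (g * x * g⁻¹)) := by rw [hab _ hgx b hb]
        _ = g * x * g⁻¹ := by group
  -- a conjugating element of the four group other than `1, t` cannot exist
  have hc1t : ∀ u x c : Q, Good u → x ∈ Subgroup.centralizer ({u} : Set Q) → x ≠ 1 →
      InFour t v c → c * x * c⁻¹ ∈ Subgroup.centralizer ({u} : Set Q) → c = 1 ∨ c = t := by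
    intro u x c hu hx hx1 hc hcx
    by_contra hne
    push Not at hne
    obtain ⟨hA, hinv, hab⟩ := stepD u hu.1 hu.2.1 hu.2.2
    have hcc := sqV c hc
    have hxne : c * x * c⁻¹ ≠ 1 := fun h => hx1 (by
      calc x = c⁻¹ * (c * x * c⁻¹) * c := by group
        _ = 1 := by rw [h]; group)
    have hnorm : ∀ a ∈ Subgroup.centralizer ({u} : Set Q),
        c * a * c ∈ Subgroup.centralizer ({u} : Set Q) := by
      intro a ha
      refine hTI u (c * x * c⁻¹) _ hu hcx hxne ?_
      rw [inv_eq_self_of_sq hcc]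
      have hcc' : ∀ q : Q, c * (c * q) = q := fun q => by rw [← mul_assoc, hcc, one_mul]
      simp only [mul_assoc, hcc']
      rw [← mul_assoc a x, hab a ha x hx, mul_assoc]
    have hfix : ∀ a ∈ Subgroup.centralizer ({u} : Set Q), c * a = a * c → a = 1 :=
      fun a ha h => eq_one_of_sq_of_odd (sqV a (stepA a c hc hne.1 h.symm))
        (odd_orderOf_of_mem hA ha)
    have hcinv := inverted_of_fpf _ hcc hnorm hfix
    have hu' : u ∈ Subgroup.centralizer ({u} : Set Q) :=
      Subgroup.mem_centralizer_singleton_iff.2 rfl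
    have htc : t * c * (t * c) = 1 := by
      calc t * c * (t * c) = t * (c * t) * c := by group
        _ = t * (t * c) * c := by rw [commV c hc]
        _ = (t * t) * (c * c) := by group
        _ = 1 := by rw [ht, hcc, one_mul]
    have htc1 : t * c ≠ 1 := fun h => hne.2 (by rw [← htt c, h, mul_one])
    have hmem : t * c ∈ Subgroup.centralizer ({u} : Set Q) := by
      rw [Subgroup.mem_centralizer_singleton_iff]
      have h1 : c * u = u⁻¹ * c := by
        rw [← hcinv u hu']; simp only [mul_assoc, hcc, mul_one]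
      have h2 : t * u⁻¹ = u * t := by
        rw [← hu.2.2, ← mul_assoc, ← mul_assoc, ht, one_mul]
      calc t * c * u = t * (c * u) := by group
        _ = t * u⁻¹ * c := by rw [h1]; group
        _ = u * (t * c) := by rw [h2]; group
    exact htc1 (eq_one_of_sq_of_odd htc (odd_orderOf_of_mem hA hmem))
  -- the involutions and their number
  let Four : Finset Q := {1, t, v, t * v}
  have hFour : ∀ g, g ∈ Four ↔ InFour t v g := fun g => by simp [Four, InFour]
  have hvtv : v ≠ t * v := fun h => ht1 (by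
    calc t = t * v * v := by rw [mul_assoc, hvv, mul_one]
      _ = 1 := by rw [← h, hvv])
  have httv : t ≠ t * v := fun h => hv1 (by rw [← htt v, ← h, ht])
  have hFour4 : Four.card = 4 := by
    simp only [Four]
    rw [Finset.card_insert_of_notMem, Finset.card_insert_of_notMem, Finset.card_pair hvtv]
    · simp only [Finset.mem_insert, Finset.mem_singleton]
      push Not
      exact ⟨fun h => hvt h.symm, httv⟩
    · simp only [Finset.mem_insert, Finset.mem_singleton]
      push Not
      exact ⟨fun h => ht1 h.symm, fun h => hv1 h.symm, fun h => htv1 h.symm⟩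
  let Inv : Finset Q := Finset.univ.filter fun z => z * z = 1 ∧ z ≠ 1
  have hInv : ∀ z, z ∈ Inv ↔ z * z = 1 ∧ z ≠ 1 := fun z => by simp [Inv]
  have hQ4 : Nat.card Q = 4 * Inv.card := by
    have hmap : ∀ g ∈ (Finset.univ : Finset Q), g * t * g⁻¹ ∈ Inv := fun g _ => by
      rw [hInv]
      refine ⟨?_, fun h => ht1 ?_⟩
      · calc g * t * g⁻¹ * (g * t * g⁻¹) = g * (t * t) * g⁻¹ := by group
          _ = 1 := by rw [ht]; group
      · calc t = g⁻¹ * (g * t * g⁻¹) * g := by group
          _ = 1 := by rw [h]; group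
    rw [Nat.card_eq_fintype_card, ← Finset.card_univ,
      Finset.card_eq_sum_card_fiberwise hmap, Finset.sum_const_nat (m := 4), mul_comm]
    intro z hz
    obtain ⟨hz2, hz1⟩ := (hInv z).1 hz
    obtain ⟨w, rfl⟩ := hconj z hz2 hz1
    have : (Finset.univ.filter fun g => g * t * g⁻¹ = w * t * w⁻¹) =
        Four.image (w * ·) := by
      ext g
      simp only [Finset.mem_filter, Finset.mem_univ, true_and, Finset.mem_image, hFour]
      constructor
      · intro h
        refine ⟨w⁻¹ * g, hC _ ?_, by group⟩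
        calc w⁻¹ * g * t = w⁻¹ * (g * t * g⁻¹) * g := by group
          _ = w⁻¹ * (w * t * w⁻¹) * g := by rw [h]
          _ = t * (w⁻¹ * g) := by group
      · rintro ⟨c, hc, rfl⟩
        calc w * c * t * (w * c)⁻¹ = w * (c * t) * c⁻¹ * w⁻¹ := by group
          _ = w * t * w⁻¹ := by rw [commV c hc]; group
    rw [this, Finset.card_image_of_injective _ (mul_right_injective w), hFour4]
  have hInv3 : ∀ z, z * z = 1 → InFour t v z → z ≠ 1 → z ∈ ({t, v, t * v} : Finset Q) := by
    intro z _ hz h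
    simp only [Finset.mem_insert, Finset.mem_singleton]
    rcases hz with e | e | e | e
    · exact absurd e h
    · exact Or.inl e
    · exact Or.inr (Or.inl e)
    · exact Or.inr (Or.inr e)
  have h3card : ({t, v, t * v} : Finset Q).card = 3 := by
    rw [Finset.card_insert_of_notMem, Finset.card_pair hvtv]
    simp only [Finset.mem_insert, Finset.mem_singleton]
    push Not
    exact ⟨fun h => hvt h.symm, httv⟩
  by_cases hX : ∀ z : Q, z * z = 1 → InFour t v z
  · refine ⟨?_, hX⟩
    have : Inv = {t, v, t * v} := by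
      ext z
      constructor
      · intro hz
        obtain ⟨hz2, hz1⟩ := (hInv z).1 hz
        exact hInv3 z hz2 (hX z hz2) hz1
      · intro hz
        rw [hInv]
        simp only [Finset.mem_insert, Finset.mem_singleton] at hz
        rcases hz with rfl | rfl | rfl
        · exact ⟨ht, ht1⟩
        · exact ⟨hvv, hv1⟩
        · exact ⟨htv2, htv1⟩
    rw [hQ4, this, h3card]
  exfalso
  push Not at hX
  obtain ⟨z₀, hz₀, hz₀V⟩ := hX
  have good_of : ∀ z : Q, z * z = 1 → ¬ InFour t v z → Good (t * z) := fun z hz hzV =>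
    ⟨fun h => hzV (Or.inr (Or.inl (by rw [← htt z, h, mul_one]))), stepB z hz hzV, by
      rw [mul_inv_rev, inv_eq_self_of_sq ht, inv_eq_self_of_sq hz, htt]⟩
  let Sg : Q → Finset Q := fun u =>
    ((Finset.univ : Finset Q) ×ˢ (Finset.univ.filter fun x =>
      x ∈ Subgroup.centralizer ({u} : Set Q) ∧ x ≠ 1)).image fun p => p.1 * p.2 * p.1⁻¹
  have hSg : ∀ u w : Q, w ∈ Sg u ↔
      ∃ g x : Q, (x ∈ Subgroup.centralizer ({u} : Set Q) ∧ x ≠ 1) ∧ g * x * g⁻¹ = w := by
    intro u w
    simp only [Sg, Finset.mem_image, Finset.mem_product, Finset.mem_univ, Finset.mem_filter,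
      true_and, Prod.exists]
  have hSgI : ∀ u, Good u → ∀ w ∈ Sg u, w * w ≠ 1 := by
    intro u hu w hw h
    obtain ⟨g, x, ⟨hx, hx1⟩, rfl⟩ := (hSg u w).1 hw
    refine hx1 (eq_one_of_sq_of_odd ?_ (odd_orderOf_of_mem (stepD u hu.1 hu.2.1 hu.2.2).1 hx))
    calc x * x = g⁻¹ * (g * x * g⁻¹ * (g * x * g⁻¹)) * g := by group
      _ = 1 := by rw [h]; group
  have hAset : ∀ u : Q, (Finset.univ.filter fun x =>
      x ∈ Subgroup.centralizer ({u} : Set Q)).card =
      Nat.card (Subgroup.centralizer ({u} : Set Q)) := by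
    intro u
    rw [Nat.card_eq_fintype_card, Fintype.card_subtype]
  have hAone : ∀ u : Q, (Finset.univ.filter fun x =>
      x ∈ Subgroup.centralizer ({u} : Set Q) ∧ x ≠ 1).card + 1 =
      Nat.card (Subgroup.centralizer ({u} : Set Q)) := by
    intro u
    have : (Finset.univ.filter fun x => x ∈ Subgroup.centralizer ({u} : Set Q) ∧ x ≠ 1) =
        (Finset.univ.filter fun x => x ∈ Subgroup.centralizer ({u} : Set Q)).erase 1 := by
      ext x; simp [and_comm]
    rw [this, Finset.card_erase_add_one (by simp [Subgroup.one_mem]), hAset]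
  have ha5 : ∀ u, Good u → 5 ≤ Nat.card (Subgroup.centralizer ({u} : Set Q)) := by
    intro u hu
    obtain ⟨hA, -, -⟩ := stepD u hu.1 hu.2.1 hu.2.2
    have hum : u ∈ Subgroup.centralizer ({u} : Set Q) :=
      Subgroup.mem_centralizer_singleton_iff.2 rfl
    have hne3 : Nat.card (Subgroup.centralizer ({u} : Set Q)) ≠ 3 := by
      intro h
      refine hu.1 (h3 u ?_ hu.2.2)
      have := Subgroup.pow_mem (Subgroup.zpowers u) (Subgroup.mem_zpowers u) 1
      have hd := orderOf_dvd_natCard (⟨u, hum⟩ : Subgroup.centralizer ({u} : Set Q))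
      rw [Subgroup.orderOf_mk, h] at hd
      exact orderOf_dvd_iff_pow_eq_one.1 hd
    have hne1 : Nat.card (Subgroup.centralizer ({u} : Set Q)) ≠ 1 := fun h =>
      hu.1 (Subgroup.mem_bot.1 ((Subgroup.eq_bot_of_card_eq _ h) ▸ hum))
    obtain ⟨k, hk⟩ := hA
    omega
  have hcardS : ∀ u, Good u →
      Nat.card Q * (Nat.card (Subgroup.centralizer ({u} : Set Q)) - 1) ≤
        2 * Nat.card (Subgroup.centralizer ({u} : Set Q)) * (Sg u).card := by
    intro u hu
    rw [Nat.card_eq_fintype_card, ← Finset.card_univ,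
      show Nat.card (Subgroup.centralizer ({u} : Set Q)) - 1 = (Finset.univ.filter fun x =>
      x ∈ Subgroup.centralizer ({u} : Set Q) ∧ x ≠ 1).card by have := hAone u; omega,
      ← Finset.card_product]
    refine Finset.card_le_mul_card_image _ _ fun w hw => ?_
    obtain ⟨g₀, x₀, ⟨hx₀, hx₀1⟩, rfl⟩ := (hSg u w).1 hw
    let N : Finset Q := (Finset.univ.filter fun x => x ∈ Subgroup.centralizer ({u} : Set Q)) ∪
      (Finset.univ.filter fun x => x ∈ Subgroup.centralizer ({u} : Set Q)).image (· * t)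
    have hN : N.card ≤ 2 * Nat.card (Subgroup.centralizer ({u} : Set Q)) := by
      refine (Finset.card_union_le _ _).trans ?_
      have := Finset.card_image_le (f := (· * t))
        (s := Finset.univ.filter fun x => x ∈ Subgroup.centralizer ({u} : Set Q))
      rw [hAset] at this ⊢
      omega
    refine (Finset.card_le_card_of_injOn (fun p => g₀⁻¹ * p.1) ?_ ?_).trans hN
    · rintro ⟨g, x⟩ hp
      simp only [Finset.mem_coe, Finset.mem_filter, Finset.mem_product, Finset.mem_univ,
        true_and] at hp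
      obtain ⟨⟨hx, hx1⟩, hgx⟩ := hp
      have hmem : g₀⁻¹ * g * x * (g₀⁻¹ * g)⁻¹ ∈ Subgroup.centralizer ({u} : Set Q) := by
        rw [show g₀⁻¹ * g * x * (g₀⁻¹ * g)⁻¹ = g₀⁻¹ * (g * x * g⁻¹) * g₀ by group, hgx,
          show g₀⁻¹ * (g₀ * x₀ * g₀⁻¹) * g₀ = x₀ by group]
        exact hx₀
      obtain ⟨c, b, hg, hb, hc, hcx⟩ := hNA u x _ hu hx hx1 hmem
      rw [← hcx] at hmem
      simp only [Finset.mem_coe, N, Finset.mem_union, Finset.mem_image, Finset.mem_filter,
        Finset.mem_univ, true_and, hg]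
      rcases hc1t u x c hu hx hx1 hc hmem with rfl | rfl
      · left; simpa using hb
      · right; exact ⟨b, hb, rfl⟩
    · rintro ⟨g, x⟩ hp ⟨g', x'⟩ hp' h
      simp only [Finset.mem_coe, Finset.mem_filter] at hp hp'
      simp only [mul_right_inj] at h
      subst h
      have h' := hp.2.trans hp'.2.symm
      simp only [mul_left_inj, mul_right_inj] at h'
      rw [h']
  have hSdisj : ∀ u, Good u → ∀ w ∈ Sg u, w ∉ Inv ∧ w ≠ 1 := fun u hu w hw =>
    ⟨fun h => hSgI u hu w hw ((hInv w).1 h).1, fun h => hSgI u hu w hw (by rw [h, mul_one])⟩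
  set u₀ := t * z₀ with hu₀
  have hg₀ : Good u₀ := good_of z₀ hz₀ hz₀V
  by_cases hall : ∀ z : Q, z * z = 1 → ¬ InFour t v z → t * z ∈ Sg u₀
  · -- a single class of tori
    obtain ⟨hA, hinv, hab⟩ := stepD u₀ hg₀.1 hg₀.2.1 hg₀.2.2
    let A₁ := Finset.univ.filter fun x => x ∈ Subgroup.centralizer ({u₀} : Set Q) ∧ x ≠ 1
    have hA₁ : ∀ x, x ∈ A₁ ↔ x ∈ Subgroup.centralizer ({u₀} : Set Q) ∧ x ≠ 1 := fun x => by
      simp [A₁]
    have hvA : ∀ x ∈ A₁, v * x * v ∉ A₁ := by
      intro x hx h
      rw [hA₁] at hx h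
      rcases hc1t u₀ x v hg₀ hx.1 hx.2 (Or.inr (Or.inr (Or.inl rfl)))
        (by rw [inv_eq_self_of_sq hvv]; exact h.1) with h' | h'
      · exact hv1 h'
      · exact hvt h'
    have hXeq : Inv = ({t, v, t * v} : Finset Q) ∪
        ((A₁ ∪ A₁.image fun x => v * x * v).image (t * ·)) := by
      ext z
      rw [hInv, Finset.mem_union]
      constructor
      · rintro ⟨hz2, hz1⟩
        by_cases hzV : InFour t v z
        · exact Or.inl (hInv3 z hz2 hzV hz1)
        right
        refine Finset.mem_image.2 ⟨t * z, ?_, htt z⟩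
        obtain ⟨g, x, ⟨hx, hx1⟩, hgx⟩ := (hSg _ _).1 (hall z hz2 hzV)
        have hgood := good_of z hz2 hzV
        -- `g⁻¹ t g` and `t` invert `x`
        have hsinv : (g⁻¹ * t * g) * x * (g⁻¹ * t * g) = x⁻¹ := by
          calc (g⁻¹ * t * g) * x * (g⁻¹ * t * g) = g⁻¹ * (t * (g * x * g⁻¹) * t) * g := by group
            _ = g⁻¹ * (g * x * g⁻¹)⁻¹ * g := by rw [hgx, hgood.2.2]
            _ = x⁻¹ := by group
        have hst : (g⁻¹ * t * g) * t ∈ Subgroup.centralizer ({u₀} : Set Q) := by
          refine hTI u₀ x _ hg₀ hx hx1 ?_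
          have h1 : t * x = x⁻¹ * t := by
            rw [← hinv x hx]; simp only [mul_assoc, ht, mul_one]
          have hss : (g⁻¹ * t * g) * (g⁻¹ * t * g) = 1 := by
            calc (g⁻¹ * t * g) * (g⁻¹ * t * g) = g⁻¹ * (t * t) * g := by group
              _ = 1 := by rw [ht]; group
          have h2 : x * (g⁻¹ * t * g) = (g⁻¹ * t * g) * x⁻¹ := by
            rw [← hsinv]
            calc x * (g⁻¹ * t * g)
                = (g⁻¹ * t * g) * (g⁻¹ * t * g) * x * (g⁻¹ * t * g) := by rw [hss, one_mul]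
              _ = _ := by group
          calc (g⁻¹ * t * g) * t * x = (g⁻¹ * t * g) * (t * x) := by group
            _ = (g⁻¹ * t * g) * x⁻¹ * t := by rw [h1]; group
            _ = x * (g⁻¹ * t * g) * t := by rw [h2]
            _ = x * ((g⁻¹ * t * g) * t) := by group
        obtain ⟨b, hb, hbb, -⟩ := exists_sqrt hst (odd_orderOf_of_mem hA hst)
        have hbs : b * t * b⁻¹ = g⁻¹ * t * g := by
          have : t * b⁻¹ = b * t := by
            rw [← hinv b hb]; simp only [← mul_assoc, ht, one_mul]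
          rw [mul_assoc, this, ← mul_assoc, hbb, mul_assoc, ht, mul_one]
        have hc : InFour t v (g * b) := by
          refine hC _ ?_
          calc g * b * t = g * (b * t * b⁻¹) * b := by group
            _ = g * (g⁻¹ * t * g) * b := by rw [hbs]
            _ = t * (g * b) := by group
        have hu : t * z = g * b * x * (g * b)⁻¹ := by
          rw [← hgx]
          calc g * x * g⁻¹ = g * (x * b) * b⁻¹ * g⁻¹ := by group
            _ = g * (b * x) * b⁻¹ * g⁻¹ := by rw [hab x hx b hb]
            _ = g * b * x * (g * b)⁻¹ := by group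
        rw [hu]
        rcases hc with h | h | h | h <;> rw [h, Finset.mem_union]
        · left; rw [hA₁, one_mul, inv_one, mul_one]; exact ⟨hx, hx1⟩
        · left
          rw [hA₁, inv_eq_self_of_sq ht, hinv x hx]
          exact ⟨Subgroup.inv_mem _ hx, inv_ne_one.2 hx1⟩
        · right
          rw [inv_eq_self_of_sq hvv]
          exact Finset.mem_image.2 ⟨x, (hA₁ x).2 ⟨hx, hx1⟩, rfl⟩
        · right
          refine Finset.mem_image.2 ⟨x⁻¹,
            (hA₁ _).2 ⟨Subgroup.inv_mem _ hx, inv_ne_one.2 hx1⟩, ?_⟩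
          rw [mul_inv_rev, inv_eq_self_of_sq hvv, inv_eq_self_of_sq ht]
          calc v * x⁻¹ * v = v * (t * x * t) * v := by rw [hinv x hx]
            _ = (v * t) * x * (t * v) := by group
            _ = t * v * x * (v * t) := by rw [htv]
      · rintro (hz | hz)
        · simp only [Finset.mem_insert, Finset.mem_singleton] at hz
          rcases hz with rfl | rfl | rfl
          · exact ⟨ht, ht1⟩
          · exact ⟨hvv, hv1⟩
          · exact ⟨htv2, htv1⟩
        · obtain ⟨w, hw, rfl⟩ := Finset.mem_image.1 hz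
          have hwi : t * w * t = w⁻¹ ∧ w * w ≠ 1 := by
            rcases Finset.mem_union.1 hw with hw | hw
            · rw [hA₁] at hw
              exact ⟨hinv w hw.1, fun h =>
                hw.2 (eq_one_of_sq_of_odd h (odd_orderOf_of_mem hA hw.1))⟩
            · obtain ⟨x, hx, rfl⟩ := Finset.mem_image.1 hw
              rw [hA₁] at hx
              refine ⟨?_, fun h => hx.2 (eq_one_of_sq_of_odd ?_ (odd_orderOf_of_mem hA hx.1))⟩
              · calc t * (v * x * v) * t = (t * v) * x * (v * t) := by group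
                  _ = (v * t) * x * (t * v) := by rw [htv]
                  _ = v * (t * x * t) * v := by group
                  _ = v * x⁻¹ * v := by rw [hinv x hx.1]
                  _ = (v * x * v)⁻¹ := by
                    simp only [mul_inv_rev, inv_eq_self_of_sq hvv, mul_assoc]
              · calc x * x = v * (v * x * v * (v * x * v)) * v := by
                      simp only [mul_assoc, hvvx, hvv, mul_one]
                  _ = 1 := by rw [h, mul_one, hvv]
          refine ⟨?_, fun h => hwi.2 ?_⟩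
          · rw [← mul_assoc, hwi.1, inv_mul_cancel]
          · have : w = t := by rw [← htt w, h, mul_one]
            rw [this, ht]
    have hdisj : Disjoint ({t, v, t * v} : Finset Q)
        ((A₁ ∪ A₁.image fun x => v * x * v).image (t * ·)) := by
      rw [Finset.disjoint_left]
      intro z hz hz'
      obtain ⟨w, hw, rfl⟩ := Finset.mem_image.1 hz'
      have hw' : InFour t v w := by
        simp only [Finset.mem_insert, Finset.mem_singleton] at hz
        rcases hz with h | h | h
        · left; rw [← htt w, h, ht]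
        · right; right; right; rw [← htt w, h]
        · right; right; left; rw [← htt w, h, htt]
      have hww := sqV w hw'
      rcases Finset.mem_union.1 hw with hw | hw
      · rw [hA₁] at hw
        exact hw.2 (eq_one_of_sq_of_odd hww (odd_orderOf_of_mem hA hw.1))
      · obtain ⟨x, hx, rfl⟩ := Finset.mem_image.1 hw
        rw [hA₁] at hx
        refine hx.2 (eq_one_of_sq_of_odd ?_ (odd_orderOf_of_mem hA hx.1))
        calc x * x = v * (v * x * v * (v * x * v)) * v := by
              simp only [mul_assoc, hvvx, hvv, mul_one]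
          _ = 1 := by rw [hww, mul_one, hvv]
    have hdisj2 : Disjoint A₁ (A₁.image fun x => v * x * v) := by
      rw [Finset.disjoint_right]
      intro w hw
      obtain ⟨x, hx, rfl⟩ := Finset.mem_image.1 hw
      exact hvA x hx
    have hm : Inv.card + 2 = 3 + 2 * Nat.card (Subgroup.centralizer ({u₀} : Set Q)) := by
      rw [hXeq, Finset.card_union_of_disjoint hdisj, h3card,
        Finset.card_image_of_injective _ (mul_right_injective t),
        Finset.card_union_of_disjoint hdisj2,
        Finset.card_image_of_injective _ (fun a b h => by simpa using h)]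
      have := hAone u₀
      simp only [A₁]
      omega
    have hdvd := Subgroup.card_subgroup_dvd_card (Subgroup.centralizer ({u₀} : Set Q))
    rw [hQ4, show Inv.card = 2 * Nat.card (Subgroup.centralizer ({u₀} : Set Q)) + 1 by omega,
      mul_add, mul_one, Nat.dvd_add_right (Dvd.intro_left 8 (by ring))] at hdvd
    have := Nat.le_of_dvd (by norm_num) hdvd
    have := ha5 u₀ hg₀
    omega
  · push Not at hall
    obtain ⟨z₁, hz₁, hz₁V, hnot⟩ := hall
    have hg₁ : Good (t * z₁) := good_of z₁ hz₁ hz₁V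
    have hdisj : Disjoint (Sg u₀) (Sg (t * z₁)) := by
      rw [Finset.disjoint_left]
      intro w hw hw'
      obtain ⟨g, x, ⟨hx, hx1⟩, rfl⟩ := (hSg _ _).1 hw
      obtain ⟨h, x', ⟨hx', hx'1⟩, he⟩ := (hSg _ _).1 hw'
      refine hnot ((hSg _ _).2 ⟨h⁻¹ * g, (h⁻¹ * g)⁻¹ * (t * z₁) * (h⁻¹ * g),
        ⟨?_, fun e => hg₁.1 ?_⟩, by group⟩)
      · refine hTI u₀ x _ hg₀ hx hx1 ?_
        have hxx : x = g⁻¹ * h * x' * (h⁻¹ * g) := by
          calc x = g⁻¹ * (g * x * g⁻¹) * g := by group
            _ = g⁻¹ * (h * x' * h⁻¹) * g := by rw [he]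
            _ = g⁻¹ * h * x' * (h⁻¹ * g) := by group
        rw [Subgroup.mem_centralizer_singleton_iff] at hx'
        rw [hxx]
        calc (h⁻¹ * g)⁻¹ * (t * z₁) * (h⁻¹ * g) * (g⁻¹ * h * x' * (h⁻¹ * g))
            = g⁻¹ * h * ((t * z₁) * x') * (h⁻¹ * g) := by group
          _ = g⁻¹ * h * (x' * (t * z₁)) * (h⁻¹ * g) := by rw [hx']
          _ = g⁻¹ * h * x' * (h⁻¹ * g) * ((h⁻¹ * g)⁻¹ * (t * z₁) * (h⁻¹ * g)) := by group
      · calc t * z₁ = (h⁻¹ * g) * ((h⁻¹ * g)⁻¹ * (t * z₁) * (h⁻¹ * g)) * (h⁻¹ * g)⁻¹ := by group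
          _ = 1 := by rw [e]; group
    have hdI : Disjoint Inv (Sg u₀ ∪ Sg (t * z₁)) := by
      rw [Finset.disjoint_right]
      intro w hw
      rcases Finset.mem_union.1 hw with hw | hw
      · exact (hSdisj _ hg₀ w hw).1
      · exact (hSdisj _ hg₁ w hw).1
    have h1not : (1 : Q) ∉ Inv ∪ (Sg u₀ ∪ Sg (t * z₁)) := by
      simp only [Finset.mem_union]
      rintro (h | h | h)
      · exact ((hInv 1).1 h).2 rfl
      · exact (hSdisj _ hg₀ _ h).2 rfl
      · exact (hSdisj _ hg₁ _ h).2 rfl
    have htot := Finset.card_le_univ (insert 1 (Inv ∪ (Sg u₀ ∪ Sg (t * z₁))))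
    rw [Finset.card_insert_of_notMem h1not, Finset.card_union_of_disjoint hdI,
      Finset.card_union_of_disjoint hdisj, ← Nat.card_eq_fintype_card, hQ4] at htot
    have key : ∀ u, Good u → 8 * Inv.card ≤ 5 * (Sg u).card := by
      intro u hu
      have h := hcardS u hu
      rw [hQ4] at h
      have h5 := ha5 u hu
      obtain ⟨k, hk⟩ : ∃ k, Nat.card (Subgroup.centralizer ({u} : Set Q)) = k + 5 :=
        ⟨_, (Nat.sub_add_cancel h5).symm⟩
      rw [hk, show k + 5 - 1 = k + 4 by omega] at h
      nlinarith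
    have := key u₀ hg₀
    have := key _ hg₁
    omega

end Twelve

end Cfsg.Agent.Lib.ReeThree91.TwistAux
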