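import Cfsg.Agent.Lib.ReeThree91.Spec
import Cfsg.Agent.Lib.ReeThree91.TwistBase
import Cfsg.Agent.Lib.LinGroup.Simple

/-!
Brick B of `S2755`: if a Sylow `3`-subgroup of a group of Ree type is that of `C(t)`, then some
element acts on the torus `T` as an automorphism of order `3`.

An element `y` of order `3` permutes `t, v, tv` and normalises `T`.  If it centralised `T`, the
normal `{2,3}`-complement `R` of `C(y)` would be abelian, contain `T` and so lie in `C(T)`, whose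
quotient by `T` has order `12`; hence `R = T`, the Sylow `3`-subgroup of `C(y) ∩ C(w)` of order
`q` normalises `T` and embeds in the permutations of `t, v, tv`, absurd.
-/

set_option autoImplicit false

namespace Cfsg.Agent.Lib.ReeThree91

universe u

open TwistAux

namespace TwistAux

/-- An element of an abelian Sylow subgroup fixed by its normaliser is trivial in a non-abelian
simple group. -/
theorem eq_one_of_fixed {H : Type*} [Group H] [Finite H] [IsSimpleGroup H]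
    (hna : ¬ IsMulCommutative H) {p : ℕ} [Fact p.Prime] (P : Sylow p H) [IsMulCommutative P]
    {x : H} (hx : x ∈ (P : Subgroup H))
    (hfix : ∀ n ∈ Subgroup.normalizer ((P : Subgroup H) : Set H), n * x = x * n) : x = 1 := by
  have key : ∀ (k : ℕ) (g₀ : H), g₀⁻¹ * x ^ k * g₀ ∈ (P : Subgroup H) →
      g₀⁻¹ * x ^ k * g₀ = x ^ k := by
    intro k g₀ hk
    obtain ⟨n, hn, he⟩ :=
      P.conj_eq_normalizer_conj_of_mem (x ^ k) g₀ (pow_mem hx k) hk
    rw [he, mul_assoc, ← ((show Commute n x from hfix n hn).pow_right k).eq,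
      inv_mul_cancel_left]
  open scoped IsMulCommutative in
  let f : H →* (P : Subgroup H) := MonoidHom.transfer (MonoidHom.id (P : Subgroup H))
  have hf : (f x : H) = x ^ (P : Subgroup H).index := by
    open scoped IsMulCommutative in
    exact congrArg Subtype.val (MonoidHom.transfer_eq_pow (MonoidHom.id (P : Subgroup H)) x key)
  rcases f.normal_ker.eq_bot_or_eq_top with h | h
  · refine absurd ⟨⟨fun a b => ?_⟩⟩ hna
    refine (MonoidHom.ker_eq_bot_iff f).1 h ?_
    rw [map_mul, map_mul]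
    exact IsMulCommutative.is_comm.comm _ _
  · have h1 : f x = 1 := by rw [← MonoidHom.mem_ker, h]; trivial
    rw [h1, Subgroup.coe_one] at hf
    obtain ⟨k, hk⟩ := (IsPGroup.iff_card.1 P.2)
    have h2 : orderOf x ∣ p ^ k := by
      have := orderOf_dvd_natCard (⟨x, hx⟩ : (P : Subgroup H))
      rwa [Subgroup.orderOf_mk, hk] at this
    have h3 : Nat.Coprime (p ^ k) (P : Subgroup H).index :=
      Nat.Coprime.pow_left _ ((Fact.out : p.Prime).coprime_iff_not_dvd.2 P.not_dvd_index)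
    exact orderOf_eq_one_iff.1 (Nat.eq_one_of_dvd_coprimes h3 h2
      (orderOf_dvd_of_pow_eq_one hf.symm))

/-- A subgroup extending a subgroup `U` by an involution outside it. -/
theorem card_double {G : Type*} [Group G] [Finite G] {t : G} (ht : t * t = 1)
    {U S : Subgroup G} (htU : t ∉ U) (hS : ∀ g, g ∈ S ↔ g ∈ U ∨ t * g ∈ U) :
    Nat.card S = 2 * Nat.card U := by
  have htt : ∀ x : G, t * (t * x) = x := fun x => by rw [← mul_assoc, ht, one_mul]
  have hfwd : ∀ p : U ⊕ U, Sum.elim (fun u : U => (u : G)) (fun u : U => t * u) p ∈ S := by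
    rintro (u | u)
    · exact (hS _).2 (Or.inl u.2)
    · exact (hS _).2 (Or.inr (by simp only [Sum.elim_inr]; rw [htt]; exact u.2))
  let f : U ⊕ U → S := fun p => ⟨_, hfwd p⟩
  have hf : Function.Bijective f := by
    constructor
    · rintro (a | a) (b | b) hab <;> have h := congrArg Subtype.val hab <;>
        simp only [f, Sum.elim_inl, Sum.elim_inr] at h
      · rw [Subtype.ext h]
      · refine absurd ?_ htU
        rw [show t = (a : G) * (b : G)⁻¹ by rw [h]; group]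
        exact U.mul_mem a.2 (U.inv_mem b.2)
      · refine absurd ?_ htU
        rw [show t = (b : G) * (a : G)⁻¹ by rw [← h]; group]
        exact U.mul_mem b.2 (U.inv_mem a.2)
      · rw [Subtype.ext (mul_left_cancel h)]
    · rintro ⟨g, hg⟩
      rcases (hS g).1 hg with h | h
      · exact ⟨Sum.inl ⟨g, h⟩, rfl⟩
      · exact ⟨Sum.inr ⟨_, h⟩, Subtype.ext (htt g)⟩
  rw [← Nat.card_eq_of_bijective f hf, Nat.card_sum, two_mul]

theorem coprime_two_of_odd {n : ℕ} (h : Odd n) : Nat.Coprime 2 n :=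
  Nat.coprime_two_left.2 h

end TwistAux

section

variable {G : Type u} [Group G] [Finite G] (d : Data G)

theorem Data.t_sq : d.t * d.t = 1 := by
  rw [← pow_two, ← d.ht, pow_orderOf_eq_one]

theorem Data.v_sq : d.v * d.v = 1 := by
  rw [← pow_two, ← d.hv, pow_orderOf_eq_one]

theorem Data.i_sq : d.i * d.i = 1 := by
  rw [← pow_two, ← d.hi, pow_orderOf_eq_one]

theorem Data.v_ne_one : d.v ≠ 1 := fun h => by
  have := d.hv
  rw [h, orderOf_one] at this
  omega

theorem Data.i_ne_one : d.i ≠ 1 := fun h => by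
  have := d.hi
  rw [h, orderOf_one] at this
  omega

theorem Data.t_ne_one : d.t ≠ 1 := fun h => d.htK (by rw [h]; exact d.K.one_mem)

theorem Data.q_ge : 27 ≤ d.q := by
  rw [d.hq]
  exact le_trans (by norm_num) (Nat.pow_le_pow_right (by norm_num) (by have := d.hn; omega : 3 ≤ 2 * d.n + 1))

theorem Data.tw_three_dvd_q : 3 ∣ d.q := by
  rw [d.hq]; exact dvd_pow_self _ (by omega)

theorem Data.three_not_dvd_tau : ¬ 3 ∣ d.τ := by
  intro h
  have := d.tw_three_dvd_q
  have := d.hτ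
  omega

theorem Data.tw_c_odd : Odd d.c := by
  have := d.hc
  have := d.hτ
  refine ⟨d.τ - 1, ?_⟩
  omega

theorem Data.tw_q_odd : Odd d.q := ⟨d.c, d.hc⟩

theorem Data.tw_T_pow {z : G} (hz : z ∈ d.T) : z ^ d.τ = 1 := by
  refine orderOf_dvd_iff_pow_eq_one.1 ?_
  have := orderOf_dvd_natCard (⟨z, hz⟩ : d.T)
  rwa [Subgroup.orderOf_mk, d.cardT] at this

theorem Data.T_sq_eq_one {z : G} (hz : z ∈ d.T) (h : z * z = 1) : z = 1 :=
  eq_one_of_sq_of_odd h (odd_orderOf_of_mem (by rw [d.cardT]; exact d.hτodd) hz)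

theorem Data.E_comm_t {e : G} (he : e ∈ d.E) : e * d.t = d.t * e := d.K_comm e (d.E_le he)

include d in
theorem Data.card_two : ∃ m, Odd m ∧ Nat.card G = 8 * m := by
  have hC := TwistAux.card_double d.t_sq (U := d.K) (S := Subgroup.centralizer ({d.t} : Set G))
    d.htK (fun g => by
      rw [Subgroup.mem_centralizer_singleton_iff]
      refine ⟨d.K_cent g, ?_⟩
      rintro (h | h)
      · exact d.K_comm g h
      · have h1 := d.K_comm _ h
        rw [mul_assoc] at h1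
        exact mul_left_cancel h1)
  refine ⟨d.q * d.c * d.τ * (Subgroup.centralizer ({d.t} : Set G)).index,
    ((d.tw_q_odd.mul d.tw_c_odd).mul d.hτodd).mul d.oddIndex, ?_⟩
  rw [← Subgroup.card_mul_index (Subgroup.centralizer ({d.t} : Set G)), hC, d.cardK, d.hτ]
  ring

theorem Data.cardK_two : ∃ m, Odd m ∧ Nat.card d.K = 4 * m :=
  ⟨d.q * d.c * d.τ, (d.tw_q_odd.mul d.tw_c_odd).mul d.hτodd, by rw [d.cardK, d.hτ]; ring⟩

/-- Elements commuting with `t` and `v` of odd order lie in `T`. -/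
theorem Data.mem_T_of_odd {g : G} (hgt : g * d.t = d.t * g) (hgv : g * d.v = d.v * g)
    (ho : Odd (orderOf g)) : g ∈ d.T := by
  have htt : ∀ x : G, d.t * (d.t * x) = x := fun x => by rw [← mul_assoc, d.t_sq, one_mul]
  have key : ∀ k : G, k ∈ d.K → k * d.v = d.v * k →
      ∃ e z : G, k = e * z ∧ z ∈ d.T ∧ e * e = 1 ∧ (e * z = z * e ∨ (e * z) * (e * z) = 1) ∧
        e * d.t = d.t * e := by
    intro k hk hkv
    rcases d.v_centK k hk hkv with h | h | h | h
    · exact ⟨1, k, by group, h, one_mul 1, Or.inl (by group), by group⟩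
    · refine ⟨d.v, _, ?_, h, d.v_sq, Or.inl (d.v_cent _ h), d.K_comm _ d.v_mem⟩
      rw [← mul_assoc, d.v_sq, one_mul]
    · refine ⟨d.i, _, ?_, h, d.i_sq, Or.inr ?_, d.K_comm _ d.i_mem⟩
      · rw [← mul_assoc, d.i_sq, one_mul]
      · have h1 := d.i_inv _ h
        rw [inv_eq_self_of_sq d.i_sq] at h1
        rw [show d.i * (d.i * k) * (d.i * (d.i * k)) = d.i * (d.i * k) * d.i * (d.i * k) by group,
          h1, inv_mul_cancel]
    · have hiv2 : d.i * d.v * (d.i * d.v) = 1 := by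
        calc d.i * d.v * (d.i * d.v) = d.i * (d.v * d.i) * d.v := by group
          _ = d.i * d.i * (d.v * d.v) := by rw [← d.i_comm]; group
          _ = 1 := by rw [d.i_sq, d.v_sq, one_mul]
      refine ⟨d.i * d.v, _, ?_, h, hiv2, Or.inr ?_,
        d.K_comm _ (d.K.mul_mem d.i_mem d.v_mem)⟩
      · rw [← mul_assoc, hiv2, one_mul]
      · have h1 := d.i_inv _ h
        rw [inv_eq_self_of_sq d.i_sq] at h1
        have h2 := d.v_cent _ h
        generalize d.i * d.v * k = z at h1 h2 ⊢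
        calc d.i * d.v * z * (d.i * d.v * z)
            = d.i * (d.v * z) * (d.i * d.v) * z := by group
          _ = d.i * (z * d.v) * (d.v * d.i) * z := by rw [h2, d.i_comm]
          _ = d.i * z * (d.v * d.v) * d.i * z := by group
          _ = 1 := by rw [d.v_sq, mul_one, h1, inv_mul_cancel]
  obtain ⟨e, z, hge, hz, hee, hcase, het⟩ : ∃ e z : G, g = e * z ∧ z ∈ d.T ∧ e * e = 1 ∧
      (e * z = z * e ∨ (e * z) * (e * z) = 1) ∧ e * d.t = d.t * e := by
    rcases d.K_cent g hgt with h | h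
    · exact key g h hgv
    · obtain ⟨e, z, hge, hz, hee, hcase, het⟩ := key _ h (by
        calc d.t * g * d.v = d.t * (g * d.v) := by group
          _ = d.t * (d.v * g) := by rw [hgv]
          _ = d.t * d.v * g := by group
          _ = d.v * d.t * g := by rw [d.K_comm _ d.v_mem]
          _ = d.v * (d.t * g) := by group)
      have hzt : z * d.t = d.t * z := d.K_comm z (d.T_le hz)
      refine ⟨d.t * e, z, by rw [mul_assoc, ← hge, htt], hz, ?_, ?_, ?_⟩
      · calc d.t * e * (d.t * e) = d.t * (e * d.t) * e := by group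
          _ = d.t * d.t * (e * e) := by rw [het]; group
          _ = 1 := by rw [d.t_sq, hee, one_mul]
      · rcases hcase with hc | hc
        · left
          calc d.t * e * z = d.t * (e * z) := by group
            _ = d.t * z * e := by rw [hc]; group
            _ = z * (d.t * e) := by rw [← hzt]; group
        · right
          calc d.t * e * z * (d.t * e * z) = d.t * e * (z * d.t) * (e * z) := by group
            _ = d.t * (e * d.t) * z * (e * z) := by rw [hzt]; group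
            _ = d.t * d.t * ((e * z) * (e * z)) := by rw [het]; group
            _ = 1 := by rw [d.t_sq, hc, one_mul]
      · rw [mul_assoc, het]
  rcases hcase with hc | hc
  · have h1 : e ^ orderOf g * z ^ orderOf g = 1 := by
      rw [← (show Commute e z from hc).mul_pow, ← hge, pow_orderOf_eq_one]
    obtain ⟨k, hk⟩ := ho
    have h2 : e ^ orderOf g = e := by
      rw [hk, pow_succ, pow_mul, pow_two, hee, one_pow, one_mul]
    rw [h2] at h1
    have heT : e ∈ d.T := by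
      rw [eq_inv_of_mul_eq_one_left h1]; exact d.T.inv_mem (pow_mem hz _)
    rw [hge, d.T_sq_eq_one heT hee, one_mul]
    exact hz
  · rw [eq_one_of_sq_of_odd (by rw [hge]; exact hc) ho]
    exact d.T.one_mem

/-- The normal `2`-complement and the normal `{2,3}`-complement of `C(e)`. -/
theorem Data.cent_e {e : G} (he : e ∈ d.E) (he1 : e ≠ 1) :
    (∀ n : G, (∀ a ∈ d.E, n * a * n⁻¹ ∈ d.E) → ∃ b : G, (∀ a ∈ d.E, b * a = a * b) ∧
        (b⁻¹ * n) * d.t = d.t * (b⁻¹ * n)) ∧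
    (∀ r s : G, r * e = e * r → s * e = e * s → Nat.Coprime (orderOf r) 6 →
        Nat.Coprime (orderOf s) 6 → r * s = s * r) := by
  have htt : ∀ x : G, d.t * (d.t * x) = x := fun x => by rw [← mul_assoc, d.t_sq, one_mul]
  -- `C(t) ∩ C(e) = ⟨t⟩ × E`
  have hCt : ∀ g : G, g * e = e * g → g * d.t = d.t * g → g ∈ d.E ∨ d.t * g ∈ d.E := by
    intro g hge hgt
    rcases d.K_cent g hgt with h | h
    · exact Or.inl (d.E_cent e he he1 g h hge)
    · refine Or.inr (d.E_cent e he he1 _ h ?_)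
      calc d.t * g * e = d.t * (g * e) := by group
        _ = d.t * e * g := by rw [hge]; group
        _ = e * (d.t * g) := by rw [← d.E_comm_t he]; group
  have hEord : ∀ a ∈ d.E, orderOf a ∣ 3 := fun a ha => orderOf_dvd_of_pow_eq_one (d.E_pow a ha)
  have hOddE : ∀ g : G, g * e = e * g → g * d.t = d.t * g → Odd (orderOf g) → g ∈ d.E := by
    intro g hge hgt ho
    rcases hCt g hge hgt with h | h
    · exact h
    · exfalso
      obtain ⟨k, hk⟩ := ho
      have h1 : (d.t * g) ^ orderOf g = d.t := by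
        rw [(show Commute d.t g from hgt.symm).mul_pow, pow_orderOf_eq_one, mul_one, hk,
          pow_succ, pow_mul, pow_two, d.t_sq, one_pow, one_mul]
      exact d.htK (d.E_le (h1 ▸ pow_mem h _))
  set C := Subgroup.centralizer ({e} : Set G) with hCdef
  have memC : ∀ g : G, g ∈ C ↔ g * e = e * g := fun g => Subgroup.mem_centralizer_singleton_iff
  let tC : C := ⟨d.t, (memC _).2 (d.E_comm_t he).symm⟩
  have htC : tC * tC = 1 := Subtype.ext d.t_sq
  haveI : Fact (Nat.Prime 2) := ⟨Nat.prime_two⟩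
  haveI : Fact (Nat.Prime 3) := ⟨Nat.prime_three⟩
  have hZP : IsPGroup 2 (Subgroup.zpowers tC) := by
    refine IsPGroup.of_card (n := 1) ?_
    rw [Nat.card_zpowers, ← Subgroup.orderOf_coe, pow_one]
    exact d.ht
  obtain ⟨P, hP⟩ := hZP.exists_le_sylow
  have htP : tC ∈ (P : Subgroup C) := hP (Subgroup.mem_zpowers tC)
  haveI : Nontrivial (P : Subgroup C) := by
    refine ⟨⟨tC, htP⟩, 1, fun h => d.t_ne_one ?_⟩
    exact congrArg (fun x : (P : Subgroup C) => ((x : C) : G)) h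
  have h2elt : ∀ g ∈ (P : Subgroup C), (g : G) * d.t = d.t * g → g = 1 ∨ g = tC := by
    intro g hg hgt
    obtain ⟨k, hk⟩ := IsPGroup.iff_orderOf.1 P.2 ⟨g, hg⟩
    rw [Subgroup.orderOf_mk, ← Subgroup.orderOf_coe] at hk
    rcases hCt g ((memC _).1 g.2) hgt with h | h
    · left
      refine Subtype.ext (orderOf_eq_one_iff.1 ?_)
      exact Nat.eq_one_of_dvd_coprimes (Nat.Coprime.pow_right k (by norm_num : Nat.Coprime 3 2))
        (hEord _ h) (hk ▸ dvd_rfl)
    · right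
      have htg : tC * g ∈ (P : Subgroup C) := mul_mem htP hg
      obtain ⟨l, hl⟩ := IsPGroup.iff_orderOf.1 P.2 ⟨_, htg⟩
      rw [Subgroup.orderOf_mk, ← Subgroup.orderOf_coe] at hl
      have h1 : d.t * (g : G) = 1 := orderOf_eq_one_iff.1
        (Nat.eq_one_of_dvd_coprimes (Nat.Coprime.pow_right l (by norm_num : Nat.Coprime 3 2))
          (hEord _ h) (hl ▸ dvd_rfl))
      exact Subtype.ext (by
        show (g : G) = d.t
        rw [← htt (g : G), h1, mul_one])
  have hPz : ∀ g ∈ (P : Subgroup C), g = 1 ∨ g = tC := by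
    haveI := P.2.center_nontrivial
    obtain ⟨z, hz⟩ : ∃ z : Subgroup.center (P : Subgroup C), orderOf z = 2 := by
      refine exists_prime_orderOf_dvd_card' 2 ?_
      obtain ⟨k, hk0, hk⟩ := (IsPGroup.nontrivial_iff_card
        (P.2.to_subgroup (Subgroup.center (P : Subgroup C)))).1 inferInstance
      rw [hk]
      exact dvd_pow_self 2 (by omega)
    have hzt : ((z : (P : Subgroup C)) : C) = tC := by
      have hzc := Subgroup.mem_center_iff.1 z.2 ⟨tC, htP⟩
      have hzc' := congrArg (fun x : (P : Subgroup C) => ((x : C) : G)) hzc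
      rcases h2elt _ (z : (P : Subgroup C)).2 hzc'.symm with h | h
      · exfalso
        have : z = 1 := Subtype.ext (Subtype.ext h)
        rw [this, orderOf_one] at hz
        omega
      · exact h
    intro g hg
    refine h2elt g hg ?_
    have hzc := Subgroup.mem_center_iff.1 z.2 ⟨g, hg⟩
    have hzc' := congrArg (fun x : (P : Subgroup C) => ((x : C) : G)) hzc
    simp only [Subgroup.coe_mul, hzt] at hzc'
    exact hzc'
  have hNP : Subgroup.normalizer ((P : Subgroup C) : Set C) ≤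
      Subgroup.centralizer ((P : Subgroup C) : Set C) := by
    intro n hn g hg
    have h1 := ((Subgroup.mem_normalizer_iff).1 hn g).1 hg
    rcases hPz g hg with rfl | rfl
    · rw [one_mul, mul_one]
    · rcases hPz _ h1 with h | h
      · rw [conj_eq_one_iff] at h
        rw [h, one_mul, mul_one]
      · calc tC * n = n * tC * n⁻¹ * n := by rw [h]
          _ = n * tC := by group
  haveI : (P : Subgroup C).FiniteIndex := inferInstance
  set M := (MonoidHom.transferSylow P hNP).ker with hMdef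
  have hModd : Odd (Nat.card M) := by
    rw [← Nat.not_even_iff_odd, even_iff_two_dvd]
    exact MonoidHom.not_dvd_card_ker_transferSylow P hNP
  have hPcard : Nat.card (P : Subgroup C) = 2 := by
    have : ((P : Subgroup C) : Set C) = {1, tC} := by
      ext g
      simp only [SetLike.mem_coe, Set.mem_insert_iff, Set.mem_singleton_iff]
      exact ⟨hPz g, by rintro (rfl | rfl); exacts [one_mem _, htP]⟩
    rw [← SetLike.coe_sort_coe, this, Nat.card_coe_set_eq, Set.ncard_pair]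
    exact fun h => d.t_ne_one (congrArg Subtype.val h).symm
  have hMidx : M.index = 2 := by
    rw [(MonoidHom.ker_transferSylow_isComplement' P hNP).symm.index_eq_card, hPcard]
  have hModdmem : ∀ g : C, Odd (orderOf (g : G)) → g ∈ M := by
    intro g ho
    rw [Subgroup.orderOf_coe] at ho
    obtain ⟨k, hk⟩ := ho
    have h1 : (g ^ 2) ^ (k + 1) = g := by
      rw [← pow_mul, show 2 * (k + 1) = orderOf g + 1 by omega, pow_succ, pow_orderOf_eq_one,
        one_mul]
    rw [← h1]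
    exact pow_mem (Subgroup.sq_mem_of_index_two hMidx g) _
  have hMord : ∀ g ∈ M, Odd (orderOf ((g : C) : G)) := by
    intro g hg
    rw [Subgroup.orderOf_coe]
    exact odd_orderOf_of_mem hModd hg
  have hnotM : ∀ s : C, (s : G) * s = 1 → (s : G) ≠ 1 → s ∉ M := fun s hs hs1 hsM =>
    hs1 (eq_one_of_sq_of_odd hs (hMord s hsM))
  have hprod : ∀ s : G, s * e = e * s → s * s = 1 → s ≠ 1 → Odd (orderOf (s * d.t)) := by
    intro s hse hss hs1
    have h1 : (⟨s, (memC s).2 hse⟩ : C) * tC ∈ M := by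
      rw [Subgroup.mul_mem_iff_of_index_two hMidx]
      exact iff_of_false (hnotM _ hss hs1) (hnotM _ d.t_sq d.t_ne_one)
    have := hMord _ h1
    simpa using this
  have first : ∀ n : G, (∀ a ∈ d.E, n * a * n⁻¹ ∈ d.E) → ∃ b : G,
      (∀ a ∈ d.E, b * a = a * b) ∧ (b⁻¹ * n) * d.t = d.t * (b⁻¹ * n) := by
    intro n hn
    set s := n * d.t * n⁻¹ with hs
    have hss : s * s = 1 := by
      rw [hs]
      calc n * d.t * n⁻¹ * (n * d.t * n⁻¹) = n * (d.t * d.t) * n⁻¹ := by group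
        _ = 1 := by rw [d.t_sq]; group
    have hs1 : s ≠ 1 := fun h => d.t_ne_one (by
      calc d.t = n⁻¹ * s * n := by rw [hs]; group
        _ = 1 := by rw [h]; group)
    have hsE : ∀ a ∈ d.E, s * a = a * s := by
      let f : d.E → d.E := fun a => ⟨n * a * n⁻¹, hn _ a.2⟩
      have hf : Function.Injective f := fun a b h => Subtype.ext (by
        have := congrArg Subtype.val h
        simpa [f] using this)
      intro a ha
      obtain ⟨⟨a', ha'⟩, hfa⟩ := Finite.surjective_of_injective hf ⟨a, ha⟩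
      have hfa' : n * a' * n⁻¹ = a := congrArg Subtype.val hfa
      calc s * a = n * (d.t * a') * n⁻¹ := by rw [hs, ← hfa']; group
        _ = n * (a' * d.t) * n⁻¹ := by rw [d.E_comm_t ha']
        _ = a * s := by rw [hs, ← hfa']; group
    have hodd := hprod s (hsE e he) hss hs1
    have hinv : d.t * (s * d.t) * d.t = (s * d.t)⁻¹ := by
      rw [mul_inv_rev, inv_eq_self_of_sq d.t_sq, inv_eq_self_of_sq hss, mul_assoc d.t,
        mul_assoc s, d.t_sq, mul_one]
    obtain ⟨b, -, hbb, hbz⟩ := exists_sqrt (Subgroup.mem_zpowers (s * d.t)) hodd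
    have hbE : ∀ a ∈ d.E, b * a = a * b := by
      intro a ha
      obtain ⟨j, rfl⟩ := Subgroup.mem_zpowers_iff.1 hbz
      have hc : Commute (s * d.t) a :=
        Commute.mul_left (hsE a ha) (d.E_comm_t ha).symm
      exact (hc.zpow_left j).eq
    have hbt : d.t * b * d.t = b⁻¹ := by
      obtain ⟨j, rfl⟩ := Subgroup.mem_zpowers_iff.1 hbz
      have h2 := map_zpow (MulAut.conj d.t) (s * d.t) j
      rw [MulAut.conj_apply, MulAut.conj_apply, inv_eq_self_of_sq d.t_sq, hinv, inv_zpow] at h2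
      exact h2
    refine ⟨b, hbE, ?_⟩
    have hbs : b * d.t * b⁻¹ = s := by
      have : d.t * b⁻¹ = b * d.t := by
        rw [← hbt, ← mul_assoc, ← mul_assoc, d.t_sq, one_mul]
      rw [mul_assoc, this, ← mul_assoc, hbb, mul_assoc, d.t_sq, mul_one]
    calc b⁻¹ * n * d.t = b⁻¹ * (n * d.t * n⁻¹) * n := by group
      _ = b⁻¹ * (b * d.t * b⁻¹) * n := by rw [hbs, hs]
      _ = d.t * (b⁻¹ * n) := by group
  refine ⟨first, ?_⟩
  -- the normal `3`-complement of `M`
  have hEC : ∀ a ∈ d.E, a ∈ C := fun a ha => (memC a).2 (d.E_comm a ha e he)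
  have hEM : ∀ a, ∀ ha : a ∈ d.E, (⟨a, hEC a ha⟩ : C) ∈ M := by
    intro a ha
    refine hModdmem _ ?_
    exact Odd.of_dvd_nat (by decide) (hEord a ha)
  let EM : Subgroup M := (d.E.subgroupOf C).subgroupOf M
  have memEM : ∀ m : M, m ∈ EM ↔ ((m : C) : G) ∈ d.E := fun m => Iff.rfl
  let eEM : EM ≃ d.E :=
    { toFun := fun m => ⟨((m : M) : C), (memEM m).1 m.2⟩
      invFun := fun a => ⟨⟨⟨a, hEC a a.2⟩, hEM a a.2⟩, a.2⟩
      left_inv := fun m => rfl
      right_inv := fun a => rfl }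
  have hEMc : Nat.card EM = 3 ^ (2 * d.n + 1) := by rw [Nat.card_congr eEM, d.cardE, d.hq]
  obtain ⟨P₃, hP₃⟩ := (IsPGroup.of_card hEMc).exists_le_sylow
  have hP₃E : (P₃ : Subgroup M) = EM := by
    refine (Subgroup.eq_of_le_of_card_ge hP₃ ?_).symm
    obtain ⟨k, hk⟩ := IsPGroup.iff_card.1 P₃.2
    obtain ⟨m, hm, hm3⟩ := d.sylow
    have h1 : 3 ^ k ∣ d.q * m := by
      rw [← hm, ← hk]
      exact (Subgroup.card_subgroup_dvd_card _).trans ((Subgroup.card_subgroup_dvd_card M).trans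
        (Subgroup.card_subgroup_dvd_card C))
    have h2 : 3 ^ k ∣ d.q :=
      (Nat.Coprime.pow_left _ (Nat.prime_three.coprime_iff_not_dvd.2 hm3)).dvd_of_dvd_mul_right h1
    rw [hk, hEMc, ← d.hq]
    exact Nat.le_of_dvd (by have := d.q_ge; omega) h2
  have hN3 : Subgroup.normalizer ((P₃ : Subgroup M) : Set M) ≤
      Subgroup.centralizer ((P₃ : Subgroup M) : Set M) := by
    intro m hm
    rw [hP₃E] at hm ⊢
    set g : G := ((m : C) : G) with hg
    have hn : ∀ a ∈ d.E, g * a * g⁻¹ ∈ d.E := fun a ha =>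
      ((Subgroup.mem_normalizer_iff).1 hm ⟨⟨a, hEC a ha⟩, hEM a ha⟩).1 ha
    obtain ⟨b, hb, hbt⟩ := first g hn
    have hbe : b * e = e * b := hb e he
    have hge : g * e = e * g := (memC g).1 (m : C).2
    have hbge : b⁻¹ * g * e = e * (b⁻¹ * g) :=
      ((show Commute b e from hbe).inv_left.mul_left hge).eq
    have hgE : ∀ a ∈ d.E, b⁻¹ * g * a = a * (b⁻¹ * g) := by
      rcases hCt _ hbge hbt with h | h
      · exact fun a ha => d.E_comm _ h a ha
      · intro a ha
        have h1 : Commute (d.t * (d.t * (b⁻¹ * g))) a :=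
          Commute.mul_left (d.E_comm_t ha).symm (d.E_comm _ h a ha)
        rwa [htt] at h1
    rw [Subgroup.mem_centralizer_iff]
    intro x hx
    have ha : ((x : C) : G) ∈ d.E := hx
    refine Subtype.ext (Subtype.ext ?_)
    show ((x : C) : G) * g = g * ((x : C) : G)
    calc ((x : C) : G) * g = ((x : C) : G) * b * (b⁻¹ * g) := by group
      _ = b * (((x : C) : G) * (b⁻¹ * g)) := by rw [← hb _ ha]; group
      _ = b * (b⁻¹ * g * ((x : C) : G)) := by rw [hgE _ ha]
      _ = g * ((x : C) : G) := by group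
  haveI : (P₃ : Subgroup M).FiniteIndex := inferInstance
  set R := (MonoidHom.transferSylow P₃ hN3).ker with hRdef
  have hRmem : ∀ g : G, g * e = e * g → Nat.Coprime (orderOf g) 6 →
      ∃ x ∈ R, ((x : C) : G) = g := by
    intro g hge h6
    have hodd : Odd (orderOf g) :=
      Nat.coprime_two_left.1 (Nat.Coprime.coprime_dvd_left (by norm_num : 2 ∣ 6) h6.symm)
    refine ⟨⟨⟨g, (memC g).2 hge⟩, hModdmem _ hodd⟩, ?_, rfl⟩
    rw [hRdef, MonoidHom.mem_ker, ← orderOf_eq_one_iff]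
    obtain ⟨k, hk⟩ := IsPGroup.iff_orderOf.1 P₃.2
      (MonoidHom.transferSylow P₃ hN3 ⟨⟨g, (memC g).2 hge⟩, hModdmem _ hodd⟩)
    have h1 := orderOf_map_dvd (MonoidHom.transferSylow P₃ hN3)
      ⟨⟨g, (memC g).2 hge⟩, hModdmem _ hodd⟩
    have e3 : orderOf (⟨⟨g, (memC g).2 hge⟩, hModdmem _ hodd⟩ : M) = orderOf g := by
      rw [Subgroup.orderOf_mk, Subgroup.orderOf_mk]
    rw [e3, hk] at h1
    rw [hk]
    exact Nat.eq_one_of_dvd_coprimes (Nat.Coprime.pow_right k
      (Nat.Coprime.coprime_dvd_right (by norm_num : 3 ∣ 6) h6)) h1 dvd_rfl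
  have hRord : ∀ x ∈ R, Nat.Coprime (orderOf ((x : C) : G)) 6 := by
    intro x hx
    rw [show (6 : ℕ) = 2 * 3 by norm_num, Nat.coprime_mul_iff_right]
    refine ⟨(Nat.coprime_two_left.2 (hMord _ x.2)).symm, ?_⟩
    rw [Subgroup.orderOf_coe, Subgroup.orderOf_coe, Nat.coprime_comm,
      Nat.prime_three.coprime_iff_not_dvd]
    intro h3
    have h5 := orderOf_dvd_natCard (⟨x, hx⟩ : R)
    rw [Subgroup.orderOf_mk] at h5
    exact MonoidHom.not_dvd_card_ker_transferSylow P₃ hN3 (h3.trans h5)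
  let R' : Subgroup G := R.map ((C.subtype).comp M.subtype)
  have memR' : ∀ g : G, g ∈ R' ↔ (g * e = e * g ∧ Nat.Coprime (orderOf g) 6) := by
    intro g
    constructor
    · rintro ⟨x, hx, rfl⟩
      exact ⟨(memC _).1 (x : C).2, hRord x hx⟩
    · rintro ⟨hge, h6⟩
      obtain ⟨x, hx, rfl⟩ := hRmem g hge h6
      exact ⟨x, hx, rfl⟩
  have hnorm : ∀ a ∈ R', d.t * a * d.t ∈ R' := by
    intro a ha
    rw [memR'] at ha ⊢
    constructor
    · calc d.t * a * d.t * e = d.t * a * (d.t * e) := by group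
        _ = d.t * (a * e) * d.t := by rw [← d.E_comm_t he]; group
        _ = (d.t * e) * a * d.t := by rw [ha.1]; group
        _ = e * (d.t * a * d.t) := by rw [← d.E_comm_t he]; group
    · have : d.t * a * d.t = MulAut.conj d.t a := by
        rw [MulAut.conj_apply, inv_eq_self_of_sq d.t_sq]
      rw [this, MulEquiv.orderOf_eq]
      exact ha.2
  have hfix : ∀ a ∈ R', d.t * a = a * d.t → a = 1 := by
    intro a ha hat
    rw [memR'] at ha
    have hodd : Odd (orderOf a) :=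
      Nat.coprime_two_left.1 (Nat.Coprime.coprime_dvd_left (by norm_num : 2 ∣ 6) ha.2.symm)
    have hE := hOddE a ha.1 hat.symm hodd
    exact orderOf_eq_one_iff.1 (Nat.eq_one_of_dvd_coprimes
      (Nat.Coprime.coprime_dvd_right (by norm_num : 3 ∣ 6) ha.2) dvd_rfl (hEord a hE))
  intro r s hr hs hr6 hs6
  exact commute_of_inverted R' d.t_sq (inverted_of_fpf R' d.t_sq hnorm hfix) r
    ((memR' r).2 ⟨hr, hr6⟩) s ((memR' s).2 ⟨hs, hs6⟩)

include d in
/-- No element of order `3` is real. -/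
theorem Data.not_real {x g : G} (hx : x ^ 3 = 1) (hg : g * x * g⁻¹ = x⁻¹) : x = 1 := by
  haveI : Fact (Nat.Prime 3) := ⟨Nat.prime_three⟩
  have hE3 : IsPGroup 3 d.E := IsPGroup.of_card (by rw [d.cardE, d.hq])
  obtain ⟨P, hP⟩ := hE3.exists_le_sylow
  have hPE : (P : Subgroup G) = d.E := by
    refine (Subgroup.eq_of_le_of_card_ge hP ?_).symm
    obtain ⟨k, hk⟩ := IsPGroup.iff_card.1 P.2
    obtain ⟨m, hm, hm3⟩ := d.sylow
    have h1 : 3 ^ k ∣ d.q * m := by
      rw [← hm, ← hk]; exact Subgroup.card_subgroup_dvd_card _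
    have h2 : 3 ^ k ∣ d.q :=
      (Nat.Coprime.pow_left _ (Nat.prime_three.coprime_iff_not_dvd.2 hm3)).dvd_of_dvd_mul_right h1
    rw [hk, d.cardE]
    exact Nat.le_of_dvd (by have := d.q_ge; omega) h2
  by_contra hx1
  have hxP : IsPGroup 3 (Subgroup.zpowers x) := by
    refine IsPGroup.of_card (n := 1) ?_
    rw [Nat.card_zpowers, pow_one]
    exact orderOf_eq_prime hx hx1
  obtain ⟨Q, hQ⟩ := hxP.exists_le_sylow
  obtain ⟨c, hc⟩ := MulAction.exists_smul_eq G Q P
  have hxE : c * x * c⁻¹ ∈ d.E := by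
    rw [← hPE, ← hc, Sylow.coe_subgroup_smul, Subgroup.mem_pointwise_smul_iff_inv_smul_mem]
    rw [show (MulAut.conj c)⁻¹ • (c * x * c⁻¹) = x by
      simp only [MulAut.smul_def, MulAut.inv_apply, MulAut.conj_symm_apply]; group]
    exact hQ (Subgroup.mem_zpowers x)
  set e := c * x * c⁻¹ with he
  have he1 : e ≠ 1 := fun h => hx1 (by
    calc x = c⁻¹ * e * c := by rw [he]; group
      _ = 1 := by rw [h]; group)
  haveI : IsMulCommutative (P : Subgroup G) := ⟨⟨fun a b => Subtype.ext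
    (d.E_comm a (hPE ▸ a.2) b (hPE ▸ b.2))⟩⟩
  have hrev : (c * g⁻¹ * c⁻¹)⁻¹ * e * (c * g⁻¹ * c⁻¹) = e⁻¹ := by
    calc (c * g⁻¹ * c⁻¹)⁻¹ * e * (c * g⁻¹ * c⁻¹) = c * (g * x * g⁻¹) * c⁻¹ := by rw [he]; group
      _ = c * x⁻¹ * c⁻¹ := by rw [hg]
      _ = e⁻¹ := by rw [he]; group
  obtain ⟨n, hn, hne⟩ := P.conj_eq_normalizer_conj_of_mem e (c * g⁻¹ * c⁻¹)
    (show e ∈ (P : Subgroup G) by rw [hPE]; exact hxE)
    (show _ ∈ (P : Subgroup G) by rw [hrev, hPE]; exact d.E.inv_mem hxE)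
  rw [hrev] at hne
  have hn' : ∀ a ∈ d.E, n⁻¹ * a * n⁻¹⁻¹ ∈ d.E := by
    intro a ha
    replace hn : n ∈ Subgroup.normalizer ((P : Subgroup G) : Set G) := hn
    rw [hPE] at hn
    exact ((Subgroup.mem_normalizer_iff).1 (Subgroup.inv_mem _ hn) a).1 ha
  obtain ⟨b, hb, hbt⟩ := (d.cent_e hxE he1).1 n⁻¹ hn'
  have hk : (b⁻¹ * n⁻¹) * e * (b⁻¹ * n⁻¹)⁻¹ = e⁻¹ := by
    have h1 : Commute b e⁻¹ := (show Commute b e from hb e hxE).inv_right
    calc (b⁻¹ * n⁻¹) * e * (b⁻¹ * n⁻¹)⁻¹ = b⁻¹ * (n⁻¹ * e * n) * b := by group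
      _ = b⁻¹ * (e⁻¹ * b) := by rw [← hne]; group
      _ = e⁻¹ := by rw [← h1.eq]; group
  rcases d.K_cent _ hbt with h | h
  · exact d.E_notReal e hxE he1 _ h hk
  · refine d.E_notReal e hxE he1 _ h ?_
    calc d.t * (b⁻¹ * n⁻¹) * e * (d.t * (b⁻¹ * n⁻¹))⁻¹
        = d.t * ((b⁻¹ * n⁻¹) * e * (b⁻¹ * n⁻¹)⁻¹) * d.t⁻¹ := by group
      _ = d.t * e⁻¹ * d.t⁻¹ := by rw [hk]
      _ = e⁻¹ := by
        rw [← d.E_comm_t (d.E.inv_mem hxE), mul_inv_cancel_right]

/-- An element of order `3` normalising `⟨t, v⟩` and centralising a conjugate of `t`. -/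
theorem Data.exists_cycle : ∃ y w x h : G, y ^ 3 = 1 ∧ y ≠ 1 ∧ (x = d.v ∨ x = d.t * d.v) ∧
    y * d.t * y⁻¹ = x ∧ y * x * y⁻¹ = d.t * x ∧ y * w = w * y ∧ h * d.t * h⁻¹ = w ∧
    (∀ z ∈ d.T, w * z * w = z⁻¹) := by
  have htt : ∀ g : G, d.t * (d.t * g) = g := fun g => by rw [← mul_assoc, d.t_sq, one_mul]
  have hvv : ∀ g : G, d.v * (d.v * g) = g := fun g => by rw [← mul_assoc, d.v_sq, one_mul]
  have hii : ∀ g : G, d.i * (d.i * g) = g := fun g => by rw [← mul_assoc, d.i_sq, one_mul]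
  have hvi : d.v * d.i = d.i * d.v := d.i_comm.symm
  have hvi' : ∀ g : G, d.v * (d.i * g) = d.i * (d.v * g) := fun g => by
    rw [← mul_assoc, hvi, mul_assoc]
  haveI : Fact (Nat.Prime 2) := ⟨Nat.prime_two⟩
  -- the four group `U` of `K`
  let U : Subgroup G :=
    { carrier := {g | g = 1 ∨ g = d.v ∨ g = d.i ∨ g = d.i * d.v}
      one_mem' := Or.inl rfl
      mul_mem' := by
        rintro a b (rfl | rfl | rfl | rfl) (rfl | rfl | rfl | rfl) <;>
          simp only [Set.mem_setOf_eq, one_mul, mul_one, mul_assoc, d.v_sq, d.i_sq, hvi, hvv,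
            hii, hvi', true_or, or_true]
      inv_mem' := by
        rintro a (rfl | rfl | rfl | rfl) <;>
          simp only [Set.mem_setOf_eq, inv_one, mul_inv_rev, inv_eq_self_of_sq d.v_sq,
            inv_eq_self_of_sq d.i_sq, hvi, true_or, or_true] }
  have memU : ∀ g, g ∈ U ↔ g = 1 ∨ g = d.v ∨ g = d.i ∨ g = d.i * d.v := fun g => Iff.rfl
  have hUK : U ≤ d.K := by
    intro g hg
    rcases (memU g).1 hg with rfl | rfl | rfl | rfl
    exacts [d.K.one_mem, d.v_mem, d.i_mem, d.K.mul_mem d.i_mem d.v_mem]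
  have hUcomm : ∀ a ∈ U, ∀ b ∈ U, a * b = b * a := by
    intro a ha b hb
    rcases (memU a).1 ha with rfl | rfl | rfl | rfl <;>
      rcases (memU b).1 hb with rfl | rfl | rfl | rfl <;>
        simp only [one_mul, mul_one, mul_assoc, hvi, hvi', hvv, hii, d.v_sq, d.i_sq]
  have hU2 : ∀ a ∈ U, a * a = 1 := by
    intro a ha
    rcases (memU a).1 ha with rfl | rfl | rfl | rfl <;>
      simp only [one_mul, mul_assoc, hvi', hii, d.v_sq, d.i_sq]
  have hUcard : Nat.card U = 4 := by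
    have : (U : Set G) = {1, d.v, d.i, d.i * d.v} := by
      ext g; simp [memU]
    have hne1 : d.i * d.v ≠ 1 := fun h => d.i_ne (by
      rw [← mul_one d.v, ← h, hvi', d.v_sq, mul_one])
    rw [← SetLike.coe_sort_coe, this, Nat.card_coe_set_eq]
    rw [Set.ncard_insert_of_notMem, Set.ncard_insert_of_notMem, Set.ncard_pair]
    · intro h; exact d.v_ne_one (mul_eq_left.1 h.symm)
    · simp only [Set.mem_insert_iff, Set.mem_singleton_iff, not_or]
      exact ⟨d.i_ne.symm, fun h => d.i_ne_one (mul_eq_right.1 h.symm)⟩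
    · simp only [Set.mem_insert_iff, Set.mem_singleton_iff, not_or]
      exact ⟨d.v_ne_one.symm, d.i_ne_one.symm, hne1.symm⟩
  have hUfix : ∀ g ∈ d.K, (∀ a ∈ U, g * a = a * g) → g ∈ U := by
    intro g hg hc
    have hgi := hc d.i ((memU _).2 (Or.inr (Or.inr (Or.inl rfl))))
    have key : ∀ s ∈ U, s * g ∈ d.T → g ∈ U := by
      intro s hs hsg
      have h1 : d.i * (s * g) * d.i⁻¹ = s * g := by
        calc d.i * (s * g) * d.i⁻¹ = (d.i * s) * g * d.i⁻¹ := by group
          _ = s * (d.i * g) * d.i⁻¹ := by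
            rw [hUcomm _ ((memU _).2 (Or.inr (Or.inr (Or.inl rfl)))) s hs]; group
          _ = s * g := by rw [← hgi]; group
      have h2 := d.i_inv _ hsg
      rw [h1] at h2
      have h3 : s * g = 1 := d.T_sq_eq_one hsg (eq_inv_iff_mul_eq_one.1 h2)
      rw [eq_inv_of_mul_eq_one_right h3]
      exact U.inv_mem hs
    rcases d.v_centK g hg (hc d.v ((memU _).2 (Or.inr (Or.inl rfl)))) with h | h | h | h
    · exact key 1 U.one_mem (by rwa [one_mul])
    · exact key _ ((memU _).2 (Or.inr (Or.inl rfl))) h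
    · exact key _ ((memU _).2 (Or.inr (Or.inr (Or.inl rfl)))) h
    · exact key _ ((memU _).2 (Or.inr (Or.inr (Or.inr rfl)))) h
  -- the Sylow `2`-subgroup `S = ⟨t⟩ × U`
  have htU : ∀ a ∈ U, a * d.t = d.t * a := fun a ha => d.K_comm a (hUK ha)
  let S : Subgroup G :=
    { carrier := {g | g ∈ U ∨ d.t * g ∈ U}
      one_mem' := Or.inl U.one_mem
      mul_mem' := by
        intro a b ha hb
        rcases ha with ha | ha <;> rcases hb with hb | hb
        · exact Or.inl (U.mul_mem ha hb)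
        · refine Or.inr ?_
          rw [← mul_assoc, ← htU a ha, mul_assoc]
          exact U.mul_mem ha hb
        · refine Or.inr ?_
          rw [← mul_assoc]
          exact U.mul_mem ha hb
        · refine Or.inl ?_
          have : a * b = (d.t * a) * (d.t * b) := by
            calc a * b = d.t * d.t * a * b := by rw [d.t_sq, one_mul]
              _ = d.t * ((d.t * a) * b) := by group
              _ = d.t * (d.t * a) * b := by group
              _ = (d.t * a) * d.t * b := by rw [htU _ ha]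
              _ = (d.t * a) * (d.t * b) := by group
          rw [this]
          exact U.mul_mem ha hb
      inv_mem' := by
        intro a ha
        rcases ha with ha | ha
        · exact Or.inl (U.inv_mem ha)
        · refine Or.inr ?_
          have h1 : (d.t * a)⁻¹ = d.t * a⁻¹ := by
            have h2 : Commute (d.t * a) d.t := htU _ ha
            have h3 : Commute a⁻¹ d.t := by
              have := ((h2.inv_left).mul_left (Commute.refl d.t))
              rwa [mul_inv_rev, inv_eq_self_of_sq d.t_sq, mul_assoc, d.t_sq, mul_one] at this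
            rw [mul_inv_rev, inv_eq_self_of_sq d.t_sq, h3.eq]
          rw [← h1]
          exact U.inv_mem ha }
  have memS : ∀ g, g ∈ S ↔ g ∈ U ∨ d.t * g ∈ U := fun g => Iff.rfl
  have htS : d.t ∈ S := (memS _).2 (Or.inr (by rw [d.t_sq]; exact U.one_mem))
  have hUS : U ≤ S := fun g hg => (memS g).2 (Or.inl hg)
  have hSdec : ∀ g ∈ S, ∃ a ∈ U, g = a ∨ g = d.t * a := by
    intro g hg
    rcases (memS g).1 hg with h | h
    · exact ⟨g, h, Or.inl rfl⟩
    · exact ⟨_, h, Or.inr (htt g).symm⟩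
  have hScomm : ∀ a ∈ S, ∀ b ∈ S, a * b = b * a := by
    intro a ha b hb
    obtain ⟨a', ha', ha''⟩ := hSdec a ha
    obtain ⟨b', hb', hb''⟩ := hSdec b hb
    have h1 : Commute a' b' := hUcomm a' ha' b' hb'
    have h2 : Commute a' d.t := htU a' ha'
    have h3 : Commute b' d.t := htU b' hb'
    rcases ha'' with rfl | rfl <;> rcases hb'' with rfl | rfl
    exacts [h1.eq, (h2.mul_right h1).eq, (h3.symm.mul_left h1).eq,
      (((Commute.refl d.t).mul_right h3.symm).mul_left (h2.mul_right h1)).eq]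
  have hScard : Nat.card S = 8 := by
    rw [TwistAux.card_double d.t_sq (fun h => d.htK (hUK h)) memS, hUcard]
  have hS2 : IsPGroup 2 S := IsPGroup.of_card (n := 3) hScard
  obtain ⟨P, hP⟩ := hS2.exists_le_sylow
  have hPS : (P : Subgroup G) = S := by
    refine (Subgroup.eq_of_le_of_card_ge hP ?_).symm
    obtain ⟨k, hk⟩ := IsPGroup.iff_card.1 P.2
    obtain ⟨m, hmo, hm⟩ := d.card_two
    have h1 : 2 ^ k ∣ 8 * m := by rw [← hm, ← hk]; exact Subgroup.card_subgroup_dvd_card _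
    have h2 : 2 ^ k ∣ 8 :=
      (Nat.Coprime.pow_left _ (TwistAux.coprime_two_of_odd hmo)).dvd_of_dvd_mul_right h1
    rw [hk, hScard]
    exact Nat.le_of_dvd (by norm_num) h2
  have hU2' : IsPGroup 2 (U.subgroupOf d.K) := by
    refine IsPGroup.of_card (n := 2) ?_
    rw [Nat.card_congr (Subgroup.subgroupOfEquivOfLe hUK).toEquiv, hUcard]
    norm_num
  obtain ⟨PK, hPK⟩ := hU2'.exists_le_sylow
  have hPKU : (PK : Subgroup d.K) = U.subgroupOf d.K := by
    refine (Subgroup.eq_of_le_of_card_ge hPK ?_).symm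
    obtain ⟨k, hk⟩ := IsPGroup.iff_card.1 PK.2
    obtain ⟨m, hmo, hm⟩ := d.cardK_two
    have h1 : 2 ^ k ∣ 4 * m := by rw [← hm, ← hk]; exact Subgroup.card_subgroup_dvd_card _
    have h2 : 2 ^ k ∣ 4 :=
      (Nat.Coprime.pow_left _ (TwistAux.coprime_two_of_odd hmo)).dvd_of_dvd_mul_right h1
    rw [hk, Nat.card_congr (Subgroup.subgroupOfEquivOfLe hUK).toEquiv, hUcard]
    exact Nat.le_of_dvd (by norm_num) h2
  -- `K` is simple, so `N_K(U)` moves `v`
  obtain ⟨F, _, _, hF, ⟨φ⟩⟩ := d.equiv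
  haveI hKs : IsSimpleGroup d.K := by
    haveI := Lib.LinGroup.isSimpleGroup_PSL_fin (F := F) (n := 2) le_rfl
      (fun _ => by rw [Nat.card_eq_fintype_card, hF]; have := d.q_ge; omega)
    haveI : Nontrivial d.K := φ.toEquiv.nontrivial
    exact IsSimpleGroup.isSimpleGroup_of_surjective φ.symm.toMonoidHom φ.symm.surjective
  have hKna : ¬ IsMulCommutative d.K := by
    intro h
    haveI := h
    have hp : (Nat.card d.K).Prime := by
      open scoped IsMulCommutative in exact IsSimpleGroup.prime_card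
    obtain ⟨m, -, hm⟩ := d.cardK_two
    rw [hm] at hp
    refine Nat.not_prime_mul (by norm_num) ?_ hp
    rintro rfl
    have h4 := d.cardK
    rw [hm] at h4
    have := d.q_ge
    have h5 : d.q * 1 * (d.q + 1) ≤ d.q * d.c * (d.q + 1) :=
      Nat.mul_le_mul_right _ (Nat.mul_le_mul_left _ d.tw_c_odd.pos)
    nlinarith
  haveI : IsMulCommutative (PK : Subgroup d.K) := ⟨⟨fun a b => Subtype.ext (Subtype.ext
    (hUcomm _ (Subgroup.mem_subgroupOf.1 (hPKU ▸ a.2)) _
      (Subgroup.mem_subgroupOf.1 (hPKU ▸ b.2))))⟩⟩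
  obtain ⟨k, hkK, hkU, hkv⟩ : ∃ k : G, k ∈ d.K ∧ (∀ a ∈ U, k * a * k⁻¹ ∈ U) ∧
      k * d.v ≠ d.v * k := by
    by_contra hne
    push Not at hne
    have h1 := TwistAux.eq_one_of_fixed hKna PK (x := ⟨d.v, d.v_mem⟩)
      (by rw [hPKU]; exact (memU _).2 (Or.inr (Or.inl rfl))) (by
        intro n hn
        rw [hPKU] at hn
        refine Subtype.ext (hne n n.2 fun a ha => ?_)
        exact ((Subgroup.mem_normalizer_iff).1 hn ⟨a, hUK ha⟩).1 ha)
    exact d.v_ne_one (congrArg Subtype.val h1)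
  obtain ⟨a, haU, hka⟩ : ∃ a ∈ U, k * d.v * k⁻¹ = a :=
    ⟨_, hkU _ ((memU _).2 (Or.inr (Or.inl rfl))), rfl⟩
  have hvU : d.v ∈ U := (memU _).2 (Or.inr (Or.inl rfl))
  have hav : a ≠ d.v := fun h => hkv (by
    calc k * d.v = k * d.v * k⁻¹ * k := by group
      _ = d.v * k := by rw [hka, h])
  have ha1 : a ≠ 1 := fun h => d.v_ne_one (by
    calc d.v = k⁻¹ * (k * d.v * k⁻¹) * k := by group
      _ = 1 := by rw [hka, h]; group)
  have hUall : ∀ g ∈ U, g = 1 ∨ g = d.v ∨ g = a ∨ g = d.v * a := by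
    intro g hg
    rcases (memU g).1 hg with rfl | rfl | rfl | rfl <;>
      rcases (memU a).1 haU with h | h | h | h
    all_goals first
      | exact absurd h ha1
      | exact absurd h hav
      | (subst h; simp only [hvi', hvi, hvv, d.v_sq, mul_one, true_or, or_true])
  obtain ⟨b, hbU, hkb⟩ : ∃ b ∈ U, k * a * k⁻¹ = b := ⟨_, hkU _ haU, rfl⟩
  have hba : b ≠ a := fun h => hav (by
    calc a = k⁻¹ * (k * a * k⁻¹) * k := by group
      _ = k⁻¹ * (k * d.v * k⁻¹) * k := by rw [hkb, h, hka]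
      _ = d.v := by group)
  have hb1 : b ≠ 1 := fun h => ha1 (by
    calc a = k⁻¹ * (k * a * k⁻¹) * k := by group
      _ = 1 := by rw [hkb, h]; group)
  have hbv : b ≠ d.v := by
    intro hb
    have hk2 : ∀ g ∈ U, k * k * g = g * (k * k) := by
      intro g hg
      have h1 : Commute (k * k) d.v := by
        have : k * k * d.v * (k * k)⁻¹ = d.v := by
          calc k * k * d.v * (k * k)⁻¹ = k * (k * d.v * k⁻¹) * k⁻¹ := by group
            _ = d.v := by rw [hka, hkb, hb]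
        exact mul_inv_eq_iff_eq_mul.1 this
      have h2 : Commute (k * k) a := by
        have : k * k * a * (k * k)⁻¹ = a := by
          calc k * k * a * (k * k)⁻¹ = k * (k * a * k⁻¹) * k⁻¹ := by group
            _ = a := by rw [hkb, hb, hka]
        exact mul_inv_eq_iff_eq_mul.1 this
      rcases hUall g hg with rfl | rfl | rfl | rfl
      exacts [(Commute.one_right _).eq, h1.eq, h2.eq, (h1.mul_right h2).eq]
    have hkk : k * k ∈ U := hUfix _ (d.K.mul_mem hkK hkK) hk2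
    have hk4 : (⟨k, hkK⟩ : d.K) ^ (4 : ℕ) = 1 := by
      refine Subtype.ext ?_
      show k ^ 4 = 1
      rw [show (4 : ℕ) = 2 * 2 from rfl, pow_mul, pow_two, pow_two]
      exact hU2 _ hkk
    have hZ : IsPGroup 2 (Subgroup.zpowers (⟨k, hkK⟩ : d.K)) := by
      obtain ⟨j, -, hj⟩ := (Nat.dvd_prime_pow Nat.prime_two).1
        (show orderOf (⟨k, hkK⟩ : d.K) ∣ 2 ^ 2 from orderOf_dvd_of_pow_eq_one hk4)
      exact IsPGroup.of_card (n := j) (by rw [Nat.card_zpowers, hj])
    have hle : Subgroup.zpowers (⟨k, hkK⟩ : d.K) ≤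
        Subgroup.normalizer ((U.subgroupOf d.K : Subgroup d.K) : Set d.K) := by
      rw [Subgroup.zpowers_le]
      exact Subgroup.mem_normalizer_fintype fun g hg => hkU _ hg
    have hsup := hZ.to_sup_of_normal_right' hU2' hle
    have heq := PK.3 hsup (by rw [hPKU]; exact le_sup_right)
    have hkmem : (⟨k, hkK⟩ : d.K) ∈ (PK : Subgroup d.K) := by
      rw [← heq]; exact Subgroup.mem_sup_left (Subgroup.mem_zpowers _)
    rw [hPKU] at hkmem
    exact hkv (hUcomm _ hkmem _ hvU)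
  have hb : b = d.v * a := by
    rcases hUall b hbU with h | h | h | h
    · exact absurd h hb1
    · exact absurd h hbv
    · exact absurd h hba
    · exact h
  have hkva : k * (d.v * a) * k⁻¹ = d.v := by
    calc k * (d.v * a) * k⁻¹ = (k * d.v * k⁻¹) * (k * a * k⁻¹) := by group
      _ = a * (d.v * a) := by rw [hka, hkb, hb]
      _ = d.v * (a * a) := by rw [← mul_assoc, hUcomm a haU d.v hvU, mul_assoc]
      _ = d.v := by rw [hU2 a haU, mul_one]
  have hk3 : k ^ 3 ∈ U := by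
    refine hUfix _ (pow_mem hkK 3) ?_
    have h1 : Commute (k ^ 3) d.v := mul_inv_eq_iff_eq_mul.1 (by
      calc k ^ 3 * d.v * (k ^ 3)⁻¹ = k * (k * (k * d.v * k⁻¹) * k⁻¹) * k⁻¹ := by simp only [pow_succ, pow_zero, one_mul]; group
        _ = d.v := by rw [hka, hkb, hb, hkva])
    have h2 : Commute (k ^ 3) a := mul_inv_eq_iff_eq_mul.1 (by
      calc k ^ 3 * a * (k ^ 3)⁻¹ = k * (k * (k * a * k⁻¹) * k⁻¹) * k⁻¹ := by simp only [pow_succ, pow_zero, one_mul]; group
        _ = a := by rw [hkb, hb, hkva, hka])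
    intro g hg
    rcases hUall g hg with rfl | rfl | rfl | rfl
    exacts [(Commute.one_right _).eq, h1.eq, h2.eq, (h1.mul_right h2).eq]
  -- `k₀ = k ^ 4` has order `3`
  obtain ⟨k₀, hk₀K, hk₀3, hk₀v, hk₀a, hk₀b, hk₀1⟩ : ∃ k₀ : G, k₀ ∈ d.K ∧ k₀ ^ 3 = 1 ∧
      k₀ * d.v * k₀⁻¹ = a ∧ k₀ * a * k₀⁻¹ = d.v * a ∧ k₀ * (d.v * a) * k₀⁻¹ = d.v ∧ k₀ ≠ 1 := by
    have hconj : ∀ g ∈ U, k ^ 4 * g * (k ^ 4)⁻¹ = k * g * k⁻¹ := by
      intro g hg
      have := hUcomm _ hk3 _ (hkU g hg)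
      calc k ^ 4 * g * (k ^ 4)⁻¹ = k ^ 3 * (k * g * k⁻¹) * (k ^ 3)⁻¹ := by group
        _ = k * g * k⁻¹ := by rw [this, mul_inv_cancel_right]
    refine ⟨k ^ 4, pow_mem hkK 4, ?_, ?_, ?_, ?_, fun h => hav ?_⟩
    · rw [← pow_mul, show 4 * 3 = 3 * (2 * 2) from rfl, pow_mul, pow_mul, pow_two (k ^ 3),
        hU2 _ hk3, one_pow]
    · rw [hconj _ hvU, hka]
    · rw [hconj _ haU, hkb, hb]
    · rw [hconj _ (U.mul_mem hvU haU), hkva]
    · rw [← hka, ← hconj _ hvU, h]; group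
  have hk₀t : k₀ * d.t = d.t * k₀ := d.K_comm _ hk₀K
  have hk₀U : ∀ g ∈ U, k₀ * g * k₀⁻¹ ∈ U := by
    intro g hg
    rcases hUall g hg with rfl | rfl | rfl | rfl
    · simp
    · rw [hk₀v]; exact haU
    · rw [hk₀a]; exact U.mul_mem hvU haU
    · rw [hk₀b]; exact hvU
  have hk₀tu : ∀ g : G, k₀ * (d.t * g) * k₀⁻¹ = d.t * (k₀ * g * k₀⁻¹) := fun g => by
    rw [← mul_assoc, hk₀t]; group
  have hNS : ∀ n : G, n ∈ Subgroup.normalizer (S : Set G) ↔ ∀ g ∈ S, n * g * n⁻¹ ∈ S :=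
    fun n => ⟨fun h g hg => ((Subgroup.mem_normalizer_iff).1 h g).1 hg,
      fun h => Subgroup.mem_normalizer_fintype h⟩
  have hk₀N : k₀ ∈ Subgroup.normalizer (S : Set G) := by
    rw [hNS]
    intro g hg
    obtain ⟨u, hu, rfl | rfl⟩ := hSdec g hg
    · exact hUS (hk₀U _ hu)
    · rw [hk₀tu]
      exact S.mul_mem htS (hUS (hk₀U u hu))
  have hCS : ∀ g : G, (∀ s ∈ S, g * s = s * g) → g ∈ S := by
    intro g hg
    rcases d.K_cent g (hg _ htS) with h | h
    · exact hUS (hUfix g h fun s hs => hg s (hUS hs))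
    · refine (memS g).2 (Or.inr (hUfix _ h fun s hs => ?_))
      exact ((show Commute d.t s from (htU s hs).symm).mul_left (hg s (hUS hs))).eq
  -- `N(S)` moves `t` into `U`
  obtain ⟨n, hn, hnt⟩ : ∃ n ∈ Subgroup.normalizer (S : Set G), n * d.t * n⁻¹ ∈ U := by
    by_contra hne
    push Not at hne
    have himg : ∀ n ∈ Subgroup.normalizer (S : Set G), ∃ u ∈ U, n * d.t * n⁻¹ = d.t * u := by
      intro n hn
      obtain ⟨u, hu, h | h⟩ := hSdec _ ((hNS n).1 hn _ htS)
      · exact absurd (h ▸ hu) (hne n hn)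
      · exact ⟨u, hu, h⟩
    obtain ⟨n₁, hn₁, hn₁t⟩ : ∃ n ∈ Subgroup.normalizer (S : Set G), n * d.t ≠ d.t * n := by
      by_contra hfx
      push Not at hfx
      haveI := d.simple
      haveI : IsMulCommutative (P : Subgroup G) := ⟨⟨fun a b => Subtype.ext
        (hScomm _ (hPS ▸ a.2) _ (hPS ▸ b.2))⟩⟩
      exact d.t_ne_one (TwistAux.eq_one_of_fixed d.nonabelian P (hPS ▸ htS)
        (by rw [hPS]; exact hfx))
    obtain ⟨u₁, hu₁, hn₁u⟩ := himg n₁ hn₁
    have hu₁1 : u₁ ≠ 1 := fun h => hn₁t (by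
      rw [h, mul_one] at hn₁u
      exact mul_inv_eq_iff_eq_mul.1 hn₁u)
    -- all of `t U` are conjugates of `t`
    have step : ∀ h u, h ∈ Subgroup.normalizer (S : Set G) → h * d.t * h⁻¹ = d.t * u →
        k₀ * h ∈ Subgroup.normalizer (S : Set G) ∧
          (k₀ * h) * d.t * (k₀ * h)⁻¹ = d.t * (k₀ * u * k₀⁻¹) := by
      intro h u hh he
      refine ⟨mul_mem hk₀N hh, ?_⟩
      calc (k₀ * h) * d.t * (k₀ * h)⁻¹ = k₀ * (h * d.t * h⁻¹) * k₀⁻¹ := by group
        _ = d.t * (k₀ * u * k₀⁻¹) := by rw [he, hk₀tu]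
    have hall : ∀ u ∈ U, ∃ h ∈ Subgroup.normalizer (S : Set G), h * d.t * h⁻¹ = d.t * u := by
      obtain ⟨s1, s2⟩ := step _ _ hn₁ hn₁u
      obtain ⟨r1, r2⟩ := step _ _ s1 s2
      have hone : ∃ h ∈ Subgroup.normalizer (S : Set G), h * d.t * h⁻¹ = d.t * 1 :=
        ⟨1, one_mem _, by group⟩
      intro u hu
      rcases hUall u₁ hu₁ with rfl | rfl | rfl | rfl
      · exact absurd rfl hu₁1
      all_goals simp only [hk₀v, hk₀a, hk₀b] at s2 r2
      all_goals rcases hUall u hu with rfl | rfl | rfl | rfl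
      all_goals first
        | exact hone
        | exact ⟨_, hn₁, hn₁u⟩
        | exact ⟨_, s1, s2⟩
        | exact ⟨_, r1, r2⟩
    have hpres : ∀ m ∈ Subgroup.normalizer (S : Set G), ∀ u ∈ U, m * u * m⁻¹ ∈ U := by
      intro m hm u hu
      obtain ⟨h, hh, he⟩ := hall u hu
      obtain ⟨u', hu', he'⟩ := himg (m * h) (mul_mem hm hh)
      obtain ⟨u'', hu'', he''⟩ := himg m hm
      have h5 : m * u * m⁻¹ = (d.t * u'') * (d.t * u') := by
        rw [← he'', ← he']
        calc m * u * m⁻¹ = m * (d.t * (d.t * u)) * m⁻¹ := by rw [htt]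
          _ = (m * d.t * m⁻¹) * (m * (h * d.t * h⁻¹) * m⁻¹) := by rw [he]; group
          _ = _ := by group
      rw [h5, show d.t * u'' * (d.t * u') = d.t * (u'' * d.t) * u' by group, htU u'' hu'', htt]
      exact U.mul_mem hu'' hu'
    -- an element fixing `v` and moving `t`
    obtain ⟨m, hm, hmv, hmt⟩ : ∃ m ∈ Subgroup.normalizer (S : Set G),
        m * d.v * m⁻¹ = d.v ∧ m * d.t ≠ d.t * m := by
      have hk' : ∀ g, g * d.t ≠ d.t * g → k₀ * g * d.t ≠ d.t * (k₀ * g) := by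
        intro g hg h
        refine hg (mul_left_cancel (a := k₀) ?_)
        calc k₀ * (g * d.t) = k₀ * g * d.t := by group
          _ = d.t * (k₀ * g) := h
          _ = (d.t * k₀) * g := by group
          _ = (k₀ * d.t) * g := by rw [hk₀t]
          _ = k₀ * (d.t * g) := by group
      rcases hUall _ (hpres n₁ hn₁ d.v hvU) with h | h | h | h
      · refine absurd ?_ d.v_ne_one
        calc d.v = n₁⁻¹ * (n₁ * d.v * n₁⁻¹) * n₁ := by group
          _ = 1 := by rw [h]; group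
      · exact ⟨n₁, hn₁, h, hn₁t⟩
      · refine ⟨k₀ * (k₀ * n₁), mul_mem hk₀N (mul_mem hk₀N hn₁), ?_, hk' _ (hk' _ hn₁t)⟩
        calc k₀ * (k₀ * n₁) * d.v * (k₀ * (k₀ * n₁))⁻¹
            = k₀ * (k₀ * (n₁ * d.v * n₁⁻¹) * k₀⁻¹) * k₀⁻¹ := by group
          _ = d.v := by rw [h, hk₀a, hk₀b]
      · refine ⟨k₀ * n₁, mul_mem hk₀N hn₁, ?_, hk' _ hn₁t⟩
        calc k₀ * n₁ * d.v * (k₀ * n₁)⁻¹ = k₀ * (n₁ * d.v * n₁⁻¹) * k₀⁻¹ := by group
          _ = d.v := by rw [h, hk₀b]
    -- `m` is a `2`-element modulo `C(S)`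
    have hmv' : Commute m d.v := mul_inv_eq_iff_eq_mul.1 hmv
    have hm2 : ∀ u ∈ U, Commute (m ^ 2) u := by
      have hma : Commute (m ^ 2) a := by
        rcases hUall _ (hpres m hm a haU) with h | h | h | h
        · exact absurd (conj_eq_one_iff.1 h) ha1
        · refine absurd ?_ hav
          calc a = m⁻¹ * (m * a * m⁻¹) * m := by group
            _ = m⁻¹ * (m * d.v * m⁻¹) * m := by rw [h, hmv]
            _ = d.v := by group
        · exact (show Commute m a from mul_inv_eq_iff_eq_mul.1 h).pow_left 2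
        · refine mul_inv_eq_iff_eq_mul.1 ?_
          calc m ^ 2 * a * (m ^ 2)⁻¹ = m * (m * a * m⁻¹) * m⁻¹ := by simp only [pow_succ, pow_zero, one_mul]; group
            _ = m * (d.v * a) * m⁻¹ := by rw [h]
            _ = (m * d.v * m⁻¹) * (m * a * m⁻¹) := by group
            _ = d.v * (d.v * a) := by rw [hmv, h]
            _ = a := hvv a
      intro u hu
      rcases hUall u hu with rfl | rfl | rfl | rfl
      exacts [Commute.one_right _, hmv'.pow_left 2, hma, (hmv'.pow_left 2).mul_right hma]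
    obtain ⟨u, hu, hmtu⟩ := himg (m ^ 2) (pow_mem hm 2)
    have hm4 : m ^ 4 ∈ S := by
      refine hCS _ fun s hs => ?_
      have h4t : Commute (m ^ 4) d.t := mul_inv_eq_iff_eq_mul.1 (by
        calc m ^ 4 * d.t * (m ^ 4)⁻¹ = m ^ 2 * (m ^ 2 * d.t * (m ^ 2)⁻¹) * (m ^ 2)⁻¹ := by group
          _ = m ^ 2 * (d.t * u) * (m ^ 2)⁻¹ := by rw [hmtu]
          _ = (m ^ 2 * d.t * (m ^ 2)⁻¹) * (m ^ 2 * u * (m ^ 2)⁻¹) := by group
          _ = d.t * u * u := by rw [hmtu, (hm2 u hu).eq, mul_inv_cancel_right]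
          _ = d.t := by rw [mul_assoc, hU2 u hu, mul_one])
      have h4U : ∀ u ∈ U, Commute (m ^ 4) u := fun u hu => by
        rw [show m ^ 4 = (m ^ 2) ^ 2 by rw [← pow_mul]]
        exact (hm2 u hu).pow_left 2
      obtain ⟨u', hu', rfl | rfl⟩ := hSdec s hs
      exacts [(h4U _ hu').eq, (h4t.mul_right (h4U _ hu')).eq]
    have hm8 : m ^ 8 = 1 := by
      obtain ⟨u', hu', h | h⟩ := hSdec _ hm4
      · rw [show 8 = 4 * 2 from rfl, pow_mul, pow_two, h, hU2 u' hu']
      · rw [show 8 = 4 * 2 from rfl, pow_mul, pow_two, h,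
          show d.t * u' * (d.t * u') = d.t * (u' * d.t) * u' by group, htU u' hu', htt,
          hU2 u' hu']
    have hZ : IsPGroup 2 (Subgroup.zpowers m) := by
      obtain ⟨j, -, hj⟩ := (Nat.dvd_prime_pow Nat.prime_two).1
        (show orderOf m ∣ 2 ^ 3 from orderOf_dvd_of_pow_eq_one hm8)
      exact IsPGroup.of_card (n := j) (by rw [Nat.card_zpowers, hj])
    have hsup := hZ.to_sup_of_normal_right' hS2 (by rw [Subgroup.zpowers_le]; exact hm)
    have heq := P.3 hsup (by rw [hPS]; exact le_sup_right)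
    have hmS : m ∈ S := by
      rw [← hPS, ← heq]; exact Subgroup.mem_sup_left (Subgroup.mem_zpowers _)
    exact hmt (hScomm m hmS _ htS)
  -- transport `k₀` by `n`
  obtain ⟨u₀, hu₀, hnu₀⟩ : ∃ u₀ ∈ U, n * d.t * n⁻¹ = u₀ := ⟨_, hnt, rfl⟩
  have hninv : n⁻¹ ∈ Subgroup.normalizer (S : Set G) := inv_mem hn
  set y₁ := n⁻¹ * k₀ * n with hy₁
  set w₁ := n⁻¹ * d.t * n with hw₁
  have hy₁conj : ∀ g : G, y₁ * g * y₁⁻¹ = n⁻¹ * (k₀ * (n * g * n⁻¹) * k₀⁻¹) * n := fun g => by
    rw [hy₁]; group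
  have hk₀uu : ∀ u ∈ U, k₀ * (k₀ * u * k₀⁻¹) * k₀⁻¹ = u * (k₀ * u * k₀⁻¹) := by
    intro u hu
    rcases hUall u hu with h | h | h | h <;> rw [h]
    · group
    · rw [hk₀v, hk₀a]
    · rw [hk₀a, hk₀b, ← mul_assoc, hUcomm _ haU _ hvU, mul_assoc, hU2 a haU, mul_one]
    · rw [hk₀b, hk₀v, mul_assoc, hUcomm a haU _ hvU, hvv]
  have hx₁ : y₁ * d.t * y₁⁻¹ = n⁻¹ * (k₀ * u₀ * k₀⁻¹) * n := by rw [hy₁conj, hnu₀]
  have hx₂ : y₁ * (y₁ * d.t * y₁⁻¹) * y₁⁻¹ = d.t * (y₁ * d.t * y₁⁻¹) := by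
    rw [hx₁, hy₁conj,
      show n * (n⁻¹ * (k₀ * u₀ * k₀⁻¹) * n) * n⁻¹ = k₀ * u₀ * k₀⁻¹ by group,
      hk₀uu u₀ hu₀, ← hnu₀]
    group
  have hu₀1 : u₀ ≠ 1 := fun h => d.t_ne_one (by rwa [← hnu₀, conj_eq_one_iff] at h)
  have hy₁1 : y₁ ≠ 1 := fun h => hk₀1 (by
    calc k₀ = n * y₁ * n⁻¹ := by rw [hy₁]; group
      _ = 1 := by rw [h]; group)
  have hy₁3 : y₁ ^ 3 = 1 := by
    calc y₁ ^ 3 = n⁻¹ * k₀ ^ 3 * n := by rw [hy₁]; simp only [pow_succ, pow_zero, one_mul]; group
      _ = 1 := by rw [hk₀3]; group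
  have hyw : y₁ * w₁ = w₁ * y₁ := by
    rw [hy₁, hw₁]
    calc n⁻¹ * k₀ * n * (n⁻¹ * d.t * n) = n⁻¹ * (k₀ * d.t) * n := by group
      _ = n⁻¹ * (d.t * k₀) * n := by rw [hk₀t]
      _ = n⁻¹ * d.t * n * (n⁻¹ * k₀ * n) := by group
  have hw₁S : w₁ ∈ S := by
    have := (hNS n⁻¹).1 hninv _ htS
    rwa [inv_inv] at this
  have hx₁S : y₁ * d.t * y₁⁻¹ ∈ S := by
    rw [hx₁]
    have := (hNS n⁻¹).1 hninv _ (hUS (hk₀U u₀ hu₀))
    rwa [inv_inv] at this
  -- `w₁` lies outside `⟨t, x₁⟩ = n⁻¹ U n`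
  have hw₁out : w₁ ≠ 1 ∧ w₁ ≠ d.t ∧ w₁ ≠ y₁ * d.t * y₁⁻¹ ∧
      w₁ ≠ d.t * (y₁ * d.t * y₁⁻¹) := by
    have key : ∀ g ∈ U, w₁ ≠ n⁻¹ * g * n := by
      intro g hg h
      refine d.htK (hUK ?_)
      rw [hw₁] at h
      rwa [mul_left_cancel (mul_right_cancel h)]
    refine ⟨?_, ?_, ?_, ?_⟩
    · intro h; exact key 1 U.one_mem (by rw [h]; group)
    · intro h; exact key u₀ hu₀ (by rw [h, ← hnu₀]; group)
    · intro h; exact key _ (hk₀U u₀ hu₀) (by rw [h, hx₁])
    · intro h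
      refine key (u₀ * (k₀ * u₀ * k₀⁻¹)) (U.mul_mem hu₀ (hk₀U u₀ hu₀)) ?_
      rw [h, hx₁, ← hnu₀]; group
  obtain ⟨u', hu', hxu'⟩ := hSdec _ hx₁S
  have hu'1 : u' ≠ 1 := by
    rintro rfl
    rcases hxu' with h | h
    · exact d.t_ne_one (conj_eq_one_iff.1 h)
    · rw [mul_one] at h
      rw [h, h, d.t_sq] at hx₂
      exact d.t_ne_one hx₂
  -- conjugate by a power of `k₀` taking `u'` to `v`
  obtain ⟨j, hju⟩ : ∃ j : ℕ, k₀ ^ j * u' * (k₀ ^ j)⁻¹ = d.v := by
    rcases hUall u' hu' with rfl | rfl | rfl | rfl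
    · exact absurd rfl hu'1
    · exact ⟨0, by group⟩
    · refine ⟨2, ?_⟩
      calc k₀ ^ 2 * u' * (k₀ ^ 2)⁻¹ = k₀ * (k₀ * u' * k₀⁻¹) * k₀⁻¹ := by simp only [pow_succ, pow_zero, one_mul]; group
        _ = d.v := by rw [hk₀a, hk₀b]
    · exact ⟨1, by rw [pow_one]; exact hk₀b⟩
  set c := k₀ ^ j with hc
  have hct : c * d.t = d.t * c := ((show Commute k₀ d.t from hk₀t).pow_left j).eq
  have hcN : c ∈ Subgroup.normalizer (S : Set G) := pow_mem hk₀N j
  have hctu : c * d.t * c⁻¹ = d.t := by rw [hct, mul_inv_cancel_right]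
  have hxt : c * y₁ * c⁻¹ * d.t * (c * y₁ * c⁻¹)⁻¹ = c * (y₁ * d.t * y₁⁻¹) * c⁻¹ := by
    calc c * y₁ * c⁻¹ * d.t * (c * y₁ * c⁻¹)⁻¹
        = c * y₁ * c⁻¹ * (c * d.t * c⁻¹) * (c * y₁ * c⁻¹)⁻¹ := by rw [hctu]
      _ = _ := by group
  have hxv : c * (y₁ * d.t * y₁⁻¹) * c⁻¹ = d.v ∨ c * (y₁ * d.t * y₁⁻¹) * c⁻¹ = d.t * d.v := by
    rcases hxu' with h | h <;> rw [h]
    · exact Or.inl hju
    · right
      rw [← hju, ← mul_assoc c d.t u', hct]; group
  have hwout : ∀ g : G, c * g * c⁻¹ = c * w₁ * c⁻¹ → g = w₁ := fun g h =>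
    mul_left_cancel (mul_right_cancel h)
  refine ⟨c * y₁ * c⁻¹, c * w₁ * c⁻¹, c * (y₁ * d.t * y₁⁻¹) * c⁻¹, c * n⁻¹, ?_, ?_, hxv, hxt,
    ?_, ?_, ?_, ?_⟩
  · calc (c * y₁ * c⁻¹) ^ 3 = c * y₁ ^ 3 * c⁻¹ := by simp only [pow_succ, pow_zero, one_mul]; group
      _ = 1 := by rw [hy₁3]; group
  · intro h; exact hy₁1 (conj_eq_one_iff.1 h)
  · calc c * y₁ * c⁻¹ * (c * (y₁ * d.t * y₁⁻¹) * c⁻¹) * (c * y₁ * c⁻¹)⁻¹
        = c * (y₁ * (y₁ * d.t * y₁⁻¹) * y₁⁻¹) * c⁻¹ := by group
      _ = c * (d.t * (y₁ * d.t * y₁⁻¹)) * c⁻¹ := by rw [hx₂]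
      _ = (c * d.t * c⁻¹) * (c * (y₁ * d.t * y₁⁻¹) * c⁻¹) := by group
      _ = _ := by rw [hctu]
  · calc c * y₁ * c⁻¹ * (c * w₁ * c⁻¹) = c * (y₁ * w₁) * c⁻¹ := by group
      _ = c * (w₁ * y₁) * c⁻¹ := by rw [hyw]
      _ = _ := by group
  · rw [hw₁]; group
  · -- `c w₁ c⁻¹ ∈ S ∖ ⟨t, v⟩` inverts `T`
    intro z hz
    have hzt : Commute z d.t := d.K_comm z (d.T_le hz)
    have hvz : Commute d.v z := d.v_cent z hz
    have hiz : d.i * z * d.i = z⁻¹ := by
      have := d.i_inv z hz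
      rwa [inv_eq_self_of_sq d.i_sq] at this
    have hiz' : d.i * d.v * z * (d.i * d.v) = z⁻¹ := by
      calc d.i * d.v * z * (d.i * d.v) = d.i * (d.v * z) * (d.v * d.i) := by
            rw [hvi]; group
        _ = d.i * (z * d.v) * (d.v * d.i) := by rw [hvz.eq]
        _ = d.i * z * (d.v * d.v) * d.i := by group
        _ = z⁻¹ := by rw [d.v_sq, mul_one, hiz]
    have hT : ∀ s ∈ d.K, d.t * s * z * (d.t * s) = s * z * s := by
      intro s hs
      have h1 : Commute (s * z * s) d.t :=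
        d.K_comm _ (d.K.mul_mem (d.K.mul_mem hs (d.T_le hz)) hs)
      calc d.t * s * z * (d.t * s) = d.t * s * (z * d.t) * s := by group
        _ = d.t * (s * d.t) * z * s := by rw [hzt.eq]; group
        _ = s * z * s := by rw [d.K_comm s hs, htt]
    have hxeq := hxv
    obtain ⟨s, hs, hse⟩ := hSdec _ ((hNS c).1 hcN _ hw₁S)
    have hout : c * w₁ * c⁻¹ ≠ 1 ∧ c * w₁ * c⁻¹ ≠ d.t ∧ c * w₁ * c⁻¹ ≠ d.v ∧
        c * w₁ * c⁻¹ ≠ d.t * d.v := by
      refine ⟨fun h => hw₁out.1 (conj_eq_one_iff.1 h),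
        fun h => hw₁out.2.1 (hwout _ (by rw [h, hctu])).symm, ?_, ?_⟩ <;> intro h
      · rcases hxv with e | e
        · exact hw₁out.2.2.1 (hwout _ (by rw [e, h])).symm
        · refine hw₁out.2.2.2 (hwout _ ?_).symm
          calc c * (d.t * (y₁ * d.t * y₁⁻¹)) * c⁻¹
              = (c * d.t * c⁻¹) * (c * (y₁ * d.t * y₁⁻¹) * c⁻¹) := by group
            _ = c * w₁ * c⁻¹ := by rw [hctu, e, htt, h]
      · rcases hxv with e | e
        · refine hw₁out.2.2.2 (hwout _ ?_).symm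
          calc c * (d.t * (y₁ * d.t * y₁⁻¹)) * c⁻¹
              = (c * d.t * c⁻¹) * (c * (y₁ * d.t * y₁⁻¹) * c⁻¹) := by group
            _ = c * w₁ * c⁻¹ := by rw [hctu, e, h]
        · exact hw₁out.2.2.1 (hwout _ (by rw [e, h])).symm
    rcases (memU s).1 hs with rfl | rfl | rfl | rfl <;> rcases hse with h | h
    · exact absurd h hout.1
    · exact absurd (by rw [h, mul_one]) hout.2.1
    · exact absurd h hout.2.2.1
    · exact absurd h hout.2.2.2
    · rw [h]; exact hiz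
    · rw [h, hT _ d.i_mem]; exact hiz
    · rw [h]; exact hiz'
    · rw [h, hT _ (d.K.mul_mem d.i_mem d.v_mem)]; exact hiz'

/-- Brick B. -/
theorem twisted (d : Data G) : Twisted d := by
  classical
  haveI : Fact (Nat.Prime 3) := ⟨Nat.prime_three⟩
  have htt : ∀ g : G, d.t * (d.t * g) = g := fun g => by rw [← mul_assoc, d.t_sq, one_mul]
  obtain ⟨y, w, x, h, hy3, hy1, hx, hyt, hyx, hyw, hhw, hwT⟩ := d.exists_cycle
  have htv : Commute d.t d.v := (d.K_comm _ d.v_mem).symm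
  -- `y` normalises `T`
  have hyT : ∀ z ∈ d.T, y * z * y⁻¹ ∈ d.T := by
    intro z hz
    have hzt : Commute z d.t := d.K_comm z (d.T_le hz)
    have hzv : Commute z d.v := (d.v_cent z hz).symm
    have hzx : Commute z x := by
      rcases hx with rfl | rfl
      exacts [hzv, hzt.mul_right hzv]
    have hzy : Commute z (y⁻¹ * d.t * y) := by
      have : y⁻¹ * d.t * y = d.t * x := by
        calc y⁻¹ * d.t * y = y⁻¹ * (y ^ 3 * d.t * (y ^ 3)⁻¹) * y := by rw [hy3]; group
          _ = y * (y * d.t * y⁻¹) * y⁻¹ := by simp only [pow_succ, pow_zero, one_mul]; group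
          _ = d.t * x := by rw [hyt, hyx]
      rw [this]; exact hzt.mul_right hzx
    have hzy2 : Commute z (y⁻¹ * d.v * y) := by
      have hyix : y⁻¹ * x * y = d.t := by rw [← hyt]; group
      rcases hx with rfl | rfl
      · rw [hyix]; exact hzt
      · have : y⁻¹ * d.v * y = (y⁻¹ * d.t * y) * d.t := by
          calc y⁻¹ * d.v * y = y⁻¹ * (d.t * (d.t * d.v)) * y := by rw [htt]
            _ = (y⁻¹ * d.t * y) * (y⁻¹ * (d.t * d.v) * y) := by group
            _ = _ := by rw [hyix]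
        rw [this]; exact hzy.mul_right hzt
    have conjc : ∀ g, Commute z (y⁻¹ * g * y) → Commute (y * z * y⁻¹) g := by
      intro g hg
      calc y * z * y⁻¹ * g = y * (z * (y⁻¹ * g * y)) * y⁻¹ := by group
        _ = y * ((y⁻¹ * g * y) * z) * y⁻¹ := by rw [hg.eq]
        _ = g * (y * z * y⁻¹) := by group
    refine d.mem_T_of_odd (conjc _ hzy).eq (conjc _ hzy2).eq ?_
    rw [← MulAut.conj_apply, MulEquiv.orderOf_eq]
    exact odd_orderOf_of_mem (by rw [d.cardT]; exact d.hτodd) hz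
  obtain ⟨⟨y₀, hy₀⟩, hgen⟩ := d.T_cyclic
  have hTgen : d.T ≤ Subgroup.zpowers y₀ := by
    intro z hz
    obtain ⟨j, hj⟩ := Subgroup.mem_zpowers_iff.1 (hgen ⟨z, hz⟩)
    exact Subgroup.mem_zpowers_iff.2 ⟨j, congrArg Subtype.val hj⟩
  by_cases hcent : y * y₀ * y⁻¹ = y₀
  · -- `y` centralises `T`: impossible
    exfalso
    have hyTc : ∀ z ∈ d.T, Commute y z := by
      intro z hz
      obtain ⟨j, rfl⟩ := Subgroup.mem_zpowers_iff.1 (hTgen hz)
      exact (show Commute y y₀ from mul_inv_eq_iff_eq_mul.1 hcent).zpow_right j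
    -- move `y` into `E`
    have hy' : (h⁻¹ * y * h) * d.t = d.t * (h⁻¹ * y * h) := by
      calc (h⁻¹ * y * h) * d.t = h⁻¹ * (y * (h * d.t * h⁻¹)) * h := by group
        _ = h⁻¹ * ((h * d.t * h⁻¹) * y) * h := by rw [hhw, hyw]
        _ = d.t * (h⁻¹ * y * h) := by group
    have hy'3 : (h⁻¹ * y * h) ^ 3 = 1 := by
      calc (h⁻¹ * y * h) ^ 3 = h⁻¹ * y ^ 3 * h := by simp only [pow_succ, pow_zero, one_mul]; group
        _ = 1 := by rw [hy3]; group
    have hy'K : h⁻¹ * y * h ∈ d.K := by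
      rcases d.K_cent _ hy' with h1 | h1
      · exact h1
      · exfalso
        refine d.htK ?_
        have := pow_mem h1 3
        rwa [(show Commute d.t (h⁻¹ * y * h) from hy'.symm).mul_pow, hy'3, mul_one,
          show d.t ^ 3 = d.t by rw [pow_succ, pow_two, d.t_sq, one_mul]] at this
    obtain ⟨kk, hkk, hkE⟩ : ∃ kk ∈ d.K, kk⁻¹ * (h⁻¹ * y * h) * kk ∈ d.E := by
      have hE3 : IsPGroup 3 (d.E.subgroupOf d.K) := by
        refine IsPGroup.of_card (n := 2 * d.n + 1) ?_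
        rw [Nat.card_congr (Subgroup.subgroupOfEquivOfLe d.E_le).toEquiv, d.cardE, d.hq]
      obtain ⟨P, hP⟩ := hE3.exists_le_sylow
      have hPE : (P : Subgroup d.K) = d.E.subgroupOf d.K := by
        refine (Subgroup.eq_of_le_of_card_ge hP ?_).symm
        obtain ⟨l, hl⟩ := IsPGroup.iff_card.1 P.2
        have h1 : 3 ^ l ∣ d.q * (d.c * (d.q + 1)) := by
          rw [← mul_assoc, ← d.cardK, ← hl]; exact Subgroup.card_subgroup_dvd_card _
        have h3c : ¬ 3 ∣ d.c * (d.q + 1) := by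
          intro h3
          have := d.tw_three_dvd_q
          have := d.hc
          rcases Nat.prime_three.dvd_mul.1 h3 with h4 | h4 <;> omega
        have h2 : 3 ^ l ∣ d.q := (Nat.Coprime.pow_left _
          (Nat.prime_three.coprime_iff_not_dvd.2 h3c)).dvd_of_dvd_mul_right h1
        rw [hl, Nat.card_congr (Subgroup.subgroupOfEquivOfLe d.E_le).toEquiv, d.cardE]
        exact Nat.le_of_dvd (by have := d.q_ge; omega) h2
      have hZ : IsPGroup 3 (Subgroup.zpowers (⟨_, hy'K⟩ : d.K)) := by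
        obtain ⟨l, -, hl⟩ := (Nat.dvd_prime_pow Nat.prime_three).1
          (show orderOf (⟨_, hy'K⟩ : d.K) ∣ 3 ^ 1 from orderOf_dvd_of_pow_eq_one
            (Subtype.ext (by simpa using hy'3)))
        exact IsPGroup.of_card (n := l) (by rw [Nat.card_zpowers, hl])
      obtain ⟨Q, hQ⟩ := hZ.exists_le_sylow
      obtain ⟨cc, hcc⟩ := MulAction.exists_smul_eq d.K Q P
      refine ⟨(cc : G)⁻¹, d.K.inv_mem cc.2, ?_⟩
      have h1 : cc * ⟨_, hy'K⟩ * cc⁻¹ ∈ (P : Subgroup d.K) := by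
        rw [← hcc, Sylow.coe_subgroup_smul, Subgroup.mem_pointwise_smul_iff_inv_smul_mem]
        rw [show (MulAut.conj cc)⁻¹ • (cc * ⟨_, hy'K⟩ * cc⁻¹) = (⟨_, hy'K⟩ : d.K) by
          simp only [MulAut.smul_def, MulAut.inv_apply, MulAut.conj_symm_apply]; group]
        exact hQ (Subgroup.mem_zpowers _)
      rw [hPE, Subgroup.mem_subgroupOf] at h1
      simpa using h1
    set H' := h * kk with hH'
    set e := H'⁻¹ * y * H' with he
    have heE : e ∈ d.E := by
      rw [he, hH']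
      convert hkE using 1
      group
    have he1 : e ≠ 1 := fun h1 => hy1 (by
      calc y = H' * e * H'⁻¹ := by rw [he]; group
        _ = 1 := by rw [h1]; group)
    have hH't : H' * d.t * H'⁻¹ = w := by
      rw [← hhw, hH']
      calc h * kk * d.t * (h * kk)⁻¹ = h * (kk * d.t) * kk⁻¹ * h⁻¹ := by group
        _ = _ := by rw [d.K_comm kk hkk]; group
    obtain ⟨-, hR⟩ := d.cent_e heE he1
    have h6T : ∀ z ∈ d.T, Nat.Coprime (orderOf z) 6 := by
      intro z hz
      refine Nat.Coprime.coprime_dvd_left (orderOf_dvd_of_pow_eq_one (d.tw_T_pow hz)) ?_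
      rw [show (6 : ℕ) = 2 * 3 from rfl, Nat.coprime_mul_iff_right]
      exact ⟨(Nat.coprime_two_left.2 d.hτodd).symm,
        (Nat.prime_three.coprime_iff_not_dvd.2 d.three_not_dvd_tau).symm⟩
    have hconj6 : ∀ g : G, orderOf (H'⁻¹ * g * H') = orderOf g := fun g => by
      rw [← MulEquiv.orderOf_eq (MulAut.conj H'⁻¹) g, MulAut.conj_apply, inv_inv]
    have hcomm6 : ∀ r : G, Commute r y → Nat.Coprime (orderOf r) 6 →
        ∀ z ∈ d.T, Commute r z := by
      intro r hry hr6 z hz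
      have hc : ∀ g : G, Commute g y → (H'⁻¹ * g * H') * e = e * (H'⁻¹ * g * H') := by
        intro g hg
        rw [he]
        calc H'⁻¹ * g * H' * (H'⁻¹ * y * H') = H'⁻¹ * (g * y) * H' := by group
          _ = H'⁻¹ * (y * g) * H' := by rw [hg.eq]
          _ = _ := by group
      have h1 := hR _ _ (hc r hry) (hc z (hyTc z hz).symm) (by rw [hconj6]; exact hr6)
        (by rw [hconj6]; exact h6T z hz)
      calc r * z = H' * ((H'⁻¹ * r * H') * (H'⁻¹ * z * H')) * H'⁻¹ := by group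
        _ = H' * ((H'⁻¹ * z * H') * (H'⁻¹ * r * H')) * H'⁻¹ := by rw [h1]
        _ = z * r := by group
    -- `H = C(T)` and `H / T`
    let H : Subgroup G := Subgroup.centralizer (d.T : Set G)
    have memH : ∀ g : G, g ∈ H ↔ ∀ z ∈ d.T, Commute g z := fun g =>
      ⟨fun hg z hz => ((Subgroup.mem_centralizer_iff.1 hg) z hz).symm,
        fun hg => Subgroup.mem_centralizer_iff.2 fun z hz => ((hg z hz).eq).symm⟩
    let N : Subgroup H := d.T.subgroupOf H
    haveI hN : N.Normal := ⟨fun z hz g => by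
      have hc : (g : G) * z * (g : G)⁻¹ = z := by
        rw [((memH g).1 g.2 z hz).eq, mul_inv_cancel_right]
      show (g : G) * z * (g : G)⁻¹ ∈ d.T
      rw [hc]; exact hz⟩
    have htH : d.t ∈ H := (memH _).2 fun z hz =>
      ((show Commute z d.t from d.K_comm z (d.T_le hz))).symm
    have hvH : d.v ∈ H := (memH _).2 fun z hz => d.v_cent z hz
    have hyH : y ∈ H := (memH _).2 hyTc
    let π : H →* H ⧸ N := QuotientGroup.mk' N
    have hπ : ∀ g g' : H, π g = π g' ↔ (g : G)⁻¹ * g' ∈ d.T := fun g g' =>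
      QuotientGroup.eq.trans Iff.rfl
    let t' := π ⟨d.t, htH⟩
    let x' := π ⟨x, by rcases hx with rfl | rfl; exacts [hvH, H.mul_mem htH hvH]⟩
    let y' := π ⟨y, hyH⟩
    have hπ1 : ∀ g : H, π g = 1 ↔ (g : G) ∈ d.T := fun g => QuotientGroup.eq_one_iff g
    have hsq : ∀ g : H, (g : G) * g = 1 → π g = 1 → g = 1 := fun g hg h1 =>
      Subtype.ext (d.T_sq_eq_one ((hπ1 g).1 h1) hg)
    have ht' : t' * t' = 1 := by
      rw [← map_mul, show (⟨d.t, htH⟩ : H) * ⟨d.t, htH⟩ = 1 from Subtype.ext d.t_sq, map_one]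
    have ht'1 : t' ≠ 1 := fun h1 =>
      d.t_ne_one (congrArg Subtype.val (hsq ⟨d.t, htH⟩ d.t_sq h1))
    have hx'def : x' = π ⟨d.v, hvH⟩ ∨ x' = t' * π ⟨d.v, hvH⟩ := by
      rcases hx with h1 | h1
      · left; exact congrArg π (Subtype.ext h1)
      · right; rw [← map_mul]; exact congrArg π (Subtype.ext h1)
    have hv' : π ⟨d.v, hvH⟩ ≠ 1 := fun h1 =>
      d.v_ne_one (congrArg Subtype.val (hsq ⟨d.v, hvH⟩ d.v_sq h1))
    have hvt' : π ⟨d.v, hvH⟩ ≠ t' := by
      intro h1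
      have h2 : π (⟨d.t, htH⟩ * ⟨d.v, hvH⟩) = 1 := by rw [map_mul, h1]; exact ht'
      have h3 := hsq (⟨d.t, htH⟩ * ⟨d.v, hvH⟩) (by
        show d.t * d.v * (d.t * d.v) = 1
        rw [show d.t * d.v * (d.t * d.v) = d.t * (d.v * d.t) * d.v by group, ← htv.eq, htt,
          d.v_sq]) h2
      have h4 : d.t * d.v = 1 := congrArg Subtype.val h3
      exact d.htK (by rw [eq_inv_of_mul_eq_one_left h4]; exact d.K.inv_mem d.v_mem)
    have hfour : ∀ g : H ⧸ N, (g = 1 ∨ g = t' ∨ g = π ⟨d.v, hvH⟩ ∨ g = t' * π ⟨d.v, hvH⟩) →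
        InFour t' x' g := by
      have htt' : ∀ g : H ⧸ N, t' * (t' * g) = g := fun g => by rw [← mul_assoc, ht', one_mul]
      intro g hg
      rcases hx'def with e | e <;> rcases hg with rfl | rfl | rfl | rfl <;>
        simp [InFour, e, htt']
    have hC : ∀ g : H ⧸ N, g * t' = t' * g → InFour t' x' g := by
      intro g hg
      obtain ⟨g, rfl⟩ := QuotientGroup.mk'_surjective N g
      set u : G := (g : G) * d.t * (g : G)⁻¹ with hu
      have hu2 : u * u = 1 := by
        calc u * u = (g : G) * (d.t * d.t) * (g : G)⁻¹ := by rw [hu]; group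
          _ = 1 := by rw [d.t_sq]; group
      have hz : d.t * u ∈ d.T := by
        have h2 : π (⟨d.t, htH⟩ * (g * ⟨d.t, htH⟩ * g⁻¹)) = 1 := by
          rw [map_mul, map_mul, map_mul, map_inv,
            show π g * π ⟨d.t, htH⟩ = π ⟨d.t, htH⟩ * π g from hg, mul_inv_cancel_right]
          exact ht'
        exact (hπ1 _).1 h2
      have hu' : u = d.t * (d.t * u) := (htt u).symm
      have hz2 : d.t * u * (d.t * u) = 1 := by
        generalize d.t * u = z at hz hu'
        rw [hu'] at hu2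
        calc z * z = d.t * d.t * (z * z) := by rw [d.t_sq, one_mul]
          _ = d.t * (d.t * z) * z := by group
          _ = d.t * (z * d.t) * z := by rw [d.K_comm z (d.T_le hz)]
          _ = 1 := by rw [← hu2]; group
      rw [d.T_sq_eq_one hz hz2, mul_one] at hu'
      have hgt : Commute (g : G) d.t := mul_inv_eq_iff_eq_mul.1 hu'
      have hy₀1 : y₀ ≠ 1 := by
        intro h1
        have h3 : d.T = ⊥ := by
          rw [eq_bot_iff]; intro z hz
          have := hTgen hz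
          rwa [h1, Subgroup.zpowers_one_eq_bot] at this
        have := d.cardT
        rw [h3, Subgroup.card_bot] at this
        have := d.hτ
        have := d.q_ge
        omega
      have key : ∀ k : H, (k : G) ∈ d.K → π k = 1 ∨ π k = π ⟨d.v, hvH⟩ := by
        intro k hk
        rcases d.T_cent y₀ hy₀ hy₀1 k hk ((memH k).1 k.2 y₀ hy₀).eq with h2 | h2
        · exact Or.inl ((hπ1 k).2 h2)
        · right
          rw [hπ]
          show (k : G)⁻¹ * d.v ∈ d.T
          rw [show (k : G)⁻¹ * d.v = (d.v * k)⁻¹ by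
            rw [mul_inv_rev, inv_eq_self_of_sq d.v_sq]]
          exact d.T.inv_mem h2
      rcases d.K_cent g hgt.eq with hk | hk
      · rcases key g hk with e | e
        · exact hfour _ (Or.inl e)
        · exact hfour _ (Or.inr (Or.inr (Or.inl e)))
      · have e0 : π g = t' * π (⟨d.t, htH⟩ * g) := by
          rw [map_mul, ← mul_assoc]
          exact ((congrArg (· * π g) ht').trans (one_mul _)).symm
        rcases key (⟨d.t, htH⟩ * g) hk with e | e
        · exact hfour _ (Or.inr (Or.inl (by rw [e, mul_one] at e0; exact e0)))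
        · exact hfour _ (Or.inr (Or.inr (Or.inr (by rw [e] at e0; exact e0))))
    have hx1 : x' ≠ 1 ∧ x' ≠ t' := by
      rcases hx'def with e | e <;> rw [e]
      · exact ⟨hv', hvt'⟩
      · refine ⟨fun h1 => hvt' ?_, fun h1 => hv' (mul_eq_left.1 h1)⟩
        rw [eq_inv_of_mul_eq_one_right h1, inv_eq_self_of_sq ht']
    have hy1' : y' * t' * y'⁻¹ = x' := by
      rw [← map_inv, ← map_mul, ← map_mul]
      exact congrArg π (Subtype.ext hyt)
    have hy2' : y' * x' * y'⁻¹ = t' * x' := by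
      rw [← map_inv, ← map_mul, ← map_mul, ← map_mul]
      exact congrArg π (Subtype.ext hyx)
    have h3' : ∀ g : H ⧸ N, g ^ 3 = 1 → t' * g * t' = g⁻¹ → g = 1 := by
      intro g hg3 hinv
      obtain ⟨g, rfl⟩ := QuotientGroup.mk'_surjective N g
      have hg3T : (g : G) ^ 3 ∈ d.T := by
        have : π (g ^ 3) = 1 := by rw [map_pow]; exact hg3
        exact (hπ1 _).1 this
      set f : H := g ^ d.τ with hf
      have hf3 : (f : G) ^ 3 = 1 := by
        rw [hf, Subgroup.coe_pow, ← pow_mul, mul_comm, pow_mul]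
        exact d.tw_T_pow hg3T
      have hfinv : π (⟨d.t, htH⟩ * f * ⟨d.t, htH⟩ * f) = 1 := by
        have h1 : MulAut.conj t' (π g) = (π g)⁻¹ := by
          rw [MulAut.conj_apply, inv_eq_self_of_sq ht']; exact hinv
        have h2 := map_pow (MulAut.conj t') (π g) d.τ
        rw [h1, MulAut.conj_apply, inv_eq_self_of_sq ht', inv_pow, ← map_pow] at h2
        rw [map_mul, map_mul, map_mul]
        show t' * π (g ^ d.τ) * t' * π (g ^ d.τ) = 1
        rw [h2, inv_mul_cancel]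
      have hzT := (hπ1 _).1 hfinv
      simp only [Subgroup.coe_mul] at hzT
      set z := d.t * (f : G) * d.t * f with hz
      have hzf : Commute z (f : G)⁻¹ := ((memH f).1 f.2 z hzT).symm.inv_right
      have hz1 : z = 1 := by
        have h4 : d.t * (f : G) * d.t = z * (f : G)⁻¹ := by rw [hz]; group
        have h5 : (d.t * (f : G) * d.t) ^ 3 = 1 := by
          have := map_pow (MulAut.conj d.t) (f : G) 3
          rw [hf3, map_one, MulAut.conj_apply, inv_eq_self_of_sq d.t_sq] at this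
          exact this.symm
        rw [h4, hzf.mul_pow, inv_pow, hf3, inv_one, mul_one] at h5
        exact orderOf_eq_one_iff.1 (Nat.eq_one_of_dvd_coprimes
          (Nat.Coprime.coprime_dvd_right (by norm_num : 3 ∣ 6) (h6T z hzT)) dvd_rfl
          (orderOf_dvd_of_pow_eq_one h5))
      have hreal : d.t * (f : G) * d.t⁻¹ = (f : G)⁻¹ := by
        rw [inv_eq_self_of_sq d.t_sq]
        exact eq_inv_of_mul_eq_one_left (by rw [← hz, hz1])
      have hf1 := d.not_real hf3 hreal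
      have hgτ : π g ^ d.τ = 1 := by
        rw [← map_pow, hπ1]; exact (hf1 ▸ d.T.one_mem)
      exact orderOf_eq_one_iff.1 (Nat.eq_one_of_dvd_coprimes
        (Nat.prime_three.coprime_iff_not_dvd.2 d.three_not_dvd_tau)
        (orderOf_dvd_of_pow_eq_one hg3) (orderOf_dvd_of_pow_eq_one hgτ))
    obtain ⟨h12, hinv4⟩ := TwistAux.twelve ht' ht'1 hx1.1 hx1.2 hC hy1' hy2' h3'
    -- `R = T`
    have h6mem : ∀ g : H, Nat.Coprime (orderOf (g : G)) 6 → (g : G) ∈ d.T := by
      intro g hg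
      have h1 : (g : G) ^ 12 ∈ d.T := by
        have : π (g ^ 12) = 1 := by rw [map_pow, ← h12]; exact pow_card_eq_one'
        exact (hπ1 _).1 this
      obtain ⟨m, hm⟩ := exists_pow_eq_self_of_coprime (x := (g : G))
        (show Nat.Coprime 12 (orderOf (g : G)) by
          refine Nat.Coprime.symm (Nat.Coprime.coprime_dvd_right ?_
            (hg.pow_right 2))
          norm_num)
      rw [← hm]
      exact pow_mem h1 m
    have hinvol : ∀ g : G, g ∈ H → g * g = 1 → g ≠ 1 →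
        g = d.t ∨ g = d.v ∨ g = d.t * d.v := by
      intro g hg hg2 hg1
      have h1 := hinv4 (π ⟨g, hg⟩) (by
        rw [← map_mul, show (⟨g, hg⟩ : H) * ⟨g, hg⟩ = 1 from Subtype.ext hg2, map_one])
      have key : ∀ s : H, (s : G) * s = 1 → π ⟨g, hg⟩ = π s → g = s := by
        intro s hs he
        rw [hπ] at he
        generalize hz : g⁻¹ * (s : G) = z at he
        have hz2 : z * z = 1 := by
          have hsz : (s : G) = g * z := by rw [← hz]; group
          have hgz : Commute g z := (memH g).1 hg z he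
          rw [hsz, hgz.symm.mul_mul_mul_comm, hg2, one_mul] at hs
          exact hs
        rw [d.T_sq_eq_one he hz2] at hz
        exact (inv_mul_eq_one.1 hz)
      have hg1' : π ⟨g, hg⟩ ≠ 1 := fun he =>
        hg1 (congrArg Subtype.val (hsq ⟨g, hg⟩ hg2 he))
      have htv2 : d.t * d.v * (d.t * d.v) = 1 := by
        rw [show d.t * d.v * (d.t * d.v) = d.t * (d.v * d.t) * d.v by group, ← htv.eq, htt,
          d.v_sq]
      have htt' : t' * (t' * π ⟨d.v, hvH⟩) = π ⟨d.v, hvH⟩ := by rw [← mul_assoc, ht', one_mul]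
      have kv := key ⟨d.v, hvH⟩ d.v_sq
      have ktv := key (⟨d.t, htH⟩ * ⟨d.v, hvH⟩) htv2
      rcases h1 with e | e | e | e
      · exact absurd e hg1'
      · exact Or.inl (key ⟨d.t, htH⟩ d.t_sq e)
      · rcases hx'def with f | f <;> rw [f] at e
        · exact Or.inr (Or.inl (kv e))
        · exact Or.inr (Or.inr (ktv (by rw [map_mul]; exact e)))
      · rcases hx'def with f | f <;> rw [f] at e
        · exact Or.inr (Or.inr (ktv (by rw [map_mul]; exact e)))
        · rw [htt'] at e; exact Or.inr (Or.inl (kv e))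
    -- `E' = H' E H'⁻¹` embeds in the permutations of `{t, v, tv}`
    have hεy : ∀ ε ∈ d.E, Commute (H' * ε * H'⁻¹) y := by
      intro ε hε
      have : y = H' * e * H'⁻¹ := by rw [he]; group
      rw [this]
      calc H' * ε * H'⁻¹ * (H' * e * H'⁻¹) = H' * (ε * e) * H'⁻¹ := by group
        _ = H' * (e * ε) * H'⁻¹ := by rw [d.E_comm ε hε e heE]
        _ = _ := by group
    have hεT : ∀ ε ∈ d.E, ∀ z ∈ d.T, H' * ε * H'⁻¹ * z * (H' * ε * H'⁻¹)⁻¹ ∈ d.T := by
      intro ε hε z hz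
      have h6 : Nat.Coprime (orderOf (H' * ε * H'⁻¹ * z * (H' * ε * H'⁻¹)⁻¹)) 6 := by
        rw [← MulAut.conj_apply, MulEquiv.orderOf_eq]; exact h6T z hz
      have hcy : Commute (H' * ε * H'⁻¹ * z * (H' * ε * H'⁻¹)⁻¹) y :=
        (((hεy ε hε).mul_left (hyTc z hz).symm).mul_left (hεy ε hε).inv_left)
      exact h6mem ⟨_, (memH _).2 (hcomm6 _ hcy h6)⟩ h6
    have hεH : ∀ ε ∈ d.E, ∀ g ∈ H, H' * ε * H'⁻¹ * g * (H' * ε * H'⁻¹)⁻¹ ∈ H := by
      intro ε hε g hg
      rw [memH]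
      intro z hz
      set f := H' * ε * H'⁻¹ with hf
      have h1 : f⁻¹ * z * f ∈ d.T := by
        have := hεT ε⁻¹ (d.E.inv_mem hε) z hz
        convert this using 1
        rw [hf]; group
      have h2 := (memH g).1 hg _ h1
      calc f * g * f⁻¹ * z = f * (g * (f⁻¹ * z * f)) * f⁻¹ := by group
        _ = f * ((f⁻¹ * z * f) * g) * f⁻¹ := by rw [h2.eq]
        _ = z * (f * g * f⁻¹) := by group
    let Ω : Finset G := {d.t, d.v, d.t * d.v}
    have hΩ : ∀ ε ∈ d.E, ∀ g : G, g ∈ H → g * g = 1 → g ≠ 1 →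
        H' * ε * H'⁻¹ * g * (H' * ε * H'⁻¹)⁻¹ ∈ Ω := by
      intro ε hε g hg hg2 hg1
      have := hinvol _ (hεH ε hε g hg) (by
        generalize H' * ε * H'⁻¹ = f
        calc f * g * f⁻¹ * (f * g * f⁻¹) = f * (g * g) * f⁻¹ := by group
          _ = 1 := by rw [hg2]; group) (fun h1 => hg1 (conj_eq_one_iff.1 h1))
      simp only [Ω, Finset.mem_insert, Finset.mem_singleton]
      exact this
    let F : d.E → Ω × Ω := fun ε =>
      (⟨_, hΩ ε ε.2 d.t htH d.t_sq d.t_ne_one⟩, ⟨_, hΩ ε ε.2 d.v hvH d.v_sq d.v_ne_one⟩)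
    have hF : Function.Injective F := by
      intro ε₁ ε₂ h12
      simp only [F, Prod.mk.injEq, Subtype.mk.injEq] at h12
      set f := H' * ((ε₂ : G)⁻¹ * ε₁) * H'⁻¹ with hf
      have key : ∀ g : G, H' * ε₁ * H'⁻¹ * g * (H' * ε₁ * H'⁻¹)⁻¹ =
          H' * ε₂ * H'⁻¹ * g * (H' * ε₂ * H'⁻¹)⁻¹ → f * g = g * f := by
        intro g hg
        refine mul_inv_eq_iff_eq_mul.1 ?_
        calc f * g * f⁻¹ = (H' * ε₂ * H'⁻¹)⁻¹ *
            (H' * ε₁ * H'⁻¹ * g * (H' * ε₁ * H'⁻¹)⁻¹) * (H' * ε₂ * H'⁻¹) := by rw [hf]; group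
          _ = g := by rw [hg]; group
      have hεmem : (ε₂ : G)⁻¹ * ε₁ ∈ d.E := d.E.mul_mem (d.E.inv_mem ε₂.2) ε₁.2
      have hford : orderOf f = orderOf ((ε₂ : G)⁻¹ * ε₁) := by
        rw [hf, ← MulAut.conj_apply, MulEquiv.orderOf_eq]
      have h3 : orderOf f ∣ 3 := by
        rw [hford]; exact orderOf_dvd_of_pow_eq_one (d.E_pow _ hεmem)
      have hfT := d.mem_T_of_odd (key _ h12.1) (key _ h12.2) (Odd.of_dvd_nat (by decide) h3)
      have hf1 : f = 1 := orderOf_eq_one_iff.1 (Nat.eq_one_of_dvd_coprimes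
        (Nat.Coprime.coprime_dvd_right (by norm_num : 3 ∣ 6) (h6T f hfT)) dvd_rfl h3)
      rw [hf, conj_eq_one_iff, inv_mul_eq_one] at hf1
      exact (Subtype.ext hf1).symm
    have hle := Nat.card_le_card_of_injective F hF
    rw [d.cardE, Nat.card_prod, Nat.card_eq_fintype_card, Fintype.card_coe] at hle
    have h3 : Ω.card ≤ 3 := Finset.card_le_three
    have := Nat.mul_le_mul h3 h3
    have := d.q_ge
    omega
  · -- `y` acts on `T` with order `3`
    have hne1 : y * y₀ * y⁻¹ ≠ y₀⁻¹ := by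
      intro h1
      refine hcent ?_
      have h2 : y₀ = y₀⁻¹ :=
        calc y₀ = y ^ 3 * y₀ * (y ^ 3)⁻¹ := by rw [hy3]; group
          _ = y * (y * (y * y₀ * y⁻¹) * y⁻¹) * y⁻¹ := by simp only [pow_succ, pow_zero, one_mul]; group
          _ = y * (y * y₀⁻¹ * y⁻¹) * y⁻¹ := by rw [h1]
          _ = y * (y * y₀ * y⁻¹)⁻¹ * y⁻¹ := by group
          _ = y₀⁻¹ := by rw [h1, inv_inv, h1]
      rw [d.T_sq_eq_one hy₀ (eq_inv_iff_mul_eq_one.1 h2)]
      group
    refine ⟨y, y₀, hyT, hy₀, hTgen, hcent, hne1, fun h1 => hcent ?_, fun h1 => hcent ?_⟩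
    · calc y * y₀ * y⁻¹ = y * (y * y * y₀ * (y * y)⁻¹) * y⁻¹ := by rw [h1]
        _ = y ^ 3 * y₀ * (y ^ 3)⁻¹ := by simp only [pow_succ, pow_zero, one_mul]; group
        _ = y₀ := by rw [hy3]; group
    · have h2 : y₀ = y * y₀⁻¹ * y⁻¹ :=
        calc y₀ = y ^ 3 * y₀ * (y ^ 3)⁻¹ := by rw [hy3]; group
          _ = y * (y * y * y₀ * (y * y)⁻¹) * y⁻¹ := by simp only [pow_succ, pow_zero, one_mul]; group
          _ = y * y₀⁻¹ * y⁻¹ := by rw [h1]
      refine absurd ?_ hne1
      calc y * y₀ * y⁻¹ = (y * y₀⁻¹ * y⁻¹)⁻¹ := by group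
        _ = y₀⁻¹ := by rw [← h2]

end

end Cfsg.Agent.Lib.ReeThree91
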