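import Cfsg.Agent.Lib.ReeThree91.Coeff

/-!
The integral vectors on irreducible characters, their inner products, and the value at `t`.
-/

set_option autoImplicit false

namespace Cfsg.Agent.Lib.ReeThree91

open Cfsg Cfsg.Agent.Lib.Chars
open scoped ComplexConjugate Classical

universe u

variable {G : Type u} [Group G] [Fintype G] (d : Data G)

noncomputable instance commGroupT : CommGroup d.T :=
  { (inferInstance : Group d.T) with mul_comm := fun a b => Subtype.ext (d.T_comm a.2 b.2) }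

noncomputable instance commGroupE : CommGroup d.E :=
  { (inferInstance : Group d.E) with mul_comm := fun a b => Subtype.ext (d.E_comm a a.2 b b.2) }

instance normalE : (d.E.subgroupOf d.B).Normal :=
  ⟨fun n hn b => by
    rw [Subgroup.mem_subgroupOf] at hn ⊢
    exact d.B_norm b b.2 n hn⟩

noncomputable instance commGroupQ : CommGroup (d.B ⧸ d.E.subgroupOf d.B) :=
  { (inferInstance : Group (d.B ⧸ d.E.subgroupOf d.B)) with
    mul_comm := fun a b => by
      induction a using QuotientGroup.induction_on with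
      | _ a =>
        induction b using QuotientGroup.induction_on with
        | _ b =>
          rw [← QuotientGroup.mk_mul, ← QuotientGroup.mk_mul, QuotientGroup.eq,
            Subgroup.mem_subgroupOf]
          simpa [mul_assoc] using d.B_quot_comm _ (d.B.inv_mem b.2) _ (d.B.inv_mem a.2) }

noncomputable instance fintypeDualT : Fintype (d.T →* ℂˣ) :=
  @Fintype.ofFinite _ finite_dual

noncomputable instance fintypeDualQ : Fintype ((d.B ⧸ d.E.subgroupOf d.B) →* ℂˣ) :=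
  @Fintype.ofFinite _ finite_dual

namespace Data

theorem card_quot : Nat.card (d.B ⧸ d.E.subgroupOf d.B) = d.c := by
  have h := Subgroup.card_eq_card_quotient_mul_card_subgroup (d.E.subgroupOf d.B)
  rw [Nat.card_congr (Subgroup.subgroupOfEquivOfLe d.EB).toEquiv, d.cardE, d.cardB, mul_comm] at h
  exact (Nat.eq_of_mul_eq_mul_right d.q_pos h).symm

theorem cube_mem {b : G} (hb : b ∈ d.B) (h3 : b ^ 3 = 1) : b ∈ d.E := by
  have h := Subgroup.pow_index_mem (d.E.subgroupOf d.B) (⟨b, hb⟩ : d.B)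
  rw [Subgroup.index_eq_card, d.card_quot, Subgroup.mem_subgroupOf, SubgroupClass.coe_pow] at h
  rw [← Nat.div_add_mod d.c 3, d.c_mod, pow_add, pow_mul, h3, one_pow, one_mul, pow_one] at h
  exact h

theorem exists_psi : ∃ ψ : d.E →* ℂˣ, ψ ≠ 1 := by
  have : Nontrivial d.E := Finite.one_lt_card_iff_nontrivial.mp (by
    rw [d.cardE, d.hq]; exact Nat.one_lt_pow (by omega) (by norm_num))
  obtain ⟨e, he⟩ := exists_ne (1 : d.E)
  obtain ⟨φ, hφ⟩ := CommGroup.exists_apply_ne_one_of_hasEnoughRootsOfUnity d.E ℂ he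
  exact ⟨φ, fun h => hφ (by rw [h]; rfl)⟩

/-- `∑ α a * conj (χ a)` over a subgroup. -/
noncomputable def pl (A : Subgroup G) (α : A → ℂ) (χ : IrrCharacter G) : ℂ :=
  ∑ a : A, α a * conj ((χ : G → ℂ) (a : G))

/-- The integer `|A|⁻¹ * col`. -/
noncomputable def fc (A : Subgroup G) (α : A →* ℂˣ) (χ : IrrCharacter G) : ℤ :=
  if h : ∃ k : ℤ, d.col A (fun a => (α a : ℂ)) χ = (Nat.card A : ℂ) * k then h.choose else 0

theorem exists_fc {A : Subgroup G} (hA : A ≤ d.K) (α : A →* ℂˣ) (χ : IrrCharacter G) :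
    ∃ k s : ℤ, d.col A (fun a => (α a : ℂ)) χ = (Nat.card A : ℂ) * k ∧
      pl A (fun a => (α a : ℂ)) χ = (Nat.card A : ℂ) * s ∧ 2 ∣ k - s := by
  obtain ⟨σ, hσ, hσχ⟩ := exists_half_character (irr_isCharacter χ) A d.tt
    (fun a ha => d.K_comm a (hA ha))
  obtain ⟨s, hs⟩ := exists_int_sum_hom α (isGeneralizedCharacter_of_isCharacter
    (isCharacter_restrict A (irr_isCharacter χ)))
  obtain ⟨r, hr⟩ := exists_int_sum_hom α (isGeneralizedCharacter_of_isCharacter hσ)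
  refine ⟨2 * r - s, s, ?_, hs, ⟨r - s, by ring⟩⟩
  push_cast
  rw [mul_sub, mul_left_comm, ← hr, ← hs, Finset.mul_sum, ← Finset.sum_sub_distrib, col]
  refine Finset.sum_congr rfl fun a _ => ?_
  have e := congrArg conj (hσχ a)
  simp only [map_add, map_mul, map_ofNat] at e
  linear_combination (α a : ℂ) * e

theorem col_eq_fc {A : Subgroup G} (hA : A ≤ d.K) (α : A →* ℂˣ) (χ : IrrCharacter G) :
    d.col A (fun a => (α a : ℂ)) χ = (Nat.card A : ℂ) * d.fc A α χ := by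
  obtain ⟨k, s, hk, -, -⟩ := d.exists_fc hA α χ
  have h : ∃ k : ℤ, d.col A (fun a => (α a : ℂ)) χ = (Nat.card A : ℂ) * k := ⟨k, hk⟩
  rw [fc, dif_pos h]
  exact h.choose_spec

theorem fc_eq_of_col {A : Subgroup G} (hA : A ≤ d.K) {α : A →* ℂˣ} {χ : IrrCharacter G} {k : ℤ}
    (h : d.col A (fun a => (α a : ℂ)) χ = (Nat.card A : ℂ) * k) : d.fc A α χ = k := by
  rw [d.col_eq_fc hA] at h
  exact Int.cast_injective (mul_left_cancel₀ natCard_ne_zero h)

/-- `fc` is congruent modulo `2` to the plain coefficient. -/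
theorem exists_pl {A : Subgroup G} (hA : A ≤ d.K) (α : A →* ℂˣ) (χ : IrrCharacter G) :
    ∃ s : ℤ, pl A (fun a => (α a : ℂ)) χ = (Nat.card A : ℂ) * s ∧ 2 ∣ d.fc A α χ - s := by
  obtain ⟨k, s, hk, hs, h2⟩ := d.exists_fc hA α χ
  exact ⟨s, hs, by rw [d.fc_eq_of_col hA hk]; exact h2⟩

variable (ψ : d.E →* ℂˣ)

/-- `q⁻¹ * ∑ (ψ + conj ψ) e * conj (χ (e t))`. -/
noncomputable def gam (χ : IrrCharacter G) : ℤ := d.fc d.E ψ χ + d.fc d.E ψ⁻¹ χ

theorem col_wgt (χ : IrrCharacter G) :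
    d.col d.E (d.wgt ψ) χ = (d.q : ℂ) * d.gam ψ χ := by
  rw [gam, Int.cast_add, mul_add, ← d.cardE, ← d.col_eq_fc d.E_le, ← d.col_eq_fc d.E_le]
  simp only [col, wgt, add_mul, Finset.sum_add_distrib]
  simp only [MonoidHom.inv_apply, map_inv]

/-- The vectors `v_j`. -/
noncomputable def vec (j : d.T →* ℂˣ) (χ : IrrCharacter G) : ℤ := 2 * d.gam ψ χ - d.fc d.T j χ

/-- The vectors `B_λ`. -/
noncomputable def bvec (μ : (d.B ⧸ d.E.subgroupOf d.B) →* ℂˣ) (χ : IrrCharacter G) : ℤ :=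
  d.fc d.B (μ.comp (QuotientGroup.mk' _)) χ

variable {ψ}

theorem eq_one_of_orders {x : G} {a b : ℕ} (ha : x ^ a = 1) (hb : x ^ b = 1) (h : Nat.Coprime a b) :
    x = 1 := by
  rw [← orderOf_eq_one_iff]
  exact Nat.eq_one_of_dvd_coprimes h (orderOf_dvd_of_pow_eq_one ha) (orderOf_dvd_of_pow_eq_one hb)

theorem T_pow_tau {y : G} (hy : y ∈ d.T) : y ^ d.τ = 1 := by
  have h := congrArg Subtype.val (pow_card_eq_one' (x := (⟨y, hy⟩ : d.T)))
  rwa [d.cardT] at h

theorem sum_K_one {A : Subgroup G} (f : A → ℂ) :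
    ∑ k : d.K, ext A f ((k : G) * 1 * (k : G)⁻¹) = (Nat.card d.K : ℂ) * f 1 := by
  rw [Finset.sum_congr rfl (g := fun _ => f 1) fun k _ => by
    rw [mul_one, mul_inv_cancel, ext_of_mem _ A.one_mem]; rfl]
  simp [Nat.card_eq_fintype_card]

theorem cardK_cast : (Nat.card d.K : ℂ) = (d.q : ℂ) * d.c * (d.q + 1) := by
  rw [d.cardK]; push_cast; rfl

theorem q_cast : (d.q : ℂ) = 2 * d.c + 1 := by exact_mod_cast d.hc

theorem tau_cast : (d.q : ℂ) + 1 = 4 * d.τ := by exact_mod_cast d.hτ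

theorem gam_gam (hψ : ψ ≠ 1) : ∑ χ, d.gam ψ χ * d.gam ψ χ = 4 * (d.q : ℤ) := by
  have h := d.col_inner d.E_le d.E_le d.odd_E d.odd_E (d.wgt ψ) (d.wgt ψ)
  simp only [d.wgt_conj, d.col_wgt, map_mul, Complex.conj_natCast, map_intCast] at h
  rw [← Finset.add_sum_erase _ _ (Finset.mem_univ (1 : d.E)), OneMemClass.coe_one, d.sum_K_one, d.wgt_one, d.cardK_cast,
    Finset.sum_congr rfl (g := fun e => d.wgt ψ e * -(d.q : ℂ)) fun e he => by
      rw [d.sum_K_wgt hψ (Finset.ne_of_mem_erase he)],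
    ← Finset.sum_mul, Finset.sum_erase_eq_sub (Finset.mem_univ _), d.sum_wgt hψ, d.wgt_one,
    Finset.sum_congr rfl fun χ _ => mul_mul_mul_comm (d.q : ℂ) _ _ _, ← Finset.mul_sum] at h
  have hq0 : (d.q : ℂ) * d.q ≠ 0 := by simpa using d.q_pos.ne'
  apply Int.cast_injective (α := ℂ)
  push_cast
  refine mul_left_cancel₀ hq0 (h.trans ?_)
  rw [d.q_cast]; ring

theorem gam_fcT (j : d.T →* ℂˣ) :
    ∑ χ, d.gam ψ χ * d.fc d.T j χ = 8 * ((d.q : ℤ) - 1) := by
  have h := d.col_inner d.E_le d.T_le d.odd_E d.odd_T (d.wgt ψ) (fun y => (j y : ℂ))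
  simp only [d.col_wgt, d.col_eq_fc d.T_le, map_mul, Complex.conj_natCast, map_intCast] at h
  rw [← Finset.add_sum_erase _ _ (Finset.mem_univ (1 : d.E)), OneMemClass.coe_one, d.sum_K_one, d.wgt_one,
    Finset.sum_eq_zero (s := Finset.univ.erase 1) (fun e he => by
      rw [Finset.sum_eq_zero fun k _ => ?_, mul_zero]
      refine ext_of_notMem _ fun hk => Finset.ne_of_mem_erase he (Subtype.ext (conj_eq_one_iff.mp
        (eq_one_of_orders (a := 3) (b := d.τ) (x := (k : G) * e * (k : G)⁻¹)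
        ?_ (d.T_pow_tau hk) ((Nat.Prime.coprime_iff_not_dvd Nat.prime_three).mpr d.τ_ne))))
      rw [conj_pow, d.E_pow e e.2, mul_one, mul_inv_cancel]),
    d.cardT, d.cardK_cast, Finset.sum_congr rfl fun χ _ => mul_mul_mul_comm (d.q : ℂ) _ _ _,
    ← Finset.mul_sum] at h
  have hq0 : (d.q : ℂ) * d.τ ≠ 0 := by
    simp [d.q_pos.ne', show d.τ ≠ 0 from fun h0 => by simpa [h0] using d.hτodd]
  apply Int.cast_injective (α := ℂ)
  push_cast
  refine mul_left_cancel₀ hq0 (h.trans ?_)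
  simp only [map_one, Units.val_one]
  rw [d.tau_cast, d.q_cast]; ring

theorem fcT_fcT (j k : d.T →* ℂˣ) :
    ∑ χ, (d.fc d.T j χ * d.fc d.T k χ) = 16 * ((d.q : ℤ) - 2) +
      4 * ((if j * k = 1 then 1 else 0) + (if j = k then 1 else 0)) := by
  have h := d.col_inner d.T_le d.T_le d.odd_T d.odd_T (fun y => (j y : ℂ)) (fun y => (k y : ℂ))
  simp only [d.col_eq_fc d.T_le, map_mul, Complex.conj_natCast, map_intCast] at h
  rw [← Finset.add_sum_erase _ _ (Finset.mem_univ (1 : d.T)), OneMemClass.coe_one, d.sum_K_one, d.cardK_cast,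
    Finset.sum_congr rfl (g := fun y : d.T => 2 * (d.τ : ℂ) *
      (((j * k⁻¹) y : ℂ) + ((j * k) y : ℂ))) fun y hy => by
      rw [d.sum_K_T _ (Finset.ne_of_mem_erase hy)]
      simp only [conj_hom_apply, inv_inv]
      simp only [MonoidHom.mul_apply, MonoidHom.inv_apply, map_inv, Units.val_mul]
      ring,
    ← Finset.mul_sum, Finset.sum_erase_eq_sub (Finset.mem_univ _), Finset.sum_add_distrib,
    sum_hom_eq, sum_hom_eq, d.cardT,
    Finset.sum_congr rfl fun χ _ => mul_mul_mul_comm (d.τ : ℂ) _ _ _, ← Finset.mul_sum] at h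
  simp only [map_one, Units.val_one] at h
  have hq0 : (d.τ : ℂ) * d.τ ≠ 0 := by
    simp [show d.τ ≠ 0 from fun h0 => by simpa [h0] using d.hτodd]
  have hjk : j * k⁻¹ = 1 ↔ j = k :=
    ⟨fun h' => MonoidHom.ext fun y => mul_inv_eq_one.mp (congrFun (congrArg DFunLike.coe h') y),
      fun h' => by subst h'; ext y; simp⟩
  simp only [hjk] at h
  apply Int.cast_injective (α := ℂ)
  push_cast
  refine mul_left_cancel₀ hq0 (h.trans ?_)
  have h4 : (d.c : ℂ) = 2 * d.τ - 1 := by linear_combination -d.two_tau_sub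
  split_ifs <;> simp only [Int.cast_one, Int.cast_zero, Int.cast_ofNat, mul_one, mul_zero] <;>
    rw [d.q_cast, h4] <;> ring

theorem vec_vec (hψ : ψ ≠ 1) (j k : d.T →* ℂˣ) :
    ∑ χ, d.vec ψ j χ * d.vec ψ k χ
      = 4 * ((if j * k = 1 then 1 else 0) + (if j = k then 1 else 0)) := by
  have e : ∀ χ, d.vec ψ j χ * d.vec ψ k χ = 4 * (d.gam ψ χ * d.gam ψ χ)
      - 2 * (d.gam ψ χ * d.fc d.T j χ) - 2 * (d.gam ψ χ * d.fc d.T k χ)
      + d.fc d.T j χ * d.fc d.T k χ := fun χ => by simp only [vec]; ring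
  simp only [e, Finset.sum_add_distrib, Finset.sum_sub_distrib, ← Finset.mul_sum, d.gam_gam hψ,
    d.gam_fcT, d.fcT_fcT]
  ring

theorem bvec_gam (hψ : ψ ≠ 1) (μ : (d.B ⧸ d.E.subgroupOf d.B) →* ℂˣ) :
    ∑ χ, d.bvec μ χ * d.gam ψ χ = 4 := by
  set α := μ.comp (QuotientGroup.mk' (d.E.subgroupOf d.B)) with hα
  have hαE : ∀ (b : d.B), (b : G) ∈ d.E → α b = 1 := fun b hb => by
    rw [hα, MonoidHom.comp_apply, QuotientGroup.mk'_apply,
      (QuotientGroup.eq_one_iff b).mpr (Subgroup.mem_subgroupOf.mpr hb), map_one]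
  have h := d.col_inner d.B_le d.E_le d.odd_B d.odd_E (fun b => (α b : ℂ)) (d.wgt ψ)
  simp only [d.wgt_conj, d.col_wgt, d.col_eq_fc d.B_le, map_mul, Complex.conj_natCast,
    map_intCast] at h
  have key : ∀ b : d.B, (α b : ℂ) * ∑ k : d.K, ext d.E (d.wgt ψ) ((k : G) * b * (k : G)⁻¹)
      = if (b : G) ∈ d.E then
          (if (b : G) = 1 then 2 * (Nat.card d.K : ℂ) else -(d.q : ℂ)) else 0 := by
    intro b
    split_ifs with hb hb1
    · obtain rfl : b = 1 := Subtype.ext hb1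
      rw [OneMemClass.coe_one, d.sum_K_one, d.wgt_one, map_one,
        Units.val_one]
      ring
    · rw [hαE b hb, Units.val_one, one_mul]
      exact d.sum_K_wgt hψ (e := ⟨b, hb⟩) (fun h' => hb1 (congrArg Subtype.val h'))
    · rw [Finset.sum_eq_zero fun k _ => ext_of_notMem _ fun hk => hb (d.cube_mem b.2 ?_), mul_zero]
      have := d.E_pow _ hk
      rwa [conj_pow, conj_eq_one_iff] at this
  rw [Finset.sum_congr rfl fun b _ => key b,
    sum_subgroup_eq_of_le d.EB (fun g : G => if g ∈ d.E then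
      (if g = 1 then 2 * (Nat.card d.K : ℂ) else -(d.q : ℂ)) else 0) (fun g _ hg => if_neg hg),
    Finset.sum_congr rfl fun e _ => if_pos (SetLike.coe_mem e),
    ← Finset.add_sum_erase _ _ (Finset.mem_univ (1 : d.E)), OneMemClass.coe_one, if_pos rfl,
    Finset.sum_congr rfl fun (e : d.E) he => if_neg fun h' : (e : G) = 1 =>
      Finset.ne_of_mem_erase he (Subtype.ext h'),
    Finset.sum_const, Finset.card_erase_of_mem (Finset.mem_univ _), Finset.card_univ,
    ← Nat.card_eq_fintype_card, d.cardB, d.cardE, nsmul_eq_mul, Nat.cast_sub d.q_pos,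
    d.cardK_cast, Finset.sum_congr rfl fun χ _ => mul_mul_mul_comm ((d.q * d.c : ℕ) : ℂ) _ _ _,
    ← Finset.mul_sum] at h
  have hq0 : ((d.q * d.c : ℕ) : ℂ) * d.q ≠ 0 := by
    simp [d.q_pos.ne', show d.c ≠ 0 from fun h0 => by simpa [h0] using d.odd_c]
  apply Int.cast_injective (α := ℂ)
  push_cast [bvec]
  refine mul_left_cancel₀ hq0 (h.trans ?_)
  push_cast
  rw [d.q_cast]; ring

theorem bvec_fcT (μ : (d.B ⧸ d.E.subgroupOf d.B) →* ℂˣ) (j : d.T →* ℂˣ) :
    ∑ χ, d.bvec μ χ * d.fc d.T j χ = 8 := by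
  set α := μ.comp (QuotientGroup.mk' (d.E.subgroupOf d.B)) with hα
  have h := d.col_inner d.B_le d.T_le d.odd_B d.odd_T (fun b => (α b : ℂ)) (fun y => (j y : ℂ))
  simp only [d.col_eq_fc d.B_le, d.col_eq_fc d.T_le, map_mul, Complex.conj_natCast,
    map_intCast] at h
  rw [Finset.sum_eq_single (1 : d.B) (fun b _ hb => by
      rw [Finset.sum_eq_zero fun k _ => ?_, mul_zero]
      refine ext_of_notMem _ fun hk => hb (Subtype.ext (conj_eq_one_iff.mp (eq_one_of_orders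
        (a := d.q * d.c) (b := d.τ) (x := (k : G) * b * (k : G)⁻¹) ?_ (d.T_pow_tau hk)
        (Nat.Coprime.mul_left ?_ d.cτ_coprime))))
      · rw [conj_pow, ← d.cardB, show (b : G) ^ Nat.card d.B = 1 from
          congrArg Subtype.val (pow_card_eq_one' (x := b)), mul_one, mul_inv_cancel]
      · rw [d.hq]
        exact Nat.Coprime.pow_left _ ((Nat.Prime.coprime_iff_not_dvd Nat.prime_three).mpr d.τ_ne))
      (fun h => absurd (Finset.mem_univ _) h),
    OneMemClass.coe_one, d.sum_K_one, d.cardB, d.cardT, d.cardK_cast,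
    Finset.sum_congr rfl fun χ _ => mul_mul_mul_comm ((d.q * d.c : ℕ) : ℂ) _ _ _,
    ← Finset.mul_sum] at h
  have hq0 : ((d.q * d.c : ℕ) : ℂ) * d.τ ≠ 0 := by
    simp [d.q_pos.ne', show d.c ≠ 0 from fun h0 => by simpa [h0] using d.odd_c,
      show d.τ ≠ 0 from fun h0 => by simpa [h0] using d.hτodd]
  apply Int.cast_injective (α := ℂ)
  push_cast [bvec]
  refine mul_left_cancel₀ hq0 (h.trans ?_)
  simp only [map_one, Units.val_one]
  push_cast
  rw [d.tau_cast]; ring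

theorem bvec_vec (hψ : ψ ≠ 1) (μ : (d.B ⧸ d.E.subgroupOf d.B) →* ℂˣ) (j : d.T →* ℂˣ) :
    ∑ χ, d.bvec μ χ * d.vec ψ j χ = 0 := by
  simp only [vec, mul_sub, Finset.sum_sub_distrib, mul_left_comm _ (2 : ℤ), ← Finset.mul_sum,
    d.bvec_gam hψ, d.bvec_fcT]
  norm_num

theorem card_conj_B_le {k : G} (hk : k ∈ d.K) (hkB : k ∉ d.B) :
    (Finset.univ.filter fun b : d.B => k * b * k⁻¹ ∈ d.B).card ≤ d.c := by
  rw [← d.card_quot, Nat.card_eq_fintype_card, ← Finset.card_univ]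
  refine Finset.card_le_card_of_injOn (fun b => (QuotientGroup.mk b : d.B ⧸ d.E.subgroupOf d.B))
    (fun _ _ => Finset.mem_univ _) fun a ha b hb hab => ?_
  simp only [Finset.coe_filter, Finset.mem_univ, true_and, Set.mem_ofPred_eq] at ha hb
  rw [QuotientGroup.eq, Subgroup.mem_subgroupOf, Subgroup.coe_mul, InvMemClass.coe_inv] at hab
  by_contra hne
  have hx1 : (a : G)⁻¹ * b ≠ 1 := fun h => hne (Subtype.ext (inv_mul_eq_one.mp h))
  refine hkB (d.B_of_conj _ hab hx1 k hk (d.cube_mem ?_ ?_))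
  · rw [show k * ((a : G)⁻¹ * b) * k⁻¹ = (k * a * k⁻¹)⁻¹ * (k * b * k⁻¹) by group]
    exact d.B.mul_mem (d.B.inv_mem ha) hb
  · rw [conj_pow, d.E_pow _ hab, mul_one, mul_inv_cancel]

theorem bvec_sq (μ : (d.B ⧸ d.E.subgroupOf d.B) →* ℂˣ) : ∑ χ, d.bvec μ χ * d.bvec μ χ ≤ 4 := by
  set α := μ.comp (QuotientGroup.mk' (d.E.subgroupOf d.B)) with hα
  have h := d.col_inner d.B_le d.B_le d.odd_B d.odd_B (fun b => (α b : ℂ)) (fun b => (α b : ℂ))
  simp only [d.col_eq_fc d.B_le, map_mul, Complex.conj_natCast, map_intCast] at h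
  rw [Finset.sum_congr rfl fun χ _ => mul_mul_mul_comm (Nat.card d.B : ℂ) _ _ _,
    ← Finset.mul_sum] at h
  have hb : ∀ (b : d.B) (k : d.K),
      ‖ext d.B (fun b => conj (α b : ℂ)) ((k : G) * b * (k : G)⁻¹)‖
        = if (k : G) * b * (k : G)⁻¹ ∈ d.B then 1 else 0 := by
    intro b k
    by_cases hm : (k : G) * b * (k : G)⁻¹ ∈ d.B
    · rw [if_pos hm, ext_of_mem _ hm, Complex.norm_conj, norm_hom_apply]
    · rw [if_neg hm, ext_of_notMem _ hm, norm_zero]
  have h1 : ‖∑ b : d.B, (α b : ℂ) *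
      ∑ k : d.K, ext d.B (fun b => conj (α b : ℂ)) ((k : G) * b * (k : G)⁻¹)‖
      ≤ ((∑ k : d.K, (Finset.univ.filter fun b : d.B => (k : G) * b * (k : G)⁻¹ ∈ d.B).card : ℕ) : ℝ) := by
    refine (norm_sum_le _ _).trans ?_
    simp only [Finset.card_filter, Nat.cast_sum, norm_mul, norm_hom_apply, one_mul]
    rw [Finset.sum_comm]
    refine Finset.sum_le_sum fun b _ => (norm_sum_le _ _).trans (le_of_eq ?_)
    refine Finset.sum_congr rfl fun k _ => ?_
    rw [hb]
    split_ifs <;> simp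
  have h2 : ∑ k : d.K, (Finset.univ.filter fun b : d.B => (k : G) * b * (k : G)⁻¹ ∈ d.B).card
      ≤ 2 * (d.q * d.c) ^ 2 := by
    calc _ ≤ ∑ k : d.K, (if (k : G) ∈ d.B then d.q * d.c else d.c) := by
          refine Finset.sum_le_sum fun k _ => ?_
          split_ifs with hk
          · refine le_trans (Finset.card_le_univ _) ?_
            rw [← Nat.card_eq_fintype_card, d.cardB]
          · exact d.card_conj_B_le k.2 hk
      _ ≤ _ := by
          have hB : (Finset.univ.filter fun k : d.K => (k : G) ∈ d.B).card = d.q * d.c := by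
            rw [← d.cardB, Nat.card_eq_fintype_card, ← Finset.card_univ]
            exact Finset.card_bij (fun k hk => (⟨k, (Finset.mem_filter.mp hk).2⟩ : d.B))
              (fun _ _ => Finset.mem_univ _)
              (fun a _ b _ h => Subtype.ext (congrArg (Subtype.val : d.B → G) h :))
              (fun b _ => ⟨⟨b, d.B_le b.2⟩, Finset.mem_filter.mpr ⟨Finset.mem_univ _, b.2⟩, rfl⟩)
          have hK := Finset.card_filter_add_card_filter_not (s := (Finset.univ : Finset d.K))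
            (fun k : d.K => (k : G) ∈ d.B)
          rw [hB, Finset.card_univ, ← Nat.card_eq_fintype_card, d.cardK] at hK
          have hrest : (Finset.univ.filter fun k : d.K => (k : G) ∉ d.B).card = d.q * d.c * d.q := by
            linarith [show d.q * d.c * (d.q + 1) = d.q * d.c * d.q + d.q * d.c by ring]
          rw [Finset.sum_ite, Finset.sum_const, Finset.sum_const, hB, hrest, smul_eq_mul,
            smul_eq_mul]
          exact le_of_eq (by ring)
  have h3 := congrArg norm h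
  rw [norm_mul, norm_mul, norm_mul, RCLike.norm_natCast, RCLike.norm_ofNat, d.cardB,
    show (∑ χ, (d.fc d.B α χ : ℂ) * (d.fc d.B α χ : ℂ))
      = ((∑ χ, d.bvec μ χ * d.bvec μ χ : ℤ) : ℂ) by simp [bvec, hα],
    Complex.norm_intCast,
    abs_of_nonneg (by exact_mod_cast Finset.sum_nonneg fun χ _ => mul_self_nonneg (d.bvec μ χ))]
    at h3
  have hq0 : (0 : ℝ) < ((d.q * d.c : ℕ) : ℝ) := by
    exact_mod_cast Nat.mul_pos d.q_pos d.odd_c.pos
  have h4 : ((∑ χ, d.bvec μ χ * d.bvec μ χ : ℤ) : ℝ) ≤ 4 := by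
    refine le_of_mul_le_mul_left ?_ (mul_pos hq0 hq0)
    rw [h3]
    refine (mul_le_mul_of_nonneg_left (h1.trans (Nat.cast_le.mpr h2)) zero_le_two).trans
      (le_of_eq ?_)
    push_cast
    ring
  exact_mod_cast h4

theorem sum_bvec (χ : IrrCharacter G) :
    (d.q : ℂ) * ∑ μ, (d.bvec μ χ : ℂ) = ∑ e : d.E, conj ((χ : G → ℂ) ((e : G) * d.t)) := by
  have e1 : ∑ μ : (d.B ⧸ d.E.subgroupOf d.B) →* ℂˣ,
      d.col d.B (fun b => ((μ.comp (QuotientGroup.mk' _)) b : ℂ)) χ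
      = (d.c : ℂ) * ∑ e : d.E, conj ((χ : G → ℂ) ((e : G) * d.t)) := by
    simp only [col, MonoidHom.comp_apply, QuotientGroup.mk'_apply]
    rw [Finset.sum_comm, Finset.mul_sum,
      Finset.sum_congr rfl (s₂ := (Finset.univ : Finset d.B))
        (g := fun b => if (b : G) ∈ d.E then (d.c : ℂ) * conj ((χ : G → ℂ) ((b : G) * d.t)) else 0)
        fun b _ => by
          rw [← Finset.sum_mul, sum_dual_apply, d.card_quot, ite_mul, zero_mul]
          have hiff := (QuotientGroup.eq_one_iff (N := d.E.subgroupOf d.B) b).trans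
            Subgroup.mem_subgroupOf
          by_cases hbE : (b : G) ∈ d.E
          · rw [if_pos (hiff.mpr hbE), if_pos hbE]
          · rw [if_neg (fun h => hbE (hiff.mp h)), if_neg hbE],
      sum_subgroup_eq_of_le d.EB (fun g : G => if g ∈ d.E then
        (d.c : ℂ) * conj ((χ : G → ℂ) (g * d.t)) else 0) (fun g _ hg => if_neg hg)]
    exact Finset.sum_congr rfl fun e _ => if_pos e.2
  simp only [d.col_eq_fc d.B_le, ← Finset.mul_sum, d.cardB, Nat.cast_mul] at e1
  refine mul_left_cancel₀ (Nat.cast_ne_zero.mpr d.odd_c.pos.ne' : (d.c : ℂ) ≠ 0) ?_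
  rw [← e1]
  simp only [bvec]
  ring

theorem sum_fcT (χ : IrrCharacter G) :
    ∑ j : d.T →* ℂˣ, (d.fc d.T j χ : ℂ) = conj ((χ : G → ℂ) d.t) := by
  refine mul_left_cancel₀ (natCard_ne_zero (G := d.T)) ?_
  rw [Finset.mul_sum, Finset.sum_congr rfl fun j _ => (d.col_eq_fc d.T_le j χ).symm]
  simp only [col]
  rw [Finset.sum_comm, Finset.sum_congr rfl fun y _ => (Finset.sum_mul _ _ _).symm,
    Finset.sum_eq_single (1 : d.T) (fun y _ hy => by rw [sum_dual_apply, if_neg hy, zero_mul])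
      (fun h => absurd (Finset.mem_univ _) h), sum_dual_apply, if_pos rfl, OneMemClass.coe_one,
    one_mul]

theorem gam_key (hψ : ψ ≠ 1) (χ : IrrCharacter G) :
    (d.c : ℂ) * (d.q * d.gam ψ χ) + ∑ e : d.E, conj ((χ : G → ℂ) ((e : G) * d.t))
      = d.q * conj ((χ : G → ℂ) d.t) := by
  rw [← d.col_wgt]
  set f : G → ℂ := fun g => conj ((χ : G → ℂ) (g * d.t)) with hf
  have hfc : ∀ (k : d.B) (g : G), f ((k : G) * g * (k : G)⁻¹) = f g := by
    intro k g
    have hcl := irr_isClassFunction χ (g * d.t) (k : G)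
    simp only [hf]
    rw [← hcl]
    congr 2
    refine congrArg (χ : G → ℂ) ?_
    calc (k : G) * g * (k : G)⁻¹ * d.t
          = (k : G) * g * ((k : G)⁻¹ * d.t) := by group
      _ = (k : G) * (g * d.t) * (k : G)⁻¹ := by
          rw [d.K_comm _ (d.K.inv_mem (d.B_le k.2))]; group
  have h1 : ∀ k : d.B, ∑ e : d.E, d.wgt ψ e * f e
      = ∑ e : d.E, ext d.E (d.wgt ψ) ((k : G) * e * (k : G)⁻¹) * f e := by
    intro k
    let φ : d.E ≃ d.E :=
      { toFun := fun e => ⟨(k : G) * e * (k : G)⁻¹, d.B_norm k k.2 e e.2⟩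
        invFun := fun e => ⟨(k : G)⁻¹ * e * k, by
          simpa using d.B_norm _ (d.B.inv_mem k.2) e e.2⟩
        left_inv := fun e => Subtype.ext (by show (k : G)⁻¹ * ((k : G) * e * (k : G)⁻¹) * k = e; group)
        right_inv := fun e => Subtype.ext (by show (k : G) * ((k : G)⁻¹ * e * k) * (k : G)⁻¹ = e; group) }
    rw [← Equiv.sum_comp φ (fun e : d.E => d.wgt ψ e * f e)]
    refine Finset.sum_congr rfl fun e _ => ?_
    show d.wgt ψ ⟨(k : G) * e * (k : G)⁻¹, _⟩ * f ((k : G) * e * (k : G)⁻¹) = _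
    rw [hfc, ext_of_mem _ (d.B_norm k k.2 e e.2)]
  have h2 : ((d.q : ℂ) * d.c) * ∑ e : d.E, d.wgt ψ e * f e
      = -(d.q : ℂ) * ∑ e : d.E, f e + ((d.q : ℂ) * d.c * 2 + d.q) * f 1 := by
    rw [← Nat.cast_mul, ← d.cardB, Nat.card_eq_fintype_card, ← Finset.card_univ, ← nsmul_eq_mul,
      ← Finset.sum_const, Finset.sum_congr rfl fun k _ => h1 k, Finset.sum_comm]
    simp only [← Finset.sum_mul]
    rw [← Finset.add_sum_erase _ _ (Finset.mem_univ (1 : d.E)),
      ← Finset.add_sum_erase _ (fun e : d.E => f e) (Finset.mem_univ (1 : d.E)),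
      Finset.sum_congr rfl (g := fun e : d.E => -(d.q : ℂ) * f e) fun e he => by
        rw [d.sum_B_wgt hψ (Finset.ne_of_mem_erase he)], ← Finset.mul_sum, OneMemClass.coe_one,
      Finset.sum_congr rfl (s₂ := (Finset.univ : Finset d.B)) (g := fun _ => (2 : ℂ)) fun k _ => by
        rw [mul_one, mul_inv_cancel, ext_of_mem _ d.E.one_mem]; exact d.wgt_one ψ,
      Finset.sum_const, Finset.card_univ, ← Nat.card_eq_fintype_card, d.cardB, nsmul_eq_mul]
    push_cast
    ring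
  refine mul_left_cancel₀ (Nat.cast_ne_zero.mpr d.q_pos.ne' : (d.q : ℂ) ≠ 0) ?_
  show (d.q : ℂ) * ((d.c : ℂ) * (∑ e : d.E, d.wgt ψ e * f e) + ∑ e : d.E, f e)
    = d.q * (d.q * conj ((χ : G → ℂ) d.t))
  rw [show conj ((χ : G → ℂ) d.t) = f 1 by simp [hf]]
  linear_combination h2 + (-(d.q : ℂ) * f 1) * d.q_cast

theorem t_value (hψ : ψ ≠ 1) (χ : IrrCharacter G) :
    conj ((χ : G → ℂ) d.t)
      = ((2 * (d.τ : ℤ) * ∑ μ, d.bvec μ χ + (d.c : ℤ) * ∑ j, d.vec ψ j χ : ℤ) : ℂ) := by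
  have h1 := d.sum_bvec χ
  have h2 := d.gam_key hψ χ
  have h3 := d.sum_fcT χ
  have h4 : (∑ j, d.vec ψ j χ : ℤ) = 2 * (d.τ : ℤ) * d.gam ψ χ - ∑ j, d.fc d.T j χ := by
    simp only [vec, Finset.sum_sub_distrib, Finset.sum_const, Finset.card_univ, nsmul_eq_mul]
    rw [← Nat.card_eq_fintype_card, CommGroup.card_monoidHom_of_hasEnoughRootsOfUnity d.T ℂ,
      d.cardT]
    ring
  rw [h4]
  push_cast
  rw [h3]
  refine mul_left_cancel₀ (Nat.cast_ne_zero.mpr d.q_pos.ne' : (d.q : ℂ) ≠ 0) ?_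
  linear_combination (-2 * (d.τ : ℂ)) * h2 - (2 * (d.τ : ℂ)) * h1
    - ((d.q : ℂ) * conj ((χ : G → ℂ) d.t)) * d.two_tau_sub

variable (ψ)

theorem fcT_inv (j : d.T →* ℂˣ) (χ : IrrCharacter G) : d.fc d.T j⁻¹ χ = d.fc d.T j χ := by
  refine d.fc_eq_of_col d.T_le ?_
  rw [← d.col_eq_fc d.T_le]
  simp only [col]
  refine Fintype.sum_equiv (Equiv.inv d.T) _ _ fun y => ?_
  simp only [Equiv.inv_apply, MonoidHom.inv_apply, map_inv, InvMemClass.coe_inv]
  congr 2
  have hcl := irr_isClassFunction χ ((y : G) * d.t) d.i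
  rw [← hcl]
  congr 1
  refine congrArg (χ : G → ℂ) ?_
  calc d.i * ((y : G) * d.t) * d.i⁻¹
        = d.i * (y : G) * (d.t * d.i⁻¹) := by group
    _ = (y : G)⁻¹ * d.t := by
        rw [← d.K_comm _ (d.K.inv_mem d.i_mem), ← mul_assoc, d.i_inv _ y.2]

theorem vec_inv (j : d.T →* ℂˣ) (χ : IrrCharacter G) : d.vec ψ j⁻¹ χ = d.vec ψ j χ := by
  simp only [vec, d.fcT_inv]

theorem fcT_irrConj (j : d.T →* ℂˣ) (χ : IrrCharacter G) :
    d.fc d.T j (irrConj χ) = d.fc d.T j χ := by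
  rw [← d.fcT_inv j (irrConj χ)]
  refine d.fc_eq_of_col d.T_le ?_
  have h := congrArg conj (d.col_eq_fc d.T_le j χ)
  simp only [map_mul, Complex.conj_natCast, map_intCast, col, map_sum, Complex.conj_conj] at h
  rw [← h]
  simp only [col, irrConj_apply, Complex.conj_conj]
  refine Finset.sum_congr rfl fun y _ => ?_
  rw [conj_hom_apply, map_inv, MonoidHom.inv_apply]

theorem gam_irrConj (χ : IrrCharacter G) : d.gam ψ (irrConj χ) = d.gam ψ χ := by
  have h := congrArg conj (d.col_wgt ψ χ)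
  simp only [map_mul, Complex.conj_natCast, map_intCast, col, map_sum, Complex.conj_conj,
    d.wgt_conj] at h
  have h' := d.col_wgt ψ (irrConj χ)
  simp only [col, irrConj_apply, Complex.conj_conj] at h'
  rw [h'] at h
  exact Int.cast_injective (mul_left_cancel₀ (Nat.cast_ne_zero.mpr d.q_pos.ne' : (d.q : ℂ) ≠ 0) h)

theorem vec_irrConj (j : d.T →* ℂˣ) (χ : IrrCharacter G) :
    d.vec ψ j (irrConj χ) = d.vec ψ j χ := by
  simp only [vec, d.gam_irrConj, d.fcT_irrConj]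

theorem vec_degree (j : d.T →* ℂˣ) :
    ∑ χ : IrrCharacter G, (d.vec ψ j χ : ℂ) * (χ : G → ℂ) 1 = 0 := by
  have h1 := d.col_degree d.E_le (d.wgt ψ)
  simp only [d.col_wgt, mul_assoc, ← Finset.mul_sum] at h1
  have h1' := (mul_eq_zero.mp h1).resolve_left (Nat.cast_ne_zero.mpr d.q_pos.ne')
  have h2 := d.col_degree d.T_le (fun y => (j y : ℂ))
  simp only [d.col_eq_fc d.T_le, mul_assoc, ← Finset.mul_sum] at h2
  have h2' := (mul_eq_zero.mp h2).resolve_left natCard_ne_zero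
  simp only [vec, Int.cast_sub, Int.cast_mul, Int.cast_ofNat, sub_mul, Finset.sum_sub_distrib,
    mul_assoc, ← Finset.mul_sum, h1', h2']
  simp

theorem bvec_degree (μ : (d.B ⧸ d.E.subgroupOf d.B) →* ℂˣ) :
    ∑ χ : IrrCharacter G, (d.bvec μ χ : ℂ) * (χ : G → ℂ) 1 = 0 := by
  have h2 := d.col_degree d.B_le (fun b => ((μ.comp (QuotientGroup.mk' _)) b : ℂ))
  simp only [d.col_eq_fc d.B_le, mul_assoc, ← Finset.mul_sum] at h2
  exact (mul_eq_zero.mp h2).resolve_left natCard_ne_zero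

end Data

end Cfsg.Agent.Lib.ReeThree91
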